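import Mathlib

/-! # Gallagher's bounds on the number of conjugacy classes, via counting commuting pairs. -/

set_option autoImplicit false

namespace Cfsg.Agent.Lib.FG7.ClassNumber

open Subgroup

variable {G : Type*} [Group G]

/-- Number of commuting pairs, as a sum of centralizer orders. -/
theorem sum_card_centralizer [Fintype G] :
    ∑ x : G, Nat.card (centralizer ({x} : Set G)) = Nat.card (ConjClasses G) * Nat.card G := by
  classical
  rw [← card_comm_eq_card_conjClasses_mul_card]
  have e : Nat.card { p : G × G // Commute p.1 p.2 } = Nat.card (Σ x : G, centralizer ({x} : Set G)) := by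
    apply Nat.card_congr
    refine ⟨fun p => ⟨p.1.1, ⟨p.1.2, ?_⟩⟩, fun q => ⟨(q.1, q.2.1), ?_⟩, ?_, ?_⟩
    · rw [mem_centralizer_iff]
      intro z hz
      rw [Set.mem_singleton_iff] at hz
      subst hz
      exact p.2
    · have h := q.2.2
      rw [mem_centralizer_iff] at h
      exact h q.1 rfl
    · rintro ⟨⟨a, b⟩, h⟩; rfl
    · rintro ⟨a, ⟨b, h⟩⟩; rfl
  rw [e, Nat.card_sigma]

theorem card_subgroupOf (Y K : Subgroup G) :
    Nat.card (Y.subgroupOf K) = Nat.card (K ⊓ Y : Subgroup G) :=
  Nat.card_congr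
    { toFun := fun x => ⟨x.1.1, ⟨x.1.2, x.2⟩⟩
      invFun := fun x => ⟨⟨x.1, x.2.1⟩, x.2.2⟩
      left_inv := fun _ => rfl
      right_inv := fun _ => rfl }

theorem card_inf_mul_relIndex [Finite G] (Y K : Subgroup G) :
    Nat.card (K ⊓ Y : Subgroup G) * Y.relIndex K = Nat.card K := by
  rw [← card_subgroupOf]
  exact Subgroup.card_mul_index (Y.subgroupOf K)

/-- For subgroups `K` and `Y`: `|K| ≤ [X:Y] |K ∩ Y|`. -/
theorem card_le_index_mul_inf [Finite G] (Y K : Subgroup G) :
    Nat.card K ≤ Y.index * Nat.card (K ⊓ Y : Subgroup G) := by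
  have h1 : Y.relIndex K ≤ Y.index := by
    have := relIndex_le_of_le_right (H := Y) (K := K) (L := ⊤) le_top
      (by rw [relIndex_top_right]; exact Subgroup.index_ne_zero_of_finite)
    rwa [relIndex_top_right] at this
  rw [← card_inf_mul_relIndex Y K, mul_comm]
  exact Nat.mul_le_mul_right _ h1

/-- The subgroup `K` of `X` with `K ∩ Y` of maximal possible index `[X:Y]` in `K`: then every element of
`X` is in `K Y`. -/
theorem exists_mem_mul_of_card_eq [Finite G] (Y K : Subgroup G)
    (h : Nat.card K = Y.index * Nat.card (K ⊓ Y : Subgroup G)) (g : G) :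
    ∃ k ∈ K, ∃ y ∈ Y, g = k * y := by
  classical
  have h0 : Y.relIndex K = Y.index := by
    have h2 := card_inf_mul_relIndex Y K
    rw [h, mul_comm] at h2
    exact Nat.eq_of_mul_eq_mul_right Nat.card_pos h2
  -- the map K/(K ∩ Y) → G/Y is an injection between sets of the same size
  let f : K ⧸ Y.subgroupOf K → G ⧸ Y := fun q => Quotient.liftOn' q (fun x => QuotientGroup.mk (x : G)) (by
    intro a b hab
    rw [QuotientGroup.leftRel_apply, mem_subgroupOf] at hab
    apply QuotientGroup.eq.mpr
    simpa using hab)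
  have hf : Function.Injective f := by
    intro a b
    refine Quotient.inductionOn₂' a b ?_
    intro x y hxy
    have : (QuotientGroup.mk (x : G) : G ⧸ Y) = QuotientGroup.mk (y : G) := hxy
    rw [QuotientGroup.eq] at this
    apply Quotient.sound'
    rw [QuotientGroup.leftRel_apply, mem_subgroupOf]
    simpa using this
  have hcard : Nat.card (K ⧸ Y.subgroupOf K) = Nat.card (G ⧸ Y) := h0
  have hbij : Function.Surjective f :=
    ((Nat.bijective_iff_injective_and_card f).mpr ⟨hf, hcard⟩).2
  obtain ⟨q, hq⟩ := hbij (QuotientGroup.mk g)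
  induction q using Quotient.inductionOn' with
  | h x =>
    have h3 : (QuotientGroup.mk (x : G) : G ⧸ Y) = QuotientGroup.mk g := hq
    rw [QuotientGroup.eq] at h3
    exact ⟨x, x.2, (x : G)⁻¹ * g, h3, by group⟩

/-- Gallagher: `k(Y) ≤ [X:Y] k(X)`. -/
theorem card_conjClasses_subgroup_le [Finite G] (Y : Subgroup G) :
    Nat.card (ConjClasses Y) ≤ Y.index * Nat.card (ConjClasses G) := by
  have h1 : Nat.card { p : Y × Y // Commute p.1 p.2 } ≤ Nat.card { p : G × G // Commute p.1 p.2 } := by
    apply Nat.card_le_card_of_injective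
      (fun p : { p : Y × Y // Commute p.1 p.2 } =>
        (⟨(p.1.1, p.1.2), by have h := p.2; exact congrArg Subtype.val h⟩ : { p : G × G // Commute p.1 p.2 }))
    intro p q h
    simpa only [Subtype.ext_iff, Prod.ext_iff] using h
  rw [card_comm_eq_card_conjClasses_mul_card, card_comm_eq_card_conjClasses_mul_card,
    ← Subgroup.card_mul_index Y] at h1
  have hpos : 0 < Nat.card Y := Nat.card_pos
  apply Nat.le_of_mul_le_mul_right _ hpos
  calc Nat.card (ConjClasses Y) * Nat.card Y ≤ Nat.card (ConjClasses G) * (Nat.card Y * Y.index) := h1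
    _ = Y.index * Nat.card (ConjClasses G) * Nat.card Y := by ring

/-- The two sums of the commuting pairs in `X × Y`. -/
theorem sum_card_inf_eq_sum [Fintype G] (Y : Subgroup G) [Fintype Y] :
    ∑ x : G, Nat.card (centralizer ({x} : Set G) ⊓ Y : Subgroup G) =
      ∑ y : Y, Nat.card (centralizer ({(y : G)} : Set G)) := by
  classical
  have e1 : ∑ x : G, Nat.card (centralizer ({x} : Set G) ⊓ Y : Subgroup G) =
      Nat.card (Σ x : G, (centralizer ({x} : Set G) ⊓ Y : Subgroup G)) := by
    rw [Nat.card_sigma]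
  have e2 : ∑ y : Y, Nat.card (centralizer ({(y : G)} : Set G)) =
      Nat.card (Σ y : Y, centralizer ({(y : G)} : Set G)) := by
    rw [Nat.card_sigma]
  rw [e1, e2]
  apply Nat.card_congr
  refine ⟨fun p => ⟨⟨p.2.1, (Subgroup.mem_inf.mp p.2.2).2⟩, ⟨p.1, ?_⟩⟩,
    fun q => ⟨q.2.1, ⟨q.1.1, Subgroup.mem_inf.mpr ⟨?_, q.1.2⟩⟩⟩, ?_, ?_⟩
  · have h := (Subgroup.mem_inf.mp p.2.2).1
    rw [mem_centralizer_iff] at h
    rw [mem_centralizer_iff]
    intro z hz
    rw [Set.mem_singleton_iff] at hz
    rw [hz]
    exact (h p.1 rfl).symm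
  · have h := q.2.2
    rw [mem_centralizer_iff] at h
    rw [mem_centralizer_iff]
    intro z hz
    rw [Set.mem_singleton_iff] at hz
    rw [hz]
    exact (h q.1.1 rfl).symm
  · rintro ⟨a, ⟨b, h⟩⟩; rfl
  · rintro ⟨⟨a, ha⟩, ⟨b, h⟩⟩; rfl

/-- centralizer in the subgroup `Y` of an element of `Y`: as a subgroup of the ambient group. -/
theorem card_centralizer_subgroup (Y : Subgroup G) (y : Y) :
    Nat.card (centralizer ({y} : Set Y)) = Nat.card (centralizer ({(y : G)} : Set G) ⊓ Y : Subgroup G) := by
  apply Nat.card_congr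
  refine ⟨fun z => ⟨z.1.1, Subgroup.mem_inf.mpr ⟨?_, z.1.2⟩⟩,
    fun z => ⟨⟨z.1, (Subgroup.mem_inf.mp z.2).2⟩, ?_⟩, ?_, ?_⟩
  · have h := z.2
    rw [mem_centralizer_iff] at h
    rw [mem_centralizer_iff]
    intro w hw
    rw [Set.mem_singleton_iff] at hw
    rw [hw]
    exact congrArg Subtype.val (h y rfl)
  · have h := (Subgroup.mem_inf.mp z.2).1
    rw [mem_centralizer_iff] at h
    rw [mem_centralizer_iff]
    intro w hw
    rw [Set.mem_singleton_iff] at hw
    rw [hw]
    exact Subtype.ext (h y rfl)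
  · rintro ⟨⟨a, ha⟩, h⟩; rfl
  · rintro ⟨a, ⟨h1, h2⟩⟩; rfl

/-- Gallagher: `k(X) ≤ [X:Y] k(Y)`, and strict if `Y` is not normal. -/
theorem card_conjClasses_le_of_subgroup [Finite G] (Y : Subgroup G) :
    Nat.card (ConjClasses G) ≤ Y.index * Nat.card (ConjClasses Y) ∧
      (¬ Y.Normal → Nat.card (ConjClasses G) < Y.index * Nat.card (ConjClasses Y)) := by
  classical
  cases nonempty_fintype G
  have : Fintype Y := Fintype.ofFinite Y
  set m := Y.index with hm
  have hmpos : 0 < m := Nat.pos_of_ne_zero Subgroup.index_ne_zero_of_finite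
  have hX : Nat.card G = Nat.card Y * m := (Subgroup.card_mul_index Y).symm
  -- first inequality
  have s1 : ∑ x : G, Nat.card (centralizer ({x} : Set G)) ≤
      ∑ x : G, m * Nat.card (centralizer ({x} : Set G) ⊓ Y : Subgroup G) :=
    Finset.sum_le_sum fun x _ => card_le_index_mul_inf Y _
  have s2 : ∑ y : Y, Nat.card (centralizer ({(y : G)} : Set G)) ≤
      ∑ y : Y, m * Nat.card (centralizer ({y} : Set Y)) := by
    refine Finset.sum_le_sum fun y _ => ?_
    rw [card_centralizer_subgroup]
    exact card_le_index_mul_inf Y _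
  have s3 : ∑ x : G, m * Nat.card (centralizer ({x} : Set G) ⊓ Y : Subgroup G) =
      m * ∑ y : Y, Nat.card (centralizer ({(y : G)} : Set G)) := by
    rw [← Finset.mul_sum, sum_card_inf_eq_sum]
  have s4 : ∑ y : Y, m * Nat.card (centralizer ({y} : Set Y)) =
      m * (Nat.card (ConjClasses Y) * Nat.card Y) := by
    rw [← Finset.mul_sum, sum_card_centralizer]
  have hcY : (0:ℕ) < Nat.card Y := Nat.card_pos
  have key : ∀ a b : ℕ, a * (Nat.card Y * m) ≤ m * (m * (b * Nat.card Y)) → a ≤ m * b := by
    intro a b hab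
    have : (a) * (m * Nat.card Y) ≤ (m * b) * (m * Nat.card Y) := by nlinarith
    exact Nat.le_of_mul_le_mul_right this (Nat.mul_pos hmpos hcY)
  have hle : Nat.card (ConjClasses G) ≤ m * Nat.card (ConjClasses Y) := by
    apply key
    rw [← hX, ← sum_card_centralizer, ← s4]
    calc ∑ x : G, Nat.card (centralizer ({x} : Set G))
        ≤ ∑ x : G, m * Nat.card (centralizer ({x} : Set G) ⊓ Y : Subgroup G) := s1
      _ = m * ∑ y : Y, Nat.card (centralizer ({(y : G)} : Set G)) := s3
      _ ≤ m * ∑ y : Y, m * Nat.card (centralizer ({y} : Set Y)) := Nat.mul_le_mul_left _ s2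
  refine ⟨hle, fun hnn => lt_of_le_of_ne hle fun heq => hnn ?_⟩
  -- equality forces every term in `s1` to be an equality
  have htotal : ∑ x : G, Nat.card (centralizer ({x} : Set G)) =
      ∑ x : G, m * Nat.card (centralizer ({x} : Set G) ⊓ Y : Subgroup G) := by
    apply le_antisymm s1
    rw [s3]
    have h1 : ∑ x : G, Nat.card (centralizer ({x} : Set G)) =
        m * (m * (Nat.card (ConjClasses Y) * Nat.card Y)) := by
      rw [sum_card_centralizer, hX, heq]; ring
    rw [h1, ← s4]
    exact Nat.mul_le_mul_left _ s2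
  have hterm : ∀ x : G, Nat.card (centralizer ({x} : Set G)) =
      m * Nat.card (centralizer ({x} : Set G) ⊓ Y : Subgroup G) := by
    intro x
    exact (Finset.sum_eq_sum_iff_of_le (fun x _ => card_le_index_mul_inf Y _)).mp htotal x (Finset.mem_univ x)
  -- normality
  constructor
  intro y hy g
  obtain ⟨k, hk, y', hy', e⟩ := exists_mem_mul_of_card_eq Y (centralizer ({y} : Set G)) (hterm y) g⁻¹
  have hkc : k * y = y * k := by
    rw [mem_centralizer_iff] at hk
    exact (hk y rfl).symm
  have e2 : g = y'⁻¹ * k⁻¹ := by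
    have := congrArg (·⁻¹) e
    simpa using this
  rw [e2]
  have e3 : y'⁻¹ * k⁻¹ * y * (y'⁻¹ * k⁻¹)⁻¹ = y'⁻¹ * y * y' := by
    have : k⁻¹ * y * k = y := by rw [mul_assoc, ← hkc]; group
    calc y'⁻¹ * k⁻¹ * y * (y'⁻¹ * k⁻¹)⁻¹ = y'⁻¹ * (k⁻¹ * y * k) * y' := by group
      _ = y'⁻¹ * y * y' := by rw [this]
  rw [e3]
  exact mul_mem (mul_mem (inv_mem hy') hy) hy'

/-- `|K| = |K ∩ N| |KN/N|`, bound form. -/
theorem card_le_inf_mul_quot [Finite G] (N : Subgroup G) [N.Normal] (x : G) :
    Nat.card (centralizer ({x} : Set G)) ≤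
      Nat.card (centralizer ({x} : Set G) ⊓ N : Subgroup G) *
        Nat.card (centralizer ({(QuotientGroup.mk x : G ⧸ N)} : Set (G ⧸ N))) := by
  set K := centralizer ({x} : Set G) with hK
  -- restrict the quotient map to the centralizer
  let f : K →* centralizer ({(QuotientGroup.mk x : G ⧸ N)} : Set (G ⧸ N)) :=
    { toFun := fun k => ⟨QuotientGroup.mk (k : G), by
        rw [mem_centralizer_iff]
        intro z hz
        rw [Set.mem_singleton_iff] at hz
        rw [hz]
        have h2 := (mem_centralizer_iff.mp (show (k : G) ∈ centralizer ({x} : Set G) from k.2)) x rfl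
        rw [← QuotientGroup.mk_mul, ← QuotientGroup.mk_mul, h2]⟩
      map_one' := by ext; rfl
      map_mul' := fun a b => by ext; rfl }
  have h1 : Nat.card K = Nat.card f.ker * Nat.card f.range := by
    rw [← Subgroup.index_ker, Subgroup.card_mul_index]
  have h2 : Nat.card f.ker ≤ Nat.card (K ⊓ N : Subgroup G) := by
    apply Nat.card_le_card_of_injective
      (fun z : f.ker => (⟨z.1.1, Subgroup.mem_inf.mpr ⟨z.1.2, by
        have hz := z.2
        rw [MonoidHom.mem_ker] at hz
        have := congrArg Subtype.val hz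
        exact (QuotientGroup.eq_one_iff _).mp this⟩⟩ : (K ⊓ N : Subgroup G)))
    intro a b hab
    have h := congrArg Subtype.val hab
    exact Subtype.ext (Subtype.ext h)
  have h3 : Nat.card f.range ≤ Nat.card (centralizer ({(QuotientGroup.mk x : G ⧸ N)} : Set (G ⧸ N))) :=
    Nat.card_le_card_of_injective (fun z : f.range => z.1) (fun a b hab => Subtype.ext hab)
  rw [h1]
  exact Nat.mul_le_mul h2 h3

/-- For `y ∈ N` and a coset `u` of `N`, the elements of `u` commuting with `y` are at most `|C_N(y)|`. -/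
theorem card_filter_le [Fintype G] (N : Subgroup G) [N.Normal] (u : G ⧸ N) (y : N)
    [DecidablePred (fun x : G => (QuotientGroup.mk x : G ⧸ N) = u ∧ Commute x (y : G))] :
    (Finset.univ.filter (fun x : G => (QuotientGroup.mk x : G ⧸ N) = u ∧ Commute x (y : G))).card ≤
      Nat.card (centralizer ({y} : Set N)) := by
  rw [← Fintype.card_subtype, ← Nat.card_eq_fintype_card]
  rcases isEmpty_or_nonempty {x : G // (QuotientGroup.mk x : G ⧸ N) = u ∧ Commute x (y : G)} with he | ⟨⟨x₀, hx₀⟩⟩
  · rw [Nat.card_of_isEmpty]; exact Nat.zero_le _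
  · apply Nat.card_le_card_of_injective
      (fun x : {x : G // (QuotientGroup.mk x : G ⧸ N) = u ∧ Commute x (y : G)} =>
        (⟨⟨x₀⁻¹ * x.1, by
          have : (QuotientGroup.mk x₀ : G ⧸ N) = QuotientGroup.mk x.1 := hx₀.1.trans x.2.1.symm
          exact QuotientGroup.eq.mp this⟩, by
          rw [mem_centralizer_iff]
          intro z hz
          rw [Set.mem_singleton_iff] at hz
          rw [hz]
          apply Subtype.ext
          show (y : G) * (x₀⁻¹ * x.1) = (x₀⁻¹ * x.1) * (y : G)
          have h1' : x.1 * (y : G) = (y : G) * x.1 := x.2.2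
          have h2' : x₀ * (y : G) = (y : G) * x₀ := hx₀.2
          have h3 : x₀⁻¹ * (y : G) = (y : G) * x₀⁻¹ := by
            calc x₀⁻¹ * (y : G) = x₀⁻¹ * ((y : G) * x₀) * x₀⁻¹ := by group
              _ = x₀⁻¹ * (x₀ * (y : G)) * x₀⁻¹ := by rw [h2']
              _ = (y : G) * x₀⁻¹ := by group
          calc (y : G) * (x₀⁻¹ * x.1) = ((y : G) * x₀⁻¹) * x.1 := by group
            _ = x₀⁻¹ * (y : G) * x.1 := by rw [h3]
            _ = x₀⁻¹ * ((y : G) * x.1) := by group
            _ = x₀⁻¹ * (x.1 * (y : G)) := by rw [h1']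
            _ = (x₀⁻¹ * x.1) * (y : G) := by group⟩ : centralizer ({y} : Set N)))
    intro a b hab
    have h := congrArg (fun w : centralizer ({y} : Set N) => ((w : N) : G)) hab
    simp only at h
    exact Subtype.ext (mul_left_cancel h)

/-- Gallagher: `k(X) ≤ k(N) k(X/N)`. -/
theorem card_conjClasses_le_mul_quotient [Finite G] (N : Subgroup G) [N.Normal] :
    Nat.card (ConjClasses G) ≤ Nat.card (ConjClasses N) * Nat.card (ConjClasses (G ⧸ N)) := by
  classical
  cases nonempty_fintype G
  letI : Fintype N := Fintype.ofFinite N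
  letI : Fintype (G ⧸ N) := Fintype.ofFinite _
  set Q := G ⧸ N with hQ
  let cbar : Q → ℕ := fun u => Nat.card (centralizer ({u} : Set Q))
  let cN : G → ℕ := fun x => Nat.card (centralizer ({x} : Set G) ⊓ N : Subgroup G)
  have hcN : ∀ x : G, cN x = (Finset.univ.filter (fun y : N => Commute x (y : G))).card := by
    intro x
    rw [← Fintype.card_subtype]
    rw [← Nat.card_eq_fintype_card]
    apply Nat.card_congr
    refine ⟨fun z => ⟨⟨z.1, (Subgroup.mem_inf.mp z.2).2⟩, ?_⟩,
      fun z => ⟨z.1.1, Subgroup.mem_inf.mpr ⟨?_, z.1.2⟩⟩, ?_, ?_⟩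
    · have h := (Subgroup.mem_inf.mp z.2).1
      rw [mem_centralizer_iff] at h
      exact (h x rfl)
    · rw [mem_centralizer_iff]
      intro w hw
      rw [Set.mem_singleton_iff] at hw
      rw [hw]
      exact z.2
    · rintro ⟨a, h⟩; rfl
    · rintro ⟨⟨a, h1⟩, h2⟩; rfl
  have step1 : ∑ x : G, Nat.card (centralizer ({x} : Set G)) ≤
      ∑ x : G, cN x * cbar (QuotientGroup.mk x) :=
    Finset.sum_le_sum fun x _ => card_le_inf_mul_quot N x
  have step2 : ∑ x : G, cN x * cbar (QuotientGroup.mk x) =
      ∑ u : Q, cbar u * ∑ x ∈ Finset.univ.filter (fun x : G => (QuotientGroup.mk x : Q) = u), cN x := by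
    rw [← Finset.sum_fiberwise (s := Finset.univ) (g := fun x : G => (QuotientGroup.mk x : Q))
      (f := fun x => cN x * cbar (QuotientGroup.mk x))]
    refine Finset.sum_congr rfl fun u _ => ?_
    rw [Finset.mul_sum]
    refine Finset.sum_congr rfl fun x hx => ?_
    rw [(Finset.mem_filter.mp hx).2, mul_comm]
  have step3 : ∀ u : Q, ∑ x ∈ Finset.univ.filter (fun x : G => (QuotientGroup.mk x : Q) = u), cN x ≤
      Nat.card (ConjClasses N) * Nat.card N := by
    intro u
    have h1 : ∑ x ∈ Finset.univ.filter (fun x : G => (QuotientGroup.mk x : Q) = u), cN x =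
        ∑ y : N, (Finset.univ.filter (fun x : G => (QuotientGroup.mk x : Q) = u ∧ Commute x (y : G))).card := by
      calc ∑ x ∈ Finset.univ.filter (fun x : G => (QuotientGroup.mk x : Q) = u), cN x
          = ∑ x : G, ∑ y : N, (if (QuotientGroup.mk x : Q) = u ∧ Commute x (y : G) then 1 else 0) := by
            rw [Finset.sum_filter]
            refine Finset.sum_congr rfl fun x _ => ?_
            by_cases h : (QuotientGroup.mk x : Q) = u
            · rw [if_pos h, hcN, Finset.card_filter]
              refine Finset.sum_congr rfl fun y _ => ?_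
              simp [h]
            · rw [if_neg h]
              simp [h]
        _ = ∑ y : N, (Finset.univ.filter (fun x : G => (QuotientGroup.mk x : Q) = u ∧ Commute x (y : G))).card := by
            rw [Finset.sum_comm]
            refine Finset.sum_congr rfl fun y _ => ?_
            rw [Finset.card_filter]
    rw [h1, ← sum_card_centralizer]
    exact Finset.sum_le_sum fun y _ => card_filter_le N u y
  have hk : Nat.card (ConjClasses G) * Nat.card G ≤
      Nat.card (ConjClasses N) * Nat.card N * (Nat.card (ConjClasses Q) * Nat.card Q) := by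
    rw [← sum_card_centralizer]
    calc ∑ x : G, Nat.card (centralizer ({x} : Set G))
        ≤ ∑ x : G, cN x * cbar (QuotientGroup.mk x) := step1
      _ = ∑ u : Q, cbar u * ∑ x ∈ Finset.univ.filter (fun x : G => (QuotientGroup.mk x : Q) = u), cN x := step2
      _ ≤ ∑ u : Q, cbar u * (Nat.card (ConjClasses N) * Nat.card N) :=
          Finset.sum_le_sum fun u _ => Nat.mul_le_mul_left _ (step3 u)
      _ = Nat.card (ConjClasses N) * Nat.card N * (Nat.card (ConjClasses Q) * Nat.card Q) := by
          rw [← Finset.sum_mul, mul_comm]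
          congr 1
          exact sum_card_centralizer
  have hG : Nat.card G = Nat.card N * Nat.card Q := (Subgroup.card_mul_index N).symm
  have hpos : 0 < Nat.card G := Nat.card_pos
  apply Nat.le_of_mul_le_mul_right _ hpos
  calc Nat.card (ConjClasses G) * Nat.card G
      ≤ Nat.card (ConjClasses N) * Nat.card N * (Nat.card (ConjClasses Q) * Nat.card Q) := hk
    _ = Nat.card (ConjClasses N) * Nat.card (ConjClasses Q) * (Nat.card N * Nat.card Q) := by ring
    _ = Nat.card (ConjClasses N) * Nat.card (ConjClasses Q) * Nat.card G := by rw [hG]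

end Cfsg.Agent.Lib.FG7.ClassNumber
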