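import Mathlib
import Cfsg.Agent.Lib.FG7.FrobeniusCount
import Cfsg.Agent.Lib.FG7.ClassNumber

/-!
# Frobenius counts in cosets of a normal subgroup of prime index
-/

set_option autoImplicit false

namespace Cfsg.Agent.Lib.FG7.FrobeniusCoset

open Subgroup Cfsg.Agent.Lib.FG7.FrobeniusCount
open scoped Pointwise

universe u

variable {G : Type u} [Group G]

/-- The size of a `K`-conjugacy class. -/
theorem card_conj_sub [Finite G] (K : Subgroup G) (v : G) :
    Nat.card {w : G // ∃ k ∈ K, w = k * v * k⁻¹} = ((centralizer ({v} : Set G)).subgroupOf K).index := by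
  set C := (centralizer ({v} : Set G)).subgroupOf K with hC
  have hmemC : ∀ k : K, k ∈ C ↔ (k : G) * v = v * k := by
    intro k
    rw [hC, mem_subgroupOf, mem_centralizer_singleton_iff]
  let F : K ⧸ C → {w : G // ∃ k ∈ K, w = k * v * k⁻¹} :=
    fun q => ⟨(q.out : G) * v * (q.out : G)⁻¹, q.out, q.out.2, rfl⟩
  have hF : Function.Bijective F := by
    constructor
    · intro q₁ q₂ h
      have h1 : (q₁.out : G) * v * (q₁.out : G)⁻¹ = (q₂.out : G) * v * (q₂.out : G)⁻¹ :=
        congrArg Subtype.val h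
      rw [← QuotientGroup.out_eq' q₁, ← QuotientGroup.out_eq' q₂]
      apply QuotientGroup.eq.mpr
      rw [hmemC]
      simp only [coe_mul, coe_inv]
      have h2 : (q₂.out : G)⁻¹ * ((q₁.out : G) * v * (q₁.out : G)⁻¹) * q₂.out = v := by
        rw [h1]
        group
      calc ((q₁.out : G)⁻¹ * q₂.out) * v = (q₁.out : G)⁻¹ * q₂.out * ((q₂.out : G)⁻¹ * ((q₁.out : G) * v * (q₁.out : G)⁻¹) * q₂.out) := by
            rw [h2]
        _ = v * ((q₁.out : G)⁻¹ * q₂.out) := by group
    · rintro ⟨w, k, hk, rfl⟩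
      refine ⟨((⟨k, hk⟩ : K) : K ⧸ C), ?_⟩
      obtain ⟨c, hc⟩ := QuotientGroup.mk_out_eq_mul C (⟨k, hk⟩ : K)
      apply Subtype.ext
      show (((⟨k, hk⟩ : K) : K ⧸ C).out : G) * v * (((⟨k, hk⟩ : K) : K ⧸ C).out : G)⁻¹ = k * v * k⁻¹
      rw [hc]
      have hcm : ((c : K) : G) * v = v * ((c : K) : G) := (hmemC c).mp c.2
      simp only [coe_mul, mul_inv_rev]
      calc k * ((c : K) : G) * v * (((c : K) : G)⁻¹ * k⁻¹) = k * (((c : K) : G) * v) * ((c : K) : G)⁻¹ * k⁻¹ := by group
        _ = k * (v * ((c : K) : G)) * ((c : K) : G)⁻¹ * k⁻¹ := by rw [hcm]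
        _ = k * v * k⁻¹ := by group
  exact (Nat.card_congr (Equiv.ofBijective F hF)).symm

/-- Weighted class equation for conjugation by a subgroup. -/
theorem dvd_sum_of_conj_sub [Fintype G] (K : Subgroup G) (V : Finset G)
    (hV : ∀ k ∈ K, ∀ v ∈ V, k * v * k⁻¹ ∈ V) (f : G → ℕ)
    (hf : ∀ k ∈ K, ∀ v ∈ V, f (k * v * k⁻¹) = f v) (m : ℕ)
    (hm : ∀ v ∈ V, m ∣ ((centralizer ({v} : Set G)).subgroupOf K).index * f v) : m ∣ ∑ v ∈ V, f v := by
  classical
  let R : Setoid G :=
    { r := fun a b => ∃ k ∈ K, b = k * a * k⁻¹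
      iseqv :=
        { refl := fun a => ⟨1, K.one_mem, by simp⟩
          symm := by
            rintro a b ⟨k, hk, rfl⟩
            exact ⟨k⁻¹, K.inv_mem hk, by group⟩
          trans := by
            rintro a b c ⟨k, hk, rfl⟩ ⟨l, hl, rfl⟩
            exact ⟨l * k, K.mul_mem hl hk, by group⟩ } }
  rw [Finset.sum_partition R]
  refine Finset.dvd_sum ?_
  intro C hC
  obtain ⟨v₀, hv₀, rfl⟩ := Finset.mem_image.mp hC
  have h1 : V.filter (fun y => (⟦y⟧ : Quotient R) = Quotient.mk'' v₀) =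
      Finset.univ.filter (fun w : G => ∃ k ∈ K, w = k * v₀ * k⁻¹) := by
    ext y
    simp only [Finset.mem_filter, Finset.mem_univ, true_and]
    constructor
    · rintro ⟨_, h⟩
      exact Quotient.exact (s := R) h.symm
    · rintro ⟨k, hk, rfl⟩
      exact ⟨hV k hk v₀ hv₀, (Quotient.sound (s := R) (⟨k, hk, rfl⟩ : R.r v₀ (k * v₀ * k⁻¹))).symm⟩
  rw [h1]
  have h2 : ∀ x ∈ Finset.univ.filter (fun w : G => ∃ k ∈ K, w = k * v₀ * k⁻¹), f x = f v₀ := by
    intro x hx
    obtain ⟨k, hk, rfl⟩ := (Finset.mem_filter.mp hx).2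
    exact hf k hk v₀ hv₀
  rw [Finset.sum_congr rfl h2, Finset.sum_const, smul_eq_mul, ← card_subtype_eq_filter, card_conj_sub]
  exact hm v₀ hv₀

/-- In a group with a normal subgroup of prime index, all nontrivial cosets contain the same number of
`q`-elements. -/
theorem card_pelts_coset_eq [Finite G] {q : ℕ} (hq : q.Prime) (N : Subgroup G) [N.Normal] (hN : N.index = q)
    (c c' : G ⧸ N) (hc : c ≠ 1) (hc' : c' ≠ 1) :
    Nat.card {w : G // (∃ r : ℕ, w ^ (q ^ r) = 1) ∧ (w : G ⧸ N) = c} =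
      Nat.card {w : G // (∃ r : ℕ, w ^ (q ^ r) = 1) ∧ (w : G ⧸ N) = c'} := by
  classical
  have hcard : Nat.card (G ⧸ N) = q := hN
  haveI : Fact q.Prime := ⟨hq⟩
  letI := Fintype.ofFinite (G ⧸ N)
  have hcard' : Fintype.card (G ⧸ N) = q := by rw [← Nat.card_eq_fintype_card]; exact hcard
  -- `c' = c ^ k`
  obtain ⟨k, hk⟩ : ∃ k : ℕ, c ^ k = c' := by
    have := mem_powers_of_prime_card hcard (g := c) (g' := c') hc
    obtain ⟨k, hk⟩ := this
    exact ⟨k, hk⟩
  have hpowq : ∀ d : G ⧸ N, d ^ q = 1 := fun d => by rw [← hcard]; exact pow_card_eq_one'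
  have hkq : k.Coprime q := by
    rw [Nat.coprime_comm, Nat.Prime.coprime_iff_not_dvd hq]
    rintro ⟨l, rfl⟩
    apply hc'
    rw [← hk, pow_mul, hpowq, one_pow]
  set E := (Nat.card G).factorization q with hE
  have hqG : q ∣ Nat.card G := by
    rw [← card_mul_index N, hN]
    exact Dvd.intro_left _ rfl
  have hE1 : 1 ≤ E := (hq.dvd_iff_one_le_factorization Nat.card_pos.ne').mp hqG
  have hX : 1 < q ^ E := Nat.one_lt_pow (by omega) hq.one_lt
  obtain ⟨k', hk'⟩ := Nat.exists_mul_mod_eq_one_of_coprime (Nat.Coprime.pow_right E hkq) hX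
  have hkk' : k * k' ≡ 1 [MOD q ^ E] := by
    unfold Nat.ModEq
    rw [hk'.2, Nat.mod_eq_of_lt hX]
  have hkk'q : k * k' ≡ 1 [MOD q] := hkk'.of_dvd (dvd_pow_self q (by omega))
  have hmk : ∀ (w : G) (m : ℕ), ((w ^ m : G) : G ⧸ N) = (w : G ⧸ N) ^ m := fun w m => rfl
  refine Nat.card_congr
    { toFun := fun w => ⟨w.1 ^ k, ?_, ?_⟩
      invFun := fun w => ⟨w.1 ^ k', ?_, ?_⟩
      left_inv := ?_
      right_inv := ?_ }
  · obtain ⟨r, hr⟩ := w.2.1
    exact ⟨r, by rw [← pow_mul, mul_comm, pow_mul, hr, one_pow]⟩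
  · rw [hmk, w.2.2, hk]
  · obtain ⟨r, hr⟩ := w.2.1
    exact ⟨r, by rw [← pow_mul, mul_comm, pow_mul, hr, one_pow]⟩
  · rw [hmk, w.2.2, ← hk, ← pow_mul]
    have := pow_of_modEq (hpowq c) hkk'q
    simpa using this
  · intro w
    apply Subtype.ext
    obtain ⟨r, hr⟩ := w.2.1
    have hw := pow_eq_one_of_pelt hq hr
    have := pow_of_modEq hw hkk'
    simpa [pow_mul] using this
  · intro w
    apply Subtype.ext
    obtain ⟨r, hr⟩ := w.2.1
    have hw := pow_eq_one_of_pelt hq hr
    have := pow_of_modEq hw (by rw [mul_comm]; exact hkk' : k' * k ≡ 1 [MOD q ^ E])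
    simpa [pow_mul] using this

/-- The count of `q`-elements in a nontrivial coset of a normal subgroup of index `q`. -/
theorem pow_dvd_card_pelts_coset [Finite G] {q : ℕ} (hq : q.Prime) (N : Subgroup G) [N.Normal] (hN : N.index = q)
    (c : G ⧸ N) (hc : c ≠ 1) :
    q ^ (Nat.card N).factorization q ∣ Nat.card {w : G // (∃ r : ℕ, w ^ (q ^ r) = 1) ∧ (w : G ⧸ N) = c} := by
  classical
  letI := Fintype.ofFinite G
  letI := Fintype.ofFinite (G ⧸ N)
  have hcard : Fintype.card (G ⧸ N) = q := by rw [← Nat.card_eq_fintype_card]; exact hN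
  set W : G ⧸ N → ℕ := fun d => Nat.card {w : G // (∃ r : ℕ, w ^ (q ^ r) = 1) ∧ (w : G ⧸ N) = d} with hW
  have h1 := pelements' hq G
  have h2 := pelements' hq N
  -- the decomposition
  have h3 : Nat.card {u : G // ∃ r : ℕ, u ^ (q ^ r) = 1} = ∑ d : G ⧸ N, W d := by
    rw [card_subtype_eq_filter, Finset.card_eq_sum_card_fiberwise (f := fun w : G => (w : G ⧸ N))
      (t := Finset.univ) (fun _ _ => Finset.mem_coe.mpr (Finset.mem_univ _))]
    refine Finset.sum_congr rfl (fun d _ => ?_)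
    rw [Finset.filter_filter, ← card_subtype_eq_filter]
  have h4 : ∑ d : G ⧸ N, W d = W 1 + (q - 1) * W c := by
    rw [← Finset.add_sum_erase _ _ (Finset.mem_univ (1 : G ⧸ N))]
    congr 1
    have h5 : ∀ d ∈ (Finset.univ : Finset (G ⧸ N)).erase 1, W d = W c := by
      intro d hd
      exact card_pelts_coset_eq hq N hN d c (Finset.mem_erase.mp hd).1 hc
    rw [Finset.sum_congr rfl h5, Finset.sum_const, smul_eq_mul, Finset.card_erase_of_mem (Finset.mem_univ _),
      Finset.card_univ, hcard]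
  have h5 : W 1 = Nat.card {u : N // ∃ r : ℕ, u ^ (q ^ r) = 1} := by
    refine Nat.card_congr
      { toFun := fun w => ⟨⟨w.1, (QuotientGroup.eq_one_iff _).mp w.2.2⟩, ?_⟩
        invFun := fun u => ⟨u.1, ?_, ?_⟩
        left_inv := fun w => rfl
        right_inv := fun u => rfl }
    · obtain ⟨r, hr⟩ := w.2.1
      exact ⟨r, Subtype.ext (by simpa using hr)⟩
    · obtain ⟨r, hr⟩ := u.2
      exact ⟨r, by simpa using congrArg Subtype.val hr⟩
    · exact (QuotientGroup.eq_one_iff _).mpr u.1.2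
  have h6 : q ^ (Nat.card N).factorization q ∣ q ^ (Nat.card G).factorization q := by
    apply pow_dvd_pow
    have hd : Nat.card N ∣ Nat.card G := card_subgroup_dvd_card N
    exact (Nat.factorization_le_iff_dvd Nat.card_pos.ne' Nat.card_pos.ne').mpr hd q
  have h7 : q ^ (Nat.card N).factorization q ∣ W 1 + (q - 1) * W c := by
    rw [← h4, ← h3]
    exact h6.trans h1
  have h8 : q ^ (Nat.card N).factorization q ∣ (q - 1) * W c := by
    rw [h5] at h7
    exact (Nat.dvd_add_right h2).mp h7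
  have hcop : (q ^ (Nat.card N).factorization q).Coprime (q - 1) := by
    apply Nat.Coprime.pow_left
    rw [Nat.Prime.coprime_iff_not_dvd hq]
    exact Nat.not_dvd_of_pos_of_lt (by have := hq.two_le; omega) (by have := hq.two_le; omega)
  exact hcop.dvd_of_dvd_mul_left h8

/-- Every element of order dividing `x` is in `K` if `x` is prime to the index. -/
theorem mk_eq_one_of_pow [Finite G] (K : Subgroup G) [K.Normal] {u : G} {x : ℕ} (hu : u ^ x = 1)
    (hx : x.Coprime K.index) : (u : G ⧸ K) = 1 := by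
  have h1 : orderOf (u : G ⧸ K) ∣ x := orderOf_dvd_of_pow_eq_one (by
    show ((u ^ x : G) : G ⧸ K) = 1
    rw [hu]; rfl)
  have h2 : orderOf (u : G ⧸ K) ∣ K.index := orderOf_dvd_natCard _
  have := Nat.Coprime.eq_one_of_dvd (Nat.Coprime.coprime_dvd_left h1 hx) h2
  exact orderOf_eq_one_iff.mp this

/-- The count in a coset, at a prime other than the index. -/
theorem coset_count_ne [Finite G] {q p b n : ℕ} (hq : q.Prime) (hp : p.Prime) (hpq : p ≠ q) (K : Subgroup G)
    [K.Normal] (hK : K.index = q) (c : G ⧸ K) (hn0 : n ≠ 0) (hpn : p ^ b ∣ n) (hpK : p ^ b ∣ Nat.card K) :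
    p ^ b ∣ Nat.card {x : G // (x : G ⧸ K) = c ∧ x ^ n = 1} := by
  classical
  letI := Fintype.ofFinite G
  obtain ⟨y, α, β, hG, hD, hy⟩ := exists_dec G hp
  set e := (Nat.card G).factorization p with he
  set X := p ^ e with hX
  have hpowG : ∀ g : G, g ^ (X * y) = 1 := fun g => by rw [← hG]; exact pow_card_eq_one'
  have hXq : X.Coprime K.index := by
    rw [hK]
    apply Nat.Coprime.pow_left
    exact (Nat.coprime_primes hp hq).mpr hpq
  have hmk1 : ∀ u : G, u ^ X = 1 → (u : G ⧸ K) = 1 := fun u hu => mk_eq_one_of_pow K hu hXq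
  have hmkmul : ∀ u v : G, ((u * v : G) : G ⧸ K) = (u : G ⧸ K) * v := fun u v => rfl
  -- rewriting the condition
  have hequiv : ∀ g : G, ((g : G ⧸ K) = c ∧ g ^ n = 1) ↔
      ((g ^ α) ^ n = 1 ∧ (g ^ β) ^ n = 1 ∧ ((g ^ β : G) : G ⧸ K) = c) := by
    intro g
    have hg : g ^ α * g ^ β = g := hD.mul_eq (hpowG g)
    have hmkg : ((g : G) : G ⧸ K) = ((g ^ β : G) : G ⧸ K) := by
      conv_lhs => rw [← hg]
      rw [hmkmul, hmk1 _ (hD.pow_alpha_x (hpowG g)), one_mul]
    constructor
    · rintro ⟨h1, h2⟩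
      refine ⟨?_, ?_, ?_⟩
      · rw [← pow_mul, mul_comm, pow_mul, h2, one_pow]
      · rw [← pow_mul, mul_comm, pow_mul, h2, one_pow]
      · rw [← hmkg, h1]
    · rintro ⟨h1, h2, h3⟩
      refine ⟨by rw [hmkg, h3], ?_⟩
      have hc' : Commute (g ^ α) (g ^ β) := (Commute.refl g).pow_pow α β
      conv_lhs => rw [← hg]
      rw [hc'.mul_pow, h1, h2, one_mul]
  have hcount : Nat.card {x : G // (x : G ⧸ K) = c ∧ x ^ n = 1} =
      Nat.card {g : G // (g ^ α) ^ n = 1 ∧ (g ^ β) ^ n = 1 ∧ ((g ^ β : G) : G ⧸ K) = c} :=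
    Nat.card_congr (Equiv.subtypeEquivRight hequiv)
  rw [hcount]
  have hdec := card_decomp hD hG (fun u v => u ^ n = 1 ∧ v ^ n = 1 ∧ (v : G ⧸ K) = c)
  rw [hdec]
  set T : Finset G := Finset.univ.filter (fun v : G => v ^ y = 1) with hT
  set f : G → ℕ := fun v => Nat.card {u : G // u ^ X = 1 ∧ u * v = v * u ∧ (u ^ n = 1 ∧ v ^ n = 1 ∧ (v : G ⧸ K) = c)} with hf
  set V : Finset G := T.filter (fun v : G => v ^ n = 1 ∧ (v : G ⧸ K) = c) with hV
  have hsum : ∑ v ∈ T, f v = ∑ v ∈ V, f v := by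
    symm
    apply Finset.sum_subset (Finset.filter_subset _ _)
    intro v hvT hvV
    have : IsEmpty {u : G // u ^ X = 1 ∧ u * v = v * u ∧ (u ^ n = 1 ∧ v ^ n = 1 ∧ (v : G ⧸ K) = c)} :=
      ⟨fun u => hvV (Finset.mem_filter.mpr ⟨hvT, u.2.2.2.2⟩)⟩
    exact Nat.card_of_isEmpty
  rw [hsum]
  have hmkconj : ∀ k ∈ K, ∀ v : G, ((k * v * k⁻¹ : G) : G ⧸ K) = (v : G ⧸ K) := by
    intro k hk v
    have hk1 : (k : G ⧸ K) = 1 := (QuotientGroup.eq_one_iff k).mpr hk
    rw [hmkmul, hmkmul]
    have hk2 : ((k⁻¹ : G) : G ⧸ K) = 1 := (QuotientGroup.eq_one_iff _).mpr (K.inv_mem hk)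
    rw [hk1, hk2, one_mul, mul_one]
  refine dvd_sum_of_conj_sub K V ?_ _ ?_ _ ?_
  · intro k hk v hv
    obtain ⟨h1, h2, h3⟩ := Finset.mem_filter.mp hv |>.imp_right (fun h => h)
    refine Finset.mem_filter.mpr ⟨?_, ?_, ?_⟩
    · refine Finset.mem_filter.mpr ⟨Finset.mem_univ _, ?_⟩
      rw [conj_pow, (Finset.mem_filter.mp h1).2]
      simp
    · rw [conj_pow, h2]
      simp
    · rw [hmkconj k hk, h3]
  · intro k hk v _
    symm
    refine card_congr_conj k ?_
    intro u
    rw [conj_pow, conj_pow, conj_pow, hmkconj k hk]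
    have h1 : ∀ z : G, k * z * k⁻¹ = 1 ↔ z = 1 := by
      intro z
      constructor
      · intro h
        have := congrArg (fun w => k⁻¹ * w * k) h
        simpa [mul_assoc] using this
      · intro h
        simp [h]
    rw [h1, h1, h1]
    have h4 : k * u * k⁻¹ * (k * v * k⁻¹) = k * v * k⁻¹ * (k * u * k⁻¹) ↔ u * v = v * u := by
      constructor
      · intro h
        have h5 : k * (u * v) * k⁻¹ = k * (v * u) * k⁻¹ := by
          calc k * (u * v) * k⁻¹ = k * u * k⁻¹ * (k * v * k⁻¹) := by group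
            _ = k * v * k⁻¹ * (k * u * k⁻¹) := h
            _ = _ := by group
        have := congrArg (fun z => k⁻¹ * z * k) h5
        simpa [mul_assoc] using this
      · intro h
        calc k * u * k⁻¹ * (k * v * k⁻¹) = k * (u * v) * k⁻¹ := by group
          _ = k * (v * u) * k⁻¹ := by rw [h]
          _ = _ := by group
    rw [h4]
  · intro v hv
    obtain ⟨h1, h2, h3⟩ := Finset.mem_filter.mp hv |>.imp_right (fun h => h)
    set C₁ := (centralizer ({v} : Set G)).subgroupOf K with hC₁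
    set a := n.factorization p with ha
    have hnm := Nat.ordProj_mul_ordCompl_eq_self n p
    set m := n / p ^ a with hm
    have hmcop : (p).Coprime m := Nat.coprime_ordCompl hp hn0
    have hba : b ≤ a := (Nat.Prime.pow_dvd_iff_le_factorization hp hn0).mp hpn
    have hfv : f v = Nat.card {u : C₁ // u ^ (p ^ a) = 1} := by
      symm
      refine Nat.card_congr
        { toFun := fun u => ⟨((u.1 : K) : G), ?_, ?_, ?_, h2, h3⟩
          invFun := fun u => ⟨⟨⟨u.1, ?_⟩, ?_⟩, ?_⟩
          left_inv := fun u => rfl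
          right_inv := fun u => rfl }
      · have h4 : (((u.1 : K) : G)) ^ (p ^ a) = 1 := by
          have := congrArg (fun z : C₁ => ((z : K) : G)) u.2
          simpa using this
        exact pow_eq_one_of_pelt hp h4
      · exact mem_centralizer_singleton_iff.mp (mem_subgroupOf.mp u.1.2)
      · have h4 : (((u.1 : K) : G)) ^ (p ^ a) = 1 := by
          have := congrArg (fun z : C₁ => ((z : K) : G)) u.2
          simpa using this
        rw [← hnm, pow_mul, h4, one_pow]
      · exact (QuotientGroup.eq_one_iff _).mp (hmk1 _ u.2.1)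
      · exact mem_subgroupOf.mpr (mem_centralizer_singleton_iff.mpr u.2.2.1)
      · apply Subtype.ext
        apply Subtype.ext
        show u.1 ^ (p ^ a) = 1
        have h5 : orderOf u.1 ∣ X := orderOf_dvd_of_pow_eq_one u.2.1
        have h6 : orderOf u.1 ∣ p ^ a * m := by
          rw [hnm]
          exact orderOf_dvd_of_pow_eq_one u.2.2.2.1
        have h7 : (orderOf u.1).Coprime m :=
          Nat.Coprime.coprime_dvd_left h5 (Nat.Coprime.pow_left e hmcop)
        exact orderOf_dvd_iff_pow_eq_one.mp (h7.dvd_of_dvd_mul_right h6)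
    rw [hfv]
    refine pow_dvd_index_mul hp C₁ hpK ?_
    refine (pow_dvd_pow p ?_).trans (pow_dvd_card_pow_eq_one hp C₁ a)
    omega

/-- The count in a nontrivial coset, at the prime index, when the full `q`-part of `|G|` divides `n`. -/
theorem coset_count_eq [Finite G] {q b n : ℕ} (hq : q.Prime) (K : Subgroup G)
    [K.Normal] (hK : K.index = q) (c : G ⧸ K) (hc : c ≠ 1)
    (hqn : q ^ (Nat.card G).factorization q ∣ n) (hqK : q ^ b ∣ Nat.card K) :
    q ^ b ∣ Nat.card {x : G // (x : G ⧸ K) = c ∧ x ^ n = 1} := by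
  classical
  letI := Fintype.ofFinite G
  obtain ⟨y, α, β, hG, hD, hy⟩ := exists_dec G hq
  set e := (Nat.card G).factorization q with he
  set X := q ^ e with hX
  have hpowG : ∀ g : G, g ^ (X * y) = 1 := fun g => by rw [← hG]; exact pow_card_eq_one'
  have hyq : y.Coprime K.index := by rw [hK]; exact hy
  have hmk1 : ∀ v : G, v ^ y = 1 → (v : G ⧸ K) = 1 := fun v hv => mk_eq_one_of_pow K hv hyq
  have hmkmul : ∀ u v : G, ((u * v : G) : G ⧸ K) = (u : G ⧸ K) * v := fun u v => rfl
  have hequiv : ∀ g : G, ((g : G ⧸ K) = c ∧ g ^ n = 1) ↔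
      (((g ^ α : G) : G ⧸ K) = c ∧ (g ^ β) ^ n = 1) := by
    intro g
    have hg : g ^ α * g ^ β = g := hD.mul_eq (hpowG g)
    have hmkg : ((g : G) : G ⧸ K) = ((g ^ α : G) : G ⧸ K) := by
      conv_lhs => rw [← hg]
      rw [hmkmul, hmk1 _ (hD.pow_beta_y (hpowG g)), mul_one]
    have hαn : (g ^ α) ^ n = 1 := by
      obtain ⟨k, hk⟩ := hqn
      rw [hk, pow_mul, hD.pow_alpha_x (hpowG g), one_pow]
    constructor
    · rintro ⟨h1, h2⟩
      exact ⟨by rw [← hmkg, h1], by rw [← pow_mul, mul_comm, pow_mul, h2, one_pow]⟩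
    · rintro ⟨h1, h2⟩
      refine ⟨by rw [hmkg, h1], ?_⟩
      have hcomm : Commute (g ^ α) (g ^ β) := (Commute.refl g).pow_pow α β
      conv_lhs => rw [← hg]
      rw [hcomm.mul_pow, hαn, h2, one_mul]
  have hcount : Nat.card {x : G // (x : G ⧸ K) = c ∧ x ^ n = 1} =
      Nat.card {g : G // ((g ^ α : G) : G ⧸ K) = c ∧ (g ^ β) ^ n = 1} :=
    Nat.card_congr (Equiv.subtypeEquivRight hequiv)
  rw [hcount]
  have hdec := card_decomp hD hG (fun u v => (u : G ⧸ K) = c ∧ v ^ n = 1)
  rw [hdec]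
  set T : Finset G := Finset.univ.filter (fun v : G => v ^ y = 1) with hT
  set f : G → ℕ := fun v => Nat.card {u : G // u ^ X = 1 ∧ u * v = v * u ∧ ((u : G ⧸ K) = c ∧ v ^ n = 1)} with hf
  set V : Finset G := T.filter (fun v : G => v ^ n = 1) with hV
  have hsum : ∑ v ∈ T, f v = ∑ v ∈ V, f v := by
    symm
    apply Finset.sum_subset (Finset.filter_subset _ _)
    intro v hvT hvV
    have : IsEmpty {u : G // u ^ X = 1 ∧ u * v = v * u ∧ ((u : G ⧸ K) = c ∧ v ^ n = 1)} :=
      ⟨fun u => hvV (Finset.mem_filter.mpr ⟨hvT, u.2.2.2.2⟩)⟩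
    exact Nat.card_of_isEmpty
  rw [hsum]
  have hmkconj : ∀ k ∈ K, ∀ v : G, ((k * v * k⁻¹ : G) : G ⧸ K) = (v : G ⧸ K) := by
    intro k hk v
    have hk1 : (k : G ⧸ K) = 1 := (QuotientGroup.eq_one_iff k).mpr hk
    rw [hmkmul, hmkmul]
    have hk2 : ((k⁻¹ : G) : G ⧸ K) = 1 := (QuotientGroup.eq_one_iff _).mpr (K.inv_mem hk)
    rw [hk1, hk2, one_mul, mul_one]
  refine dvd_sum_of_conj_sub K V ?_ _ ?_ _ ?_
  · intro k hk v hv
    obtain ⟨h1, h2⟩ := Finset.mem_filter.mp hv
    refine Finset.mem_filter.mpr ⟨?_, ?_⟩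
    · refine Finset.mem_filter.mpr ⟨Finset.mem_univ _, ?_⟩
      rw [conj_pow, (Finset.mem_filter.mp h1).2]
      simp
    · rw [conj_pow, h2]
      simp
  · intro k hk v _
    symm
    refine card_congr_conj k ?_
    intro u
    rw [conj_pow, conj_pow, hmkconj k hk]
    have h1 : ∀ z : G, k * z * k⁻¹ = 1 ↔ z = 1 := by
      intro z
      constructor
      · intro h
        have := congrArg (fun w => k⁻¹ * w * k) h
        simpa [mul_assoc] using this
      · intro h
        simp [h]
    rw [h1, h1]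
    have h4 : k * u * k⁻¹ * (k * v * k⁻¹) = k * v * k⁻¹ * (k * u * k⁻¹) ↔ u * v = v * u := by
      constructor
      · intro h
        have h5 : k * (u * v) * k⁻¹ = k * (v * u) * k⁻¹ := by
          calc k * (u * v) * k⁻¹ = k * u * k⁻¹ * (k * v * k⁻¹) := by group
            _ = k * v * k⁻¹ * (k * u * k⁻¹) := h
            _ = _ := by group
        have := congrArg (fun z => k⁻¹ * z * k) h5
        simpa [mul_assoc] using this
      · intro h
        calc k * u * k⁻¹ * (k * v * k⁻¹) = k * (u * v) * k⁻¹ := by group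
          _ = k * (v * u) * k⁻¹ := by rw [h]
          _ = _ := by group
    rw [h4]
  · intro v hv
    obtain ⟨-, h2⟩ := Finset.mem_filter.mp hv
    by_cases hfv0 : f v = 0
    · rw [hfv0, mul_zero]
      exact dvd_zero _
    have hne : Nonempty {u : G // u ^ X = 1 ∧ u * v = v * u ∧ ((u : G ⧸ K) = c ∧ v ^ n = 1)} := by
      by_contra hcon
      rw [not_nonempty_iff] at hcon
      exact hfv0 Nat.card_of_isEmpty
    obtain ⟨⟨u₀, hu₀X, hu₀v, hu₀c, -⟩⟩ := hne
    set H := centralizer ({v} : Set G) with hH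
    have hu₀H : u₀ ∈ H := mem_centralizer_singleton_iff.mpr hu₀v
    set N₁ := K.subgroupOf H with hN₁
    have hker : N₁ = ((QuotientGroup.mk' K).comp H.subtype).ker := by
      ext w
      rw [hN₁, mem_subgroupOf, MonoidHom.mem_ker]
      simp only [MonoidHom.comp_apply, coe_subtype, QuotientGroup.mk'_apply]
      exact (QuotientGroup.eq_one_iff _).symm
    have hidx : N₁.index = q := by
      rw [hker, Subgroup.index_ker]
      set ρ := ((QuotientGroup.mk' K).comp H.subtype).range with hρ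
      have hcardQ : Nat.card (G ⧸ K) = q := hK
      haveI : Fact (Nat.card (G ⧸ K)).Prime := ⟨by rw [hcardQ]; exact hq⟩
      rcases Subgroup.eq_bot_or_eq_top_of_prime_card ρ with h | h
      · exfalso
        apply hc
        have : ((QuotientGroup.mk' K).comp H.subtype) ⟨u₀, hu₀H⟩ ∈ ρ := MonoidHom.mem_range.mpr ⟨_, rfl⟩
        rw [h, mem_bot] at this
        rw [← hu₀c]
        exact this
      · rw [h, Subgroup.card_top, hcardQ]
    have hmem1 : ∀ w : H, ((w : H ⧸ N₁) = ((⟨u₀, hu₀H⟩ : H) : H ⧸ N₁)) ↔ ((w : G) : G ⧸ K) = c := by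
      intro w
      rw [eq_comm, QuotientGroup.eq, hN₁, mem_subgroupOf, ← hu₀c, eq_comm (a := ((w : G) : G ⧸ K)),
        QuotientGroup.eq]
      simp
    have hne1 : ((⟨u₀, hu₀H⟩ : H) : H ⧸ N₁) ≠ 1 := by
      intro h
      have h1 := (hmem1 1).mpr
      apply hc
      have h2 := (hmem1 ⟨u₀, hu₀H⟩).mp rfl
      have h3 : (⟨u₀, hu₀H⟩ : H) ∈ N₁ := (QuotientGroup.eq_one_iff _).mp h
      rw [hN₁, mem_subgroupOf] at h3
      rw [← hu₀c]
      exact (QuotientGroup.eq_one_iff _).mpr h3
    have hmain := pow_dvd_card_pelts_coset hq N₁ hidx _ hne1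
    have hfv : f v = Nat.card {w : H // (∃ r : ℕ, w ^ (q ^ r) = 1) ∧ (w : H ⧸ N₁) = ((⟨u₀, hu₀H⟩ : H) : H ⧸ N₁)} := by
      refine Nat.card_congr
        { toFun := fun u => ⟨⟨u.1, mem_centralizer_singleton_iff.mpr u.2.2.1⟩, ⟨e, Subtype.ext (by simpa using u.2.1)⟩, (hmem1 _).mpr u.2.2.2.1⟩
          invFun := fun w => ⟨w.1.1, ?_, mem_centralizer_singleton_iff.mp w.1.2, (hmem1 _).mp w.2.2, h2⟩
          left_inv := fun u => rfl
          right_inv := fun w => rfl }
      obtain ⟨r, hr⟩ := w.2.1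
      exact pow_eq_one_of_pelt hq (by simpa using congrArg Subtype.val hr)
    rw [hfv]
    refine pow_dvd_index_mul hq _ hqK ?_
    refine (pow_dvd_pow q ?_).trans hmain
    rw [hN₁, Cfsg.Agent.Lib.FG7.ClassNumber.card_subgroupOf, Cfsg.Agent.Lib.FG7.ClassNumber.card_subgroupOf, inf_comm K H]
    exact Nat.min_le_right _ _

/-- A solvable nontrivial group has a normal subgroup of prime index. -/
theorem exists_normal_prime_index [Finite G] [Group.IsSolvable G] [Nontrivial G] :
    ∃ K : Subgroup G, K.Normal ∧ K.index.Prime := by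
  obtain ⟨K, hK⟩ := (Set.toFinite {K : Subgroup G | K.Normal ∧ K ≠ ⊤}).exists_maximal
    ⟨⊥, inferInstance, bot_ne_top⟩
  obtain ⟨hKn, hKt⟩ := hK.prop
  refine ⟨K, hKn, ?_⟩
  haveI := hKn
  haveI : Nontrivial (G ⧸ K) := by
    apply Finite.one_lt_card_iff_nontrivial.mp
    have h0 : K.index ≠ 0 := index_ne_zero_of_finite
    have h1 : K.index ≠ 1 := fun h => hKt (Subgroup.index_eq_one.mp h)
    show 1 < K.index
    omega
  have hsimple : IsSimpleGroup (G ⧸ K) := by
    refine ⟨fun N hN => ?_⟩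
    have hle : K ≤ N.comap (QuotientGroup.mk' K) := by
      intro x hx
      rw [mem_comap]
      have : (QuotientGroup.mk' K) x = 1 := (QuotientGroup.eq_one_iff x).mpr hx
      rw [this]
      exact N.one_mem
    by_cases htop : N.comap (QuotientGroup.mk' K) = ⊤
    · right
      rw [eq_top_iff]
      intro y _
      obtain ⟨x, rfl⟩ := QuotientGroup.mk_surjective y
      have : x ∈ N.comap (QuotientGroup.mk' K) := by rw [htop]; trivial
      exact this
    · left
      have h1 : N.comap (QuotientGroup.mk' K) = K :=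
        (hK.eq_of_le ⟨hN.comap _, htop⟩ hle).symm
      rw [eq_bot_iff]
      intro y hy
      obtain ⟨x, rfl⟩ := QuotientGroup.mk_surjective y
      have : x ∈ N.comap (QuotientGroup.mk' K) := hy
      rw [h1] at this
      exact (QuotientGroup.eq_one_iff x).mpr this
  have hcomm : ∀ a b : G ⧸ K, a * b = b * a := IsSimpleGroup.comm_iff_isSolvable.mpr inferInstance
  letI : CommGroup (G ⧸ K) := { (inferInstance : Group (G ⧸ K)) with mul_comm := hcomm }
  have := CommGroup.is_simple_iff_prime_card.mp hsimple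
  exact this

/-- A subgroup of `x ^ n = 1` of order at least the count is the whole solution set. -/
theorem coe_eq_of_count [Finite G] (H : Subgroup G) {n : ℕ} (hH : ∀ x ∈ H, x ^ n = 1)
    (hcount : Nat.card {x : G // x ^ n = 1} = n) (hle : n ≤ Nat.card H) : (H : Set G) = {x : G | x ^ n = 1} := by
  classical
  letI := Fintype.ofFinite G
  have h1 : (Finset.univ.filter (fun x : G => x ∈ H)) = Finset.univ.filter (fun x : G => x ^ n = 1) := by
    apply Finset.eq_of_subset_of_card_le
    · intro x hx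
      exact Finset.mem_filter.mpr ⟨Finset.mem_univ _, hH x (Finset.mem_filter.mp hx).2⟩
    · rw [← card_subtype_eq_filter, hcount, ← card_subtype_eq_filter]
      exact hle
  ext x
  have := Finset.ext_iff.mp h1 x
  simpa using this

/-- The solution set `x ^ n = 1` is conjugation invariant, hence normal once a subgroup. -/
theorem normal_of_coe_eq (H : Subgroup G) {n : ℕ} (h : (H : Set G) = {x : G | x ^ n = 1}) : H.Normal := by
  refine ⟨fun x hx g => ?_⟩
  have h1 : x ∈ (H : Set G) := hx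
  rw [h] at h1
  have h2 : g * x * g⁻¹ ∈ {x : G | x ^ n = 1} := by
    show (g * x * g⁻¹) ^ n = 1
    rw [conj_pow, show x ^ n = 1 from h1]
    simp
  rw [← h] at h2
  exact h2

/-- **Frobenius conjecture for solvable groups**, main induction. -/
theorem main_aux (N : ℕ) : ∀ (G : Type u) [Group G] [Finite G] [Group.IsSolvable G] (n : ℕ), Nat.card G = N →
    n ∣ Nat.card G → Nat.card {x : G // x ^ n = 1} = n → ∃ H : Subgroup G, (H : Set G) = {x : G | x ^ n = 1} := by
  induction N using Nat.strong_induction_on with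
  | _ N ih =>
  intro G _ _ _ n hN hn hcount
  classical
  rcases subsingleton_or_nontrivial G with hsub | hnt
  · refine ⟨⊤, ?_⟩
    have : n = 1 := by
      rw [Nat.card_of_subsingleton (1 : G)] at hn
      exact Nat.dvd_one.mp hn
    ext x
    simp [this, Subsingleton.elim x 1]
  obtain ⟨K, hKn, hKp⟩ := exists_normal_prime_index (G := G)
  haveI := hKn
  set q := K.index with hq
  have hGK : Nat.card G = q * Nat.card K := by
    rw [hq, mul_comm]
    exact (card_mul_index K).symm
  have hKlt : Nat.card K < N := by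
    rw [← hN, hGK]
    have : 0 < Nat.card K := Nat.card_pos
    have := hKp.two_le
    nlinarith
  have hn0 : n ≠ 0 := by
    rintro rfl
    have : Nat.card G = 0 := Nat.eq_zero_of_zero_dvd hn
    exact Nat.card_pos.ne' this
  -- the map from `K`
  have hinj : Nat.card {x : K // x ^ n = 1} ≤ Nat.card {x : G // x ^ n = 1} := by
    refine Nat.card_le_card_of_injective (fun x => ⟨x.1, by simpa using congrArg Subtype.val x.2⟩) ?_
    intro a b h
    apply Subtype.ext
    apply Subtype.ext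
    exact congrArg (fun z : {x : G // x ^ n = 1} => z.1) h
  by_cases hnK : n ∣ Nat.card K
  · -- case 1
    have h1 : n ∣ Nat.card {x : K // x ^ n = 1} := by
      have := gcd_dvd_card_pow_eq (K := K) (one_mem (center K)) n
      rwa [Nat.gcd_eq_left hnK] at this
    have hpos : 0 < Nat.card {x : K // x ^ n = 1} := by
      haveI : Nonempty {x : K // x ^ n = 1} := ⟨⟨1, one_pow n⟩⟩
      exact Nat.card_pos
    have h2 : Nat.card {x : K // x ^ n = 1} = n :=
      le_antisymm (hinj.trans_eq hcount) (Nat.le_of_dvd hpos h1)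
    obtain ⟨H₀, hH₀⟩ := ih _ hKlt K n rfl hnK h2
    refine ⟨H₀.map K.subtype, coe_eq_of_count _ ?_ hcount ?_⟩
    · rintro x ⟨y, hy, rfl⟩
      have h3 : y ∈ (H₀ : Set K) := hy
      rw [hH₀] at h3
      simpa using congrArg Subtype.val (show y ^ n = 1 from h3)
    · rw [Subgroup.card_map_of_injective K.subtype_injective]
      have : Nat.card H₀ = Nat.card {x : K // x ^ n = 1} := by
        refine Nat.card_congr (Equiv.subtypeEquivRight ?_)
        intro y
        have : y ∈ H₀ ↔ y ∈ (H₀ : Set K) := Iff.rfl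
        rw [this, hH₀]
        rfl
      omega
  · -- case 2
    have hqn : q ∣ n := by
      by_contra hqn
      apply hnK
      have hcop : n.Coprime q := ((Nat.Prime.coprime_iff_not_dvd hKp).mpr hqn).symm
      rw [hGK] at hn
      exact hcop.dvd_of_dvd_mul_left hn
    obtain ⟨n', hn'⟩ := hqn
    have hq' : q.Prime := hKp
    haveI : Fact q.Prime := ⟨hq'⟩
    have hn'0 : n' ≠ 0 := by
      rintro rfl
      simp at hn'
      exact hn0 hn'
    have hn'K : n' ∣ Nat.card K := by
      have : q * n' ∣ q * Nat.card K := by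
        rw [← hn', ← hGK]
        exact hn
      exact Nat.dvd_of_mul_dvd_mul_left hq'.pos this
    obtain ⟨s, hs⟩ := hn'K
    have hqs : ¬ q ∣ s := by
      rintro ⟨s', rfl⟩
      apply hnK
      rw [hs, hn']
      exact ⟨s', by ring⟩
    have hcopqs : q.Coprime s := (Nat.Prime.coprime_iff_not_dvd hq').mpr hqs
    have hGn : Nat.card G = n * s := by
      rw [hGK, hs, hn']
      ring
    set e := (Nat.card G).factorization q with he
    have hqe : q ^ e ∣ n := by
      have h1 : q ^ e ∣ n * s := by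
        rw [← hGn]
        exact Nat.ordProj_dvd _ _
      exact (Nat.Coprime.pow_left e hcopqs).dvd_of_dvd_mul_right h1
    have hqG : q ∣ Nat.card G := by
      rw [hGK]
      exact Dvd.intro _ rfl
    have he1 : 1 ≤ e := (hq'.dvd_iff_one_le_factorization Nat.card_pos.ne').mp hqG
    have hKeq : ∀ x : K, x ^ n = 1 ↔ x ^ n' = 1 := by
      intro x
      constructor
      · intro h
        have h1 : orderOf x ∣ n := orderOf_dvd_of_pow_eq_one h
        have h2 : orderOf x ∣ n' * s := by
          rw [← hs]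
          exact orderOf_dvd_natCard x
        have h4 : orderOf x ∣ Nat.gcd (n' * q) (n' * s) :=
          Nat.dvd_gcd (by rw [mul_comm]; rwa [← hn']) h2
        rw [Nat.gcd_mul_left, hcopqs, mul_one] at h4
        exact orderOf_dvd_iff_pow_eq_one.mp h4
      · intro h
        rw [hn', mul_comm, pow_mul, h, one_pow]
    set A := Nat.card {x : K // x ^ n' = 1} with hA
    have hAdvd : n' ∣ A := by
      have := gcd_dvd_card_pow_eq (K := K) (one_mem (center K)) n'
      rwa [Nat.gcd_eq_left ⟨s, hs⟩] at this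
    have hApos : 0 < A := by
      haveI : Nonempty {x : K // x ^ n' = 1} := ⟨⟨1, one_pow n'⟩⟩
      exact Nat.card_pos
    have hAge : n' ≤ A := Nat.le_of_dvd hApos hAdvd
    letI := Fintype.ofFinite G
    letI := Fintype.ofFinite (G ⧸ K)
    set B : G ⧸ K → ℕ := fun c => Nat.card {x : G // (x : G ⧸ K) = c ∧ x ^ n = 1} with hB
    have hB1 : B 1 = A := by
      refine Nat.card_congr
        { toFun := fun x => ⟨⟨x.1, (QuotientGroup.eq_one_iff _).mp x.2.1⟩, ?_⟩
          invFun := fun u => ⟨u.1, ?_, ?_⟩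
          left_inv := fun w => rfl
          right_inv := fun u => rfl }
      · apply (hKeq _).mp
        exact Subtype.ext (by simpa using x.2.2)
      · exact (QuotientGroup.eq_one_iff _).mpr u.1.2
      · have := (hKeq _).mpr u.2
        simpa using congrArg Subtype.val this
    have hBc : ∀ c : G ⧸ K, c ≠ 1 → n' ≤ B c := by
      intro c hc
      have hdvd : n' ∣ B c := by
        rw [Nat.dvd_iff_prime_pow_dvd_dvd]
        intro p k hp hpk
        have hpK : p ^ k ∣ Nat.card K := by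
          rw [hs]
          exact Dvd.dvd.mul_right hpk s
        by_cases hpq : p = q
        · subst hpq
          exact coset_count_eq hq' K rfl c hc hqe hpK
        · refine coset_count_ne hq' hp hpq K rfl c hn0 ?_ hpK
          rw [hn']
          exact Dvd.dvd.mul_left hpk q
      have hpos : 0 < B c := by
        obtain ⟨y, α, β, hG, hD, hy⟩ := exists_dec G hq'
        obtain ⟨g, rfl⟩ := QuotientGroup.mk_surjective c
        have hpowG : ∀ g : G, g ^ (q ^ e * y) = 1 := fun g => by rw [← hG]; exact pow_card_eq_one'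
        have hg : g ^ α * g ^ β = g := hD.mul_eq (hpowG g)
        have hyq : y.Coprime K.index := hy
        have h1 : ((g ^ β : G) : G ⧸ K) = 1 := mk_eq_one_of_pow K (hD.pow_beta_y (hpowG g)) hyq
        have h2 : ((g ^ α : G) : G ⧸ K) = (g : G ⧸ K) := by
          conv_rhs => rw [← hg]
          show _ = ((g ^ α : G) : G ⧸ K) * ((g ^ β : G) : G ⧸ K)
          rw [h1, mul_one]
        have h3 : (g ^ α) ^ n = 1 := by
          obtain ⟨k, hk⟩ := hqe
          rw [hk, pow_mul, hD.pow_alpha_x (hpowG g), one_pow]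
        haveI : Nonempty {x : G // (x : G ⧸ K) = (g : G ⧸ K) ∧ x ^ n = 1} := ⟨⟨g ^ α, h2, h3⟩⟩
        exact Nat.card_pos
      exact Nat.le_of_dvd hpos hdvd
    have hsum : n = ∑ c : G ⧸ K, B c := by
      conv_lhs => rw [← hcount]
      rw [card_subtype_eq_filter, Finset.card_eq_sum_card_fiberwise (f := fun w : G => (w : G ⧸ K))
        (t := Finset.univ) (fun _ _ => Finset.mem_coe.mpr (Finset.mem_univ _))]
      refine Finset.sum_congr rfl (fun d _ => ?_)
      rw [Finset.filter_filter, ← card_subtype_eq_filter]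
      exact Nat.card_congr (Equiv.subtypeEquivRight (fun x => and_comm))
    have hAeq : A = n' := by
      refine le_antisymm ?_ hAge
      have h1 : ∑ c : G ⧸ K, B c = B 1 + ∑ c ∈ (Finset.univ : Finset (G ⧸ K)).erase 1, B c :=
        (Finset.add_sum_erase _ _ (Finset.mem_univ (1 : G ⧸ K))).symm
      have h2 := Finset.card_nsmul_le_sum ((Finset.univ : Finset (G ⧸ K)).erase 1) B n'
        (fun c hc => hBc c (Finset.mem_erase.mp hc).1)
      rw [Finset.card_erase_of_mem (Finset.mem_univ _), Finset.card_univ, smul_eq_mul] at h2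
      have h3 : Fintype.card (G ⧸ K) = q := by
        rw [← Nat.card_eq_fintype_card]
        rfl
      rw [h3] at h2
      rw [← hsum, hB1] at h1
      obtain ⟨r, hr⟩ : ∃ r, q = r + 1 := ⟨q - 1, by have := hq'.two_le; omega⟩
      rw [hn', hr] at h1
      rw [hr] at h2
      simp only [Nat.add_sub_cancel] at h2
      nlinarith
    obtain ⟨H₀, hH₀⟩ := ih _ hKlt K n' rfl ⟨s, hs⟩ hAeq
    have hmemH₀ : ∀ y : K, y ∈ H₀ ↔ y ^ n' = 1 := by
      intro y
      have : y ∈ H₀ ↔ y ∈ (H₀ : Set K) := Iff.rfl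
      rw [this, hH₀]
      rfl
    set L₀ := H₀.map K.subtype with hL₀
    have hL₀mem : ∀ x : G, x ∈ L₀ ↔ x ∈ K ∧ x ^ n' = 1 := by
      intro x
      constructor
      · rintro ⟨y, hy, rfl⟩
        refine ⟨y.2, ?_⟩
        simpa using congrArg Subtype.val ((hmemH₀ y).mp hy)
      · rintro ⟨h1, h2⟩
        refine ⟨⟨x, h1⟩, (hmemH₀ _).mpr (Subtype.ext (by simpa using h2)), rfl⟩
    haveI hL₀n : L₀.Normal := by
      refine ⟨fun x hx g => ?_⟩
      rw [hL₀mem] at hx ⊢
      refine ⟨hKn.conj_mem x hx.1 g, ?_⟩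
      rw [conj_pow, hx.2]
      simp
    have hL₀card : Nat.card L₀ = n' := by
      rw [hL₀, Subgroup.card_map_of_injective K.subtype_injective, ← hAeq]
      exact Nat.card_congr (Equiv.subtypeEquivRight hmemH₀)
    obtain ⟨Q⟩ : Nonempty (Sylow q G) := inferInstance
    have hQcard : Nat.card Q = q ^ e := Sylow.card_eq_multiplicity Q
    refine ⟨L₀ ⊔ (Q : Subgroup G), coe_eq_of_count _ ?_ hcount ?_⟩
    · intro x hx
      have hx' : x ∈ (L₀ : Set G) * ((Q : Subgroup G) : Set G) := by
        rw [← Subgroup.normal_mul]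
        exact hx
      obtain ⟨a, ha, b, hb, rfl⟩ := Set.mem_mul.mp hx'
      have hb1 : b ^ (q ^ e) = 1 := by
        have := pow_card_eq_one' (x := (⟨b, hb⟩ : (Q : Subgroup G)))
        rw [hQcard] at this
        simpa using congrArg Subtype.val this
      have hz : (a * b) ^ (q ^ e) ∈ L₀ := by
        apply (QuotientGroup.eq_one_iff _).mp
        have ha1 : (a : G ⧸ L₀) = 1 := (QuotientGroup.eq_one_iff a).mpr ha
        show ((a : G ⧸ L₀) * (b : G ⧸ L₀)) ^ (q ^ e) = 1
        rw [ha1, one_mul]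
        show ((b ^ (q ^ e) : G) : G ⧸ L₀) = 1
        rw [hb1]
        rfl
      have hz1 := ((hL₀mem _).mp hz).2
      rw [← pow_mul] at hz1
      obtain ⟨e', he'⟩ : ∃ e', e = e' + 1 := ⟨e - 1, by omega⟩
      have h1 : orderOf (a * b) ∣ n * q ^ e' := by
        apply orderOf_dvd_of_pow_eq_one
        have : n * q ^ e' = q ^ e * n' := by
          rw [hn', he', pow_succ]
          ring
        rw [this]
        exact hz1
      have h2 : orderOf (a * b) ∣ n * s := by
        rw [← hGn]
        exact orderOf_dvd_natCard _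
      have h3 : orderOf (a * b) ∣ Nat.gcd (n * q ^ e') (n * s) := Nat.dvd_gcd h1 h2
      rw [Nat.gcd_mul_left, Nat.Coprime.pow_left e' hcopqs, mul_one] at h3
      exact orderOf_dvd_iff_pow_eq_one.mp h3
    · have hQnot : ¬ (Q : Subgroup G) ≤ L₀ := by
        intro hle
        have h1 : q ^ e ∣ n' := by
          rw [← hQcard, ← hL₀card]
          exact Subgroup.card_dvd_of_le hle
        have h2 : q ^ (e + 1) ∣ Nat.card G := by
          rw [hGn, hn', pow_succ, mul_comm (q ^ e)]
          exact Dvd.dvd.mul_right (Nat.mul_dvd_mul_left q h1) s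
        exact Nat.pow_succ_factorization_not_dvd Nat.card_pos.ne' hq' h2
      have h1 : L₀.relIndex (L₀ ⊔ (Q : Subgroup G)) = L₀.relIndex Q := Subgroup.relIndex_sup_left _ _
      have h2 : L₀.relIndex Q ∣ q ^ e := by
        rw [← hQcard]
        exact Subgroup.relIndex_dvd_card L₀ Q
      obtain ⟨j, -, hj⟩ := (Nat.dvd_prime_pow hq').mp h2
      have hj0 : j ≠ 0 := by
        rintro rfl
        rw [pow_zero] at hj
        exact hQnot (Subgroup.relIndex_eq_one.mp hj)
      have h3 : q ≤ L₀.relIndex Q := by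
        rw [hj]
        exact Nat.le_self_pow hj0 q
      have h4 : Nat.card (L₀ ⊔ (Q : Subgroup G) : Subgroup G) = n' * L₀.relIndex Q := by
        rw [← h1, ← hL₀card]
        have h5 := Subgroup.card_mul_index (L₀.subgroupOf (L₀ ⊔ (Q : Subgroup G)))
        have h6 : Nat.card (L₀.subgroupOf (L₀ ⊔ (Q : Subgroup G))) = Nat.card L₀ := by
          rw [Cfsg.Agent.Lib.FG7.ClassNumber.card_subgroupOf, inf_of_le_right le_sup_left]
        rw [h6] at h5
        exact h5.symm
      rw [h4, hn', mul_comm q]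
      exact Nat.mul_le_mul_left _ h3

end Cfsg.Agent.Lib.FG7.FrobeniusCoset
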