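import Mathlib
import Cfsg.Agent.Lib.PGroups.Presentations
import Cfsg.Prelude.Def_Local

/-!
# Finite Dedekind groups: the Dedekind–Baer theorem
-/

set_option autoImplicit false

namespace Cfsg.Agent.Lib.FG7.Dedekind

open Subgroup

variable {D : Type*} [Group D]

theorem comm_mem_left (hn : ∀ H : Subgroup D, H.Normal) (x y : D) :
    x * y * x⁻¹ * y⁻¹ ∈ zpowers x := by
  have h1 : y * x⁻¹ * y⁻¹ ∈ zpowers x := (hn _).conj_mem _ (inv_mem (mem_zpowers x)) y
  have h2 := mul_mem (mem_zpowers x) h1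
  simpa [mul_assoc] using h2

theorem comm_mem_right (hn : ∀ H : Subgroup D, H.Normal) (x y : D) :
    x * y * x⁻¹ * y⁻¹ ∈ zpowers y := by
  have h1 : x * y * x⁻¹ ∈ zpowers y := (hn _).conj_mem _ (mem_zpowers y) x
  exact mul_mem h1 (inv_mem (mem_zpowers y))

theorem commute_of_mem_zpowers {x c : D} (h : c ∈ zpowers x) : Commute x c := by
  obtain ⟨k, rfl⟩ := mem_zpowers_iff.mp h
  exact (Commute.refl x).zpow_right k

theorem pow_mul_eq {a b c : D} (hac : Commute a c) (h : a * b = c * b * a)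
    (k : ℕ) : a ^ k * b = c ^ k * b * a ^ k := by
  induction k with
  | zero => simp
  | succ k ih =>
    calc a ^ (k + 1) * b = a * (a ^ k * b) := by rw [pow_succ']; group
      _ = a * (c ^ k * b * a ^ k) := by rw [ih]
      _ = (a * c ^ k) * b * a ^ k := by group
      _ = (c ^ k * a) * b * a ^ k := by rw [(hac.pow_right k).eq]
      _ = c ^ k * (a * b) * a ^ k := by group
      _ = c ^ k * (c * b * a) * a ^ k := by rw [h]
      _ = c ^ (k + 1) * b * a ^ (k + 1) := by
        rw [pow_succ c k, pow_succ' a k]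
        simp only [mul_assoc]

theorem mul_pow_eq {x y g : D} (hxg : Commute x g) (hyg : Commute y g) (h : y * x = g * x * y)
    (n : ℕ) : (x * y) ^ n = g ^ (n.choose 2) * x ^ n * y ^ n := by
  induction n with
  | zero => simp
  | succ n ih =>
    have h1 : y ^ n * x = g ^ n * x * y ^ n := pow_mul_eq hyg h n
    have h2 : (n + 1).choose 2 = n.choose 2 + n := by
      rw [Nat.choose_succ_succ' n 1, Nat.choose_one_right]
      ring
    calc (x * y) ^ (n + 1) = (x * y) ^ n * (x * y) := pow_succ _ _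
      _ = g ^ (n.choose 2) * x ^ n * (y ^ n * x) * y := by rw [ih]; simp only [mul_assoc]
      _ = g ^ (n.choose 2) * x ^ n * (g ^ n * x * y ^ n) * y := by rw [h1]
      _ = g ^ (n.choose 2) * (x ^ n * g ^ n) * x * y ^ n * y := by simp only [mul_assoc]
      _ = g ^ (n.choose 2) * (g ^ n * x ^ n) * x * y ^ n * y := by
        rw [((hxg.pow_pow n n)).eq]
      _ = g ^ (n + 1).choose 2 * x ^ (n + 1) * y ^ (n + 1) := by
        rw [h2, pow_add, pow_succ x n, pow_succ y n]
        simp only [mul_assoc]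

theorem exists_pow_eq_of_mem_zpowers [Finite D] {x c : D} (h : c ∈ zpowers x) : ∃ k : ℕ, x ^ k = c := by
  have := (mem_powers_iff_mem_zpowers).mpr h
  exact Submonoid.mem_powers_iff _ _ |>.mp this

theorem exists_pow_mul [Finite D] {p r : ℕ} (hp : p.Prime) (hr : 1 ≤ r) {x c : D}
    (hx : orderOf x = p ^ r) (h : c ∈ zpowers x) (hc : c ^ p = 1) :
    ∃ f : ℕ, c = x ^ (p ^ (r - 1) * f) := by
  obtain ⟨k, rfl⟩ := exists_pow_eq_of_mem_zpowers h
  rw [← pow_mul] at hc
  have h1 : p ^ r ∣ k * p := hx ▸ orderOf_dvd_of_pow_eq_one hc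
  obtain ⟨r', rfl⟩ : ∃ r', r = r' + 1 := ⟨r - 1, by omega⟩
  rw [pow_succ] at h1
  obtain ⟨f, rfl⟩ := Nat.dvd_of_mul_dvd_mul_right hp.pos h1
  exact ⟨f, by simp⟩

/-- The main computation: a minimal noncommuting pair generates a quaternion group. -/
theorem minimal_pair [Finite D] (hn : ∀ H : Subgroup D, H.Normal) {a b : D} (hab : a * b ≠ b * a)
    (hmin : ∀ x y : D, x * y ≠ y * x → orderOf a + orderOf b ≤ orderOf x + orderOf y)
    (hle : orderOf b ≤ orderOf a) :
    orderOf a = 4 ∧ a ^ 2 = b ^ 2 ∧ b * a * b⁻¹ = a⁻¹ := by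
  set c := a * b * a⁻¹ * b⁻¹ with hc
  have hc1 : c ≠ 1 := by
    intro h
    apply hab
    have : a * b * a⁻¹ * b⁻¹ * (b * a) = b * a := by rw [← hc, h, one_mul]
    simpa [mul_assoc] using this
  have hca : c ∈ zpowers a := comm_mem_left hn a b
  have hcb : c ∈ zpowers b := comm_mem_right hn a b
  have hcoa : Commute a c := commute_of_mem_zpowers hca
  have hcob : Commute b c := commute_of_mem_zpowers hcb
  have hab' : a * b = c * b * a := by rw [hc]; group
  have pow1 : ∀ k : ℕ, a ^ k * b = c ^ k * b * a ^ k := pow_mul_eq hcoa hab'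
  have pow2 : ∀ k : ℕ, a * b ^ k = c ^ k * b ^ k * a := by
    intro k
    induction k with
    | zero => simp
    | succ k ih =>
      calc a * b ^ (k + 1) = (a * b ^ k) * b := by rw [pow_succ]; group
        _ = c ^ k * b ^ k * (a * b) := by rw [ih]; group
        _ = c ^ k * (b ^ k * c) * b * a := by rw [hab']; group
        _ = c ^ k * (c * b ^ k) * b * a := by rw [(hcob.pow_left k).eq]
        _ = c ^ (k + 1) * b ^ (k + 1) * a := by
          rw [pow_succ c k, pow_succ b k]
          simp only [mul_assoc]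
  have hoa : 0 < orderOf a := orderOf_pos a
  have hob : 0 < orderOf b := orderOf_pos b
  -- prime divisors of the order of `a`
  have hqa : ∀ q : ℕ, q.Prime → q ∣ orderOf a → c ^ q = 1 := by
    intro q hq hd
    have hlt : orderOf (a ^ q) < orderOf a := by
      rw [orderOf_pow_of_dvd hq.ne_zero hd]
      exact Nat.div_lt_self hoa hq.one_lt
    have hcomm : a ^ q * b = b * a ^ q := by
      by_contra hne
      have := hmin (a ^ q) b hne
      omega
    have h1 := pow1 q
    rw [hcomm] at h1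
    exact mul_right_cancel (show c ^ q * (b * a ^ q) = 1 * (b * a ^ q) by
      rw [one_mul, ← mul_assoc, ← h1])
  have hqb : ∀ q : ℕ, q.Prime → q ∣ orderOf b → c ^ q = 1 := by
    intro q hq hd
    have hlt : orderOf (b ^ q) < orderOf b := by
      rw [orderOf_pow_of_dvd hq.ne_zero hd]
      exact Nat.div_lt_self hob hq.one_lt
    have hcomm : a * b ^ q = b ^ q * a := by
      by_contra hne
      have := hmin a (b ^ q) hne
      omega
    have h1 := pow2 q
    rw [hcomm] at h1
    exact mul_right_cancel (show c ^ q * (b ^ q * a) = 1 * (b ^ q * a) by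
      rw [one_mul, ← mul_assoc, ← h1])
  have hcoa' : orderOf c ∣ orderOf a := orderOf_dvd_of_mem_zpowers hca
  have hcob' : orderOf c ∣ orderOf b := orderOf_dvd_of_mem_zpowers hcb
  have hne1 : orderOf c ≠ 1 := by
    rwa [Ne, orderOf_eq_one_iff]
  -- `orderOf c` is a prime
  obtain ⟨p, hp, hpc⟩ := Nat.exists_prime_and_dvd hne1
  have hcp : c ^ p = 1 := hqa p hp (hpc.trans hcoa')
  haveI : Fact p.Prime := ⟨hp⟩
  have hop : orderOf c = p := orderOf_eq_prime hcp hc1
  have hpa : ∀ q : ℕ, q.Prime → q ∣ orderOf a → q = p := by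
    intro q hq hd
    have hq1 := hqa q hq hd
    haveI : Fact q.Prime := ⟨hq⟩
    rw [← orderOf_eq_prime hq1 hc1, hop]
  have hpb : ∀ q : ℕ, q.Prime → q ∣ orderOf b → q = p := by
    intro q hq hd
    have hq1 := hqb q hq hd
    haveI : Fact q.Prime := ⟨hq⟩
    rw [← orderOf_eq_prime hq1 hc1, hop]
  obtain ⟨r, hr⟩ : ∃ r, orderOf a = p ^ r :=
    ⟨_, Nat.eq_prime_pow_of_unique_prime_dvd hoa.ne' (fun {d} h1 h2 => hpa d h1 h2)⟩
  obtain ⟨s, hs⟩ : ∃ s, orderOf b = p ^ s :=
    ⟨_, Nat.eq_prime_pow_of_unique_prime_dvd hob.ne' (fun {d} h1 h2 => hpb d h1 h2)⟩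
  have hpdva : p ∣ orderOf a := hop ▸ hcoa'
  have hpdvb : p ∣ orderOf b := hop ▸ hcob'
  have hr1 : 1 ≤ r := by
    by_contra hh
    have : r = 0 := by omega
    rw [hr, this, pow_zero] at hpdva
    exact hp.one_lt.ne' (Nat.dvd_one.mp hpdva)
  have hs1 : 1 ≤ s := by
    by_contra hh
    have : s = 0 := by omega
    rw [hs, this, pow_zero] at hpdvb
    exact hp.one_lt.ne' (Nat.dvd_one.mp hpdvb)
  have hsr : s ≤ r := by
    rw [hr, hs] at hle
    exact (Nat.pow_le_pow_iff_right hp.one_lt).mp hle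
  obtain ⟨f, hf⟩ := exists_pow_mul hp hr1 hr hca hcp
  obtain ⟨g, hg⟩ := exists_pow_mul hp hs1 hs hcb hcp
  set n := p ^ (s - 1) with hn'
  have hnpos : 0 < n := pow_pos hp.pos _
  have hnp : n * p = p ^ s := by
    rw [hn', ← pow_succ]
    congr 1
    omega
  set b₁ := b ^ n with hb₁
  have hb₁p : b₁ ^ p = 1 := by
    rw [hb₁, ← pow_mul, hnp, ← hs, pow_orderOf_eq_one]
  have hcg : c = b₁ ^ g := by rw [hg, hb₁, pow_mul]
  have hgcop : g.Coprime p := by
    rw [Nat.coprime_comm, hp.coprime_iff_not_dvd]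
    rintro ⟨g', rfl⟩
    apply hc1
    rw [hcg, pow_mul, hb₁p, one_pow]
  obtain ⟨z, -, hz⟩ := Nat.exists_mul_mod_eq_one_of_coprime hgcop hp.one_lt
  have hb₁c : b₁ = c ^ z := by
    rw [hcg, ← pow_mul]
    have h1 : g * z = p * (g * z / p) + 1 := by
      have := Nat.div_add_mod (g * z) p
      omega
    rw [h1, pow_succ, pow_mul, hb₁p, one_pow, one_mul]
  set u := p ^ (r - s) * (f * z) with hu
  set d := a ^ u with hd
  have hdn : d ^ n = b ^ n := by
    change d ^ n = b₁
    rw [hb₁c, hf, hd, ← pow_mul, ← pow_mul]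
    congr 1
    rw [hu, hn']
    have : p ^ (r - 1) = p ^ (r - s) * p ^ (s - 1) := by
      rw [← pow_add]
      congr 1
      omega
    rw [this]
    ring
  have hcod : Commute d a := ((Commute.refl a).pow_left u)
  set w := d⁻¹ * b with hw
  have hwa : a * w ≠ w * a := by
    intro h
    apply hc1
    have h1 : a * (d⁻¹ * b) = d⁻¹ * (a * b) := by
      rw [← mul_assoc, ← mul_assoc]
      congr 1
      exact (hcod.inv_left.eq).symm
    rw [hw, h1, hab', mul_assoc d⁻¹ b a, ← mul_assoc, ← mul_assoc] at h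
    have h2 := mul_left_cancel (a := d⁻¹) (b := c * b * a) (c := b * a) (by simpa only [mul_assoc] using h)
    have h3 : c * (b * a) = 1 * (b * a) := by rw [one_mul, ← mul_assoc, h2]
    exact mul_right_cancel h3
  have hbw : orderOf b ≤ orderOf w := by
    have := hmin a w hwa
    omega
  -- the commutation between `d⁻¹` and `b`
  set e := c ^ u with he
  have hdb : d * b = e * b * d := pow1 u
  have hed : Commute d⁻¹ e := (hcoa.pow_pow u u).inv_left
  have heb : Commute b e := hcob.pow_right u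
  have hbd : b * d⁻¹ = e * d⁻¹ * b := by
    have h1 : b = d⁻¹ * (e * b * d) := by rw [← hdb]; group
    calc b * d⁻¹ = d⁻¹ * (e * b * d) * d⁻¹ := by rw [← h1]
      _ = d⁻¹ * e * b := by group
      _ = e * d⁻¹ * b := by rw [hed.eq]
  have hwn : ∀ m : ℕ, w ^ m = e ^ (m.choose 2) * (d⁻¹) ^ m * b ^ m :=
    fun m => mul_pow_eq hed heb hbd m
  have hep : e ^ p = 1 := by rw [he, ← pow_mul, mul_comm, pow_mul, hcp, one_pow]
  have hwnn : w ^ n = e ^ (n.choose 2) := by
    rw [hwn n, inv_pow, hdn, mul_assoc, inv_mul_cancel, mul_one]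
  -- `p` does not divide `n.choose 2`
  have hchoose : ¬ p ∣ n.choose 2 := by
    rintro ⟨t, ht⟩
    have h1 : w ^ n = 1 := by rw [hwnn, ht, pow_mul, hep, one_pow]
    have h2 : orderOf w ≤ n := orderOf_le_of_pow_eq_one hnpos h1
    have h3 : n < orderOf b := by
      rw [hs, ← hnp]
      exact (Nat.lt_mul_iff_one_lt_right hnpos).mpr hp.one_lt
    omega
  have htwo : ∀ m : ℕ, 2 * m.choose 2 = m * (m - 1) := by
    intro m
    rw [Nat.choose_two_right]
    exact Nat.mul_div_cancel' (Nat.even_mul_pred_self m).two_dvd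
  have hs2 : s ≠ 1 := by
    intro h
    apply hchoose
    have : n = 1 := by rw [hn', h]; simp
    rw [this]
    simp
  obtain ⟨s', hs'⟩ : ∃ s', s = s' + 2 := ⟨s - 2, by omega⟩
  have hnval : n = p ^ (s' + 1) := by
    rw [hn', hs']
    rfl
  have hp2 : p = 2 := by
    by_contra hne
    apply hchoose
    have hodd : p.Coprime 2 := (Nat.coprime_primes hp Nat.prime_two).mpr hne
    have h2 : p ∣ 2 * n.choose 2 := by
      rw [htwo, hnval]
      exact Dvd.dvd.mul_right (dvd_pow_self p (by omega)) _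
    exact hodd.dvd_of_dvd_mul_left h2
  have hs'0 : s' = 0 := by
    by_contra hne
    obtain ⟨s'', rfl⟩ : ∃ s'', s' = s'' + 1 := ⟨s' - 1, by omega⟩
    apply hchoose
    rw [hp2] at hnval ⊢
    have h1 : 2 * n.choose 2 = 2 * (2 * (2 ^ s'' * (n - 1))) := by
      rw [htwo]
      nth_rewrite 1 [hnval]
      ring
    have h2 : n.choose 2 = 2 * (2 ^ s'' * (n - 1)) := by omega
    exact ⟨_, h2⟩
  have hs4 : s = 2 := by omega
  have hn2 : n = 2 := by rw [hnval, hp2, hs'0]; rfl
  have hob4 : orderOf b = 4 := by rw [hs, hp2, hs4]; rfl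
  have hc2 : c ^ 2 = 1 := hp2 ▸ hcp
  have hb₁2 : b₁ ^ 2 = 1 := hp2 ▸ hb₁p
  have hgodd : Odd g := by
    rw [← Nat.not_even_iff_odd]
    rintro ⟨g', hg'⟩
    apply hc1
    rw [hcg, hg', ← two_mul, pow_mul, hb₁2, one_pow]
  obtain ⟨g', hg'⟩ := hgodd
  have hcb2 : c = b ^ 2 := by
    rw [hcg, hg', pow_succ, pow_mul, hb₁2, one_pow, one_mul, hb₁, hn2]
  have hr2 : r = 2 := by
    by_contra hne
    have hr3 : 1 ≤ r - s := by omega
    have he1 : e = 1 := by
      obtain ⟨r', hr'⟩ : ∃ r', r - s = r' + 1 := ⟨r - s - 1, by omega⟩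
      rw [he, hu, hr', hp2, pow_succ, mul_assoc, mul_comm, pow_mul]
      rw [pow_mul c 2, hc2, one_pow, one_pow]
    have h1 : w ^ n = 1 := by
      rw [hwnn, he1, one_pow]
    have h2 : orderOf w ≤ n := orderOf_le_of_pow_eq_one hnpos h1
    omega
  have hoa4 : orderOf a = 4 := by rw [hr, hp2, hr2]; rfl
  have hfodd : Odd f := by
    rw [← Nat.not_even_iff_odd]
    rintro ⟨f', hf'⟩
    apply hc1
    rw [hf, hr2, hp2, hf', ← two_mul]
    have : (2 : ℕ) ^ (2 - 1) * (2 * f') = 4 * f' := by norm_num; ring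
    rw [this, pow_mul, ← hoa4, pow_orderOf_eq_one, one_pow]
  obtain ⟨f', hf'⟩ := hfodd
  have hca2 : c = a ^ 2 := by
    rw [hf, hr2, hp2, hf']
    have : (2 : ℕ) ^ (2 - 1) * (2 * f' + 1) = 4 * f' + 2 := by norm_num; ring
    rw [this, pow_add, pow_mul, ← hoa4, pow_orderOf_eq_one, one_pow, one_mul]
  refine ⟨hoa4, hca2 ▸ hcb2, ?_⟩
  have h1 : a * b * a⁻¹ * b⁻¹ = a * a := by rw [← hc, hca2, sq]
  have h2 : b * a⁻¹ * b⁻¹ = a := by
    apply mul_left_cancel (a := a)
    rw [← h1]
    group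
  have h3 : (b * a⁻¹ * b⁻¹)⁻¹ = a⁻¹ := by rw [h2]
  rw [← h3]
  group

/-- A noncommutative finite Dedekind group contains a quaternion pair. -/
theorem exists_pair [Finite D] (hn : ∀ H : Subgroup D, H.Normal) (hna : ∃ x y : D, x * y ≠ y * x) :
    ∃ a b : D, orderOf a = 4 ∧ a ^ 2 = b ^ 2 ∧ b * a * b⁻¹ = a⁻¹ := by
  classical
  have hex : ∃ n, ∃ x y : D, x * y ≠ y * x ∧ orderOf x + orderOf y = n := by
    obtain ⟨x, y, h⟩ := hna
    exact ⟨_, x, y, h, rfl⟩
  obtain ⟨a, b, hab, hsum⟩ := Nat.find_spec hex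
  have hmin : ∀ x y : D, x * y ≠ y * x → orderOf a + orderOf b ≤ orderOf x + orderOf y := by
    intro x y h
    rw [hsum]
    exact Nat.find_min' hex ⟨x, y, h, rfl⟩
  by_cases hle : orderOf b ≤ orderOf a
  · exact ⟨a, b, minimal_pair hn hab hmin hle⟩
  · refine ⟨b, a, minimal_pair hn hab.symm (fun x y h => ?_) (by omega)⟩
    have := hmin x y h
    omega

section Main

variable {G : Type*} [Group G] [Finite G]

theorem conj_cases (hn : ∀ H : Subgroup G, H.Normal) {x : G} (hx : orderOf x = 4) (g : G) :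
    g * x * g⁻¹ = x ∨ g * x * g⁻¹ = x⁻¹ := by
  have h1 : g * x * g⁻¹ ∈ zpowers x := (hn _).conj_mem _ (mem_zpowers x) g
  obtain ⟨k, hk⟩ := exists_pow_eq_of_mem_zpowers h1
  have hx4 : x ^ 4 = 1 := hx ▸ pow_orderOf_eq_one x
  have hx1 : x ≠ 1 := by
    rintro rfl
    simp at hx
  have hx2 : x ^ 2 ≠ 1 := by
    intro h
    have := orderOf_le_of_pow_eq_one (by norm_num) h
    omega
  have hk' : x ^ (k % 4) = g * x * g⁻¹ := by
    rw [← hk]
    conv_rhs => rw [← Nat.div_add_mod k 4, pow_add, pow_mul, hx4, one_pow, one_mul]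
  have hlt : k % 4 < 4 := Nat.mod_lt _ (by norm_num)
  have hinv : x⁻¹ = x ^ 3 := by
    rw [inv_eq_iff_mul_eq_one]
    rw [← pow_succ', hx4]
  interval_cases (k % 4)
  · exfalso
    apply hx1
    rw [pow_zero] at hk'
    have : g⁻¹ * (g * x * g⁻¹) * g = g⁻¹ * 1 * g := by rw [hk']
    simpa [mul_assoc] using this
  · left
    rw [← hk', pow_one]
  · exfalso
    apply hx2
    have h3 : g * x ^ 2 * g⁻¹ = (x ^ 2) ^ 2 := by
      calc g * x ^ 2 * g⁻¹ = (g * x * g⁻¹) ^ 2 := conj_pow.symm
        _ = _ := by rw [← hk']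
    rw [← pow_mul, hx4] at h3
    have : g⁻¹ * (g * x ^ 2 * g⁻¹) * g = g⁻¹ * 1 * g := by rw [h3]
    simpa [mul_assoc] using this
  · right
    rw [← hk', hinv]

theorem comm_of_conj_eq {g q x : G} (h : g * x * g⁻¹ = q * x * q⁻¹) :
    (q⁻¹ * g) * x = x * (q⁻¹ * g) := by
  have h1 : g * x = q * x * q⁻¹ * g := by rw [← h]; group
  calc (q⁻¹ * g) * x = q⁻¹ * (g * x) := by group
    _ = q⁻¹ * (q * x * q⁻¹ * g) := by rw [h1]
    _ = x * (q⁻¹ * g) := by group

/-- **Dedekind–Baer**. -/
theorem main (hna : ∃ x y : G, x * y ≠ y * x) (hn : ∀ H : Subgroup G, H.Normal) :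
    ∃ Q E A : Subgroup G, Nonempty (Q ≃* QuaternionGroup 2) ∧
      (IsMulCommutative E ∧ ∀ a ∈ E, a ^ 2 = 1) ∧ IsMulCommutative A ∧ Odd (Nat.card A) ∧
      E ⊓ A = ⊥ ∧ Q ⊓ (E ⊔ A) = ⊥ ∧ Q ⊔ (E ⊔ A) = ⊤ := by
  classical
  obtain ⟨a, b, ha4, hab2, hconj⟩ := exists_pair hn hna
  have ha4' : a ^ 4 = 1 := ha4 ▸ pow_orderOf_eq_one a
  have ha2 : a ^ 2 ≠ 1 := by
    intro h
    have := orderOf_le_of_pow_eq_one (by norm_num) h
    omega
  have hb4' : b ^ 4 = 1 := by
    have : b ^ 4 = (b ^ 2) ^ 2 := by rw [← pow_mul]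
    rw [this, ← hab2, ← pow_mul]
    exact ha4'
  have hb2 : b ^ 2 ≠ 1 := hab2 ▸ ha2
  have hb4 : orderOf b = 4 := by
    have := orderOf_eq_prime_pow (p := 2) (n := 1) (x := b) (by simpa using hb2) (by simpa using hb4')
    simpa using this
  have ha2inv : (a ^ 2)⁻¹ = a ^ 2 := by
    rw [inv_eq_iff_mul_eq_one, ← pow_add]
    exact ha4'
  have hba : a * b ≠ b * a := by
    intro h
    apply ha2
    have h1 : b * a * b⁻¹ = a := by rw [← h]; group
    rw [h1] at hconj
    have : a * a = a⁻¹ * a := by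
      nth_rewrite 1 [hconj]
      rfl
    rw [sq, this, inv_mul_cancel]
  have h1 : b * a⁻¹ * b⁻¹ = a := by
    have := congrArg (·⁻¹) hconj
    simpa [mul_assoc] using this
  have h2 : b * a⁻¹ = a * b := by
    calc b * a⁻¹ = (b * a⁻¹ * b⁻¹) * b := by group
      _ = a * b := by rw [h1]
  have hconj' : a * b * a⁻¹ = b⁻¹ := by
    rw [eq_inv_iff_mul_eq_one]
    calc a * b * a⁻¹ * b = a * (b * a⁻¹) * b := by group
      _ = a * (a * b) * b := by rw [h2]
      _ = a ^ 2 * b ^ 2 := by simp only [sq, mul_assoc]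
      _ = a ^ 2 * a ^ 2 := by rw [hab2]
      _ = a ^ 4 := by rw [← pow_add]
      _ = 1 := ha4'
  set M := zpowers a with hM
  haveI hMn : M.Normal := hn M
  set Q := closure ({a, b} : Set G) with hQ
  have haQ : a ∈ Q := subset_closure (by simp)
  have hbQ : b ∈ Q := subset_closure (by simp)
  have hMQ : M ≤ Q := zpowers_le.mpr haQ
  have hbM : b ∉ M := by
    intro h
    exact hba (commute_of_mem_zpowers h).eq
  have ha2M : a ^ 2 ∈ M := pow_mem (mem_zpowers a) 2
  have hb2M : b * b ∈ M := by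
    rw [← sq, ← hab2]
    exact ha2M
  have hb2iM : b⁻¹ * b⁻¹ ∈ M := by
    have := inv_mem hb2M
    simpa using this
  have hdich : ∀ x ∈ Q, x ∈ M ∨ x * b ∈ M := by
    intro x hx
    induction hx using closure_induction with
    | mem x hx =>
      rcases hx with rfl | hx
      · left; exact mem_zpowers x
      · rw [Set.mem_singleton_iff] at hx
        subst hx
        right; exact hb2M
    | one => left; exact one_mem _
    | mul x y _ _ hx hy =>
      rcases hx with hx | hx <;> rcases hy with hy | hy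
      · left; exact mul_mem hx hy
      · right
        rw [mul_assoc]
        exact mul_mem hx hy
      · right
        have h3 : b⁻¹ * y * b ∈ M := by
          have := hMn.conj_mem y hy b⁻¹
          simpa using this
        have : x * y * b = (x * b) * (b⁻¹ * y * b) := by group
        rw [this]
        exact mul_mem hx h3
      · left
        have h3 : b⁻¹ * (y * b) * b ∈ M := by
          have := hMn.conj_mem _ hy b⁻¹
          simpa using this
        have : x * y = (x * b) * (b⁻¹ * (y * b) * b) * (b⁻¹ * b⁻¹) := by group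
        rw [this]
        exact mul_mem (mul_mem hx h3) hb2iM
    | inv x _ hx =>
      rcases hx with hx | hx
      · left; exact inv_mem hx
      · right
        have h3 : b * (x * b)⁻¹ * b⁻¹ ∈ M := hMn.conj_mem _ (inv_mem hx) b
        have : x⁻¹ * b = (b * (x * b)⁻¹ * b⁻¹) * (b * b) := by group
        rw [this]
        exact mul_mem h3 hb2M
  have hindex : (M.subgroupOf Q).index = 2 := by
    rw [Subgroup.index_eq_two_iff]
    refine ⟨⟨b, hbQ⟩, fun x => ?_⟩
    simp only [mem_subgroupOf, Subgroup.coe_mul]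
    by_cases hx : (x : G) ∈ M
    · right
      refine ⟨hx, fun h => hbM ?_⟩
      have := mul_mem (inv_mem hx) h
      simpa using this
    · left
      exact ⟨(hdich x x.2).resolve_left hx, hx⟩
  have hcardQ : Nat.card Q = 8 := by
    have h3 := Subgroup.card_mul_index (M.subgroupOf Q)
    rw [hindex, Nat.card_congr (Subgroup.subgroupOfEquivOfLe hMQ).toEquiv, hM, Nat.card_zpowers, ha4] at h3
    omega
  have hQuat : Nonempty (Q ≃* QuaternionGroup 2) := by
    obtain ⟨E⟩ := Cfsg.Agent.Lib.PGroups.Presentations.nonempty_quaternion_equiv (G := Q) (m := 2)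
      (a := ⟨a, haQ⟩) (y := ⟨b, hbQ⟩) (by rw [Subgroup.orderOf_mk, ha4])
      (Subtype.ext hab2.symm) (Subtype.ext hconj) (by
        intro h
        obtain ⟨k, hk⟩ := mem_zpowers_iff.mp h
        apply hbM
        have := congrArg Subtype.val hk
        simp only [SubgroupClass.coe_zpow] at this
        rw [← this]
        exact zpow_mem (mem_zpowers a) k) hcardQ
    exact ⟨E.symm⟩
  -- the centralizer
  set C := centralizer ({a, b} : Set G) with hC
  have hmemC : ∀ x, x ∈ C ↔ x * a = a * x ∧ x * b = b * x := by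
    intro x
    rw [hC, mem_centralizer_iff]
    constructor
    · intro h
      exact ⟨(h a (by simp)).symm, (h b (by simp)).symm⟩
    · rintro ⟨h3, h4⟩ y hy
      rcases hy with rfl | hy
      · exact h3.symm
      · rw [Set.mem_singleton_iff] at hy
        subst hy
        exact h4.symm
  have hna' : a * b ≠ b * a := hba
  have hno4 : ∀ x ∈ C, orderOf x ≠ 4 := by
    intro x hx hx4
    obtain ⟨hxa, hxb⟩ := (hmemC x).mp hx
    set y := a * x with hy
    have hax : Commute a x := hxa.symm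
    have hy4 : y ^ 4 = 1 := by
      have hx4' : x ^ 4 = 1 := hx4 ▸ pow_orderOf_eq_one x
      rw [hy, hax.mul_pow, ha4', hx4', one_mul]
    have hcm := comm_mem_left hn y b
    have hval : y * b * y⁻¹ * b⁻¹ = a ^ 2 := by
      have h3 : y * b * y⁻¹ = a * b * a⁻¹ := by
        rw [hy, mul_inv_rev]
        calc a * x * b * (x⁻¹ * a⁻¹) = a * (x * b) * x⁻¹ * a⁻¹ := by group
          _ = a * (b * x) * x⁻¹ * a⁻¹ := by rw [hxb]
          _ = _ := by group
      rw [h3, hconj', ← ha2inv, hab2]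
      group
    rw [hval] at hcm
    obtain ⟨k, hk⟩ := exists_pow_eq_of_mem_zpowers hcm
    have hk' : y ^ (k % 4) = a ^ 2 := by
      rw [← hk]
      conv_rhs => rw [← Nat.div_add_mod k 4, pow_add, pow_mul, hy4, one_pow, one_mul]
    have hlt : k % 4 < 4 := Nat.mod_lt _ (by norm_num)
    have hxa_eq : y = a ^ 2 → False := by
      intro h3
      have h4 : x = a := by
        apply mul_left_cancel (a := a)
        rw [← hy, h3, sq]
      apply hba
      rw [h4] at hxb
      exact hxb
    interval_cases (k % 4)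
    · rw [pow_zero] at hk'
      exact ha2 hk'.symm
    · rw [pow_one] at hk'
      exact hxa_eq hk'
    · have h3 : a ^ 2 * x ^ 2 = a ^ 2 := by
        rw [← hax.mul_pow, ← hy, hk']
      have h4 : x ^ 2 = 1 := by simpa using h3
      have := orderOf_le_of_pow_eq_one (by norm_num) h4
      omega
    · have h3 : y ^ 6 = 1 := by
        have : y ^ 6 = (y ^ 3) ^ 2 := by rw [← pow_mul]
        rw [this, hk', ← pow_mul]
        exact ha4'
      have h4 : y ^ 2 = 1 := by
        have : y ^ 6 = y ^ 4 * y ^ 2 := by rw [← pow_add]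
        rw [this, hy4, one_mul] at h3
        exact h3
      have h5 : y = a ^ 2 := by
        have : y ^ 3 = y ^ 2 * y := pow_succ y 2
        rw [h4, one_mul, hk'] at this
        exact this.symm
      exact hxa_eq h5
  have hCab : ∀ x ∈ C, ∀ y ∈ C, x * y = y * x := by
    by_contra hcon
    push Not at hcon
    obtain ⟨x, hx, y, hy, hxy⟩ := hcon
    have hnC : ∀ H : Subgroup C, H.Normal := by
      intro H
      refine ⟨fun n hnH g => ?_⟩
      have h3 := (hn (H.map C.subtype)).conj_mem n ⟨n, hnH, rfl⟩ g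
      obtain ⟨z, hz, hz'⟩ := h3
      have : g * n * g⁻¹ = z := Subtype.ext hz'.symm
      rw [this]
      exact hz
    obtain ⟨a', b', ha', -, -⟩ := exists_pair hnC ⟨⟨x, hx⟩, ⟨y, hy⟩, fun h => hxy (congrArg Subtype.val h)⟩
    apply hno4 a' a'.2
    rw [← Subgroup.orderOf_coe] at ha'
    exact ha'
  -- the two parts of `C`
  let W : Subgroup G :=
    { carrier := {x | x ∈ C ∧ x ^ 2 = 1}
      one_mem' := ⟨one_mem _, one_pow _⟩
      mul_mem' := by
        rintro x y ⟨hx, hx2⟩ ⟨hy, hy2⟩
        refine ⟨mul_mem hx hy, ?_⟩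
        have : Commute x y := hCab x hx y hy
        rw [this.mul_pow, hx2, hy2, one_mul]
      inv_mem' := by
        rintro x ⟨hx, hx2⟩
        exact ⟨inv_mem hx, by rw [inv_pow, hx2, inv_one]⟩ }
  let A : Subgroup G :=
    { carrier := {x | x ∈ C ∧ Odd (orderOf x)}
      one_mem' := ⟨one_mem _, by simp⟩
      mul_mem' := by
        rintro x y ⟨hx, hx2⟩ ⟨hy, hy2⟩
        refine ⟨mul_mem hx hy, ?_⟩
        have h3 : Commute x y := hCab x hx y hy
        exact Odd.of_dvd_nat (hx2.mul hy2) (h3.orderOf_mul_dvd_lcm.trans (Nat.lcm_dvd_mul _ _))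
      inv_mem' := by
        rintro x ⟨hx, hx2⟩
        exact ⟨inv_mem hx, by rwa [orderOf_inv]⟩ }
  have hmemW : ∀ x, x ∈ W ↔ x ∈ C ∧ x ^ 2 = 1 := fun x => Iff.rfl
  have hmemA : ∀ x, x ∈ A ↔ x ∈ C ∧ Odd (orderOf x) := fun x => Iff.rfl
  have hdecomp : ∀ x ∈ C, ∃ w ∈ W, ∃ y ∈ A, x = w * y := by
    intro x hx
    by_cases ho : Odd (orderOf x)
    · exact ⟨1, one_mem _, x, ⟨hx, ho⟩, by simp⟩
    · rw [Nat.not_odd_iff_even] at ho
      obtain ⟨m, hm⟩ := ho
      have hx2m : x ^ (2 * m) = 1 := by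
        rw [two_mul, ← hm, pow_orderOf_eq_one]
      have hmodd : Odd m := by
        rw [← Nat.not_even_iff_odd]
        rintro ⟨k, hk⟩
        have hko : orderOf (x ^ k) = 4 := by
          have hkne : k ≠ 0 := by
            rintro rfl
            have := orderOf_pos x
            omega
          rw [orderOf_pow_of_dvd hkne ⟨4, by omega⟩]
          rw [hm, hk]
          have : k + k + (k + k) = k * 4 := by ring
          rw [this]
          exact Nat.mul_div_cancel_left 4 (Nat.pos_of_ne_zero hkne)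
        exact hno4 _ (pow_mem hx k) hko
      obtain ⟨t, ht⟩ := hmodd
      refine ⟨x ^ m, ⟨pow_mem hx m, ?_⟩, x ^ (m + 1), ⟨pow_mem hx _, ?_⟩, ?_⟩
      · rw [← pow_mul, mul_comm]
        exact hx2m
      · have h3 : (x ^ (m + 1)) ^ m = 1 := by
          rw [← pow_mul]
          have : (m + 1) * m = (2 * m) * (t + 1) := by
            rw [ht]
            ring
          rw [this, pow_mul, hx2m, one_pow]
        apply Odd.of_dvd_nat _ (orderOf_dvd_of_pow_eq_one h3)
        exact ⟨t, ht⟩
      · rw [← pow_add]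
        have : m + (m + 1) = 2 * m + 1 := by ring
        rw [this, pow_succ, hx2m, one_mul]
  have hoddsq : ∀ y ∈ A, y ^ 2 = 1 → y = 1 := by
    intro y hy hy2
    have h3 : orderOf y ∣ 2 := orderOf_dvd_of_pow_eq_one hy2
    rcases (Nat.dvd_prime Nat.prime_two).mp h3 with h4 | h4
    · exact orderOf_eq_one_iff.mp h4
    · exfalso
      have := hy.2
      rw [h4] at this
      exact absurd this (by decide)
  -- choose `E`
  obtain ⟨E, hEmax⟩ := Set.Finite.exists_maximal
    (Set.toFinite {E : Subgroup G | E ≤ W ∧ a ^ 2 ∉ E})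
    ⟨⊥, bot_le, fun h => ha2 (Subgroup.mem_bot.mp h)⟩
  have hEW : E ≤ W := hEmax.prop.1
  have hEc : a ^ 2 ∉ E := hEmax.prop.2
  have hEd : ∀ x ∈ W, x ∈ E ∨ a ^ 2 * x ∈ E := by
    intro x hx
    by_cases hxE : x ∈ E
    · exact Or.inl hxE
    · right
      have hle : E ⊔ zpowers x ≤ W := sup_le hEW (zpowers_le.mpr hx)
      have hnotin : ¬ (E ⊔ zpowers x ∈ {E : Subgroup G | E ≤ W ∧ a ^ 2 ∉ E}) := by
        intro hin
        have h3 := hEmax.le_of_ge hin le_sup_left
        exact hxE (h3 (mem_sup_right (mem_zpowers x)))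
      have hc' : a ^ 2 ∈ E ⊔ zpowers x := by
        by_contra hcon
        exact hnotin ⟨hle, hcon⟩
      haveI := hn (zpowers x)
      have h3 : a ^ 2 ∈ (↑(E ⊔ zpowers x) : Set G) := hc'
      rw [Subgroup.mul_normal] at h3
      obtain ⟨e, he, z, hz, hez⟩ := Set.mem_mul.mp h3
      have hx2 : x ^ 2 = 1 := hx.2
      have hxx : x * x = 1 := by rw [← sq, hx2]
      obtain ⟨k, rfl⟩ := exists_pow_eq_of_mem_zpowers hz
      have hk2 : x ^ k = 1 ∨ x ^ k = x := by
        have : x ^ k = x ^ (k % 2) := by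
          conv_lhs => rw [← Nat.div_add_mod k 2, pow_add, pow_mul, hx2, one_pow, one_mul]
        rw [this]
        rcases Nat.mod_two_eq_zero_or_one k with h4 | h4 <;> simp [h4]
      rcases hk2 with h4 | h4
      · exfalso
        rw [h4, mul_one] at hez
        exact hEc (hez ▸ he)
      · rw [h4] at hez
        rw [← hez, mul_assoc, hxx, mul_one]
        exact he
  have ha2comm : a ^ 2 ∈ C := by
    rw [hmemC]
    constructor
    · exact ((Commute.refl a).pow_left 2).eq
    · have h3 : b * a ^ 2 * b⁻¹ = a ^ 2 := by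
        calc b * a ^ 2 * b⁻¹ = (b * a * b⁻¹) ^ 2 := conj_pow.symm
          _ = (a⁻¹) ^ 2 := by rw [hconj]
          _ = a ^ 2 := by rw [inv_pow, ha2inv]
      calc a ^ 2 * b = b * a ^ 2 * b⁻¹ * b := by rw [h3]
        _ = b * a ^ 2 := by group
  have ha2sq : a ^ 2 * a ^ 2 = 1 := by rw [← pow_add]; exact ha4'
  refine ⟨Q, E, A, hQuat, ⟨⟨⟨fun x y => Subtype.ext (hCab _ (hEW x.2).1 _ (hEW y.2).1)⟩⟩,
    fun z hz => (hEW hz).2⟩, ⟨⟨fun x y => Subtype.ext (hCab _ x.2.1 _ y.2.1)⟩⟩, ?_, ?_, ?_, ?_⟩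
  · by_contra hcon
    rw [Nat.not_odd_iff_even] at hcon
    haveI : Fact (Nat.Prime 2) := ⟨Nat.prime_two⟩
    obtain ⟨x, hx⟩ := exists_prime_orderOf_dvd_card' (G := A) 2 hcon.two_dvd
    have h3 := x.2.2
    rw [← Subgroup.orderOf_coe] at hx
    rw [hx] at h3
    exact absurd h3 (by decide)
  · rw [eq_bot_iff]
    rintro x ⟨hxE, hxA⟩
    exact hoddsq x hxA (hEW hxE).2
  · rw [eq_bot_iff]
    rintro x ⟨hxQ, hxs⟩
    haveI := hn A
    have h3 : x ∈ (↑(E ⊔ A) : Set G) := hxs
    rw [Subgroup.mul_normal] at h3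
    obtain ⟨e, he, y, hy, rfl⟩ := Set.mem_mul.mp h3
    have heC : e ∈ C := (hEW he).1
    have hyC : y ∈ C := hy.1
    have hxC : e * y ∈ C := mul_mem heC hyC
    obtain ⟨hxa, hxb⟩ := (hmemC _).mp hxC
    rcases hdich _ hxQ with hm | hm
    · obtain ⟨k, hk⟩ := exists_pow_eq_of_mem_zpowers hm
      have hk' : a ^ (k % 4) = e * y := by
        rw [← hk]
        conv_rhs => rw [← Nat.div_add_mod k 4, pow_add, pow_mul, ha4', one_pow, one_mul]
      have hlt : k % 4 < 4 := Nat.mod_lt _ (by norm_num)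
      interval_cases (k % 4)
      · rw [pow_zero] at hk'
        exact hk'.symm
      · rw [pow_one] at hk'
        rw [← hk'] at hxb
        exact absurd hxb hba
      · exfalso
        have h4 : (e * y) ^ 2 = 1 := by
          rw [← hk', ← pow_mul]
          exact ha4'
        have h5 : Commute e y := hCab e heC y hyC
        rw [h5.mul_pow, (hEW he).2, one_mul] at h4
        have h6 := hoddsq y hy h4
        rw [h6, mul_one] at hk'
        exact hEc (hk' ▸ he)
      · exfalso
        have h4 : a⁻¹ = a ^ 3 := by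
          rw [inv_eq_iff_mul_eq_one, ← pow_succ', ha4']
        rw [← hk', ← h4] at hxb
        apply hba
        have h6 : b * a = a * b := by
          have : a⁻¹ * b = b * a⁻¹ := hxb
          calc b * a = a * (a⁻¹ * b) * a := by group
            _ = a * (b * a⁻¹) * a := by rw [this]
            _ = a * b := by group
        exact h6.symm
    · have h4 := commute_of_mem_zpowers hm
      exfalso
      apply hba
      have h5 : a * (e * y * b) = e * y * b * a := h4.eq
      have h6 : e * y * (a * b) = e * y * (b * a) := by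
        calc e * y * (a * b) = (e * y * a) * b := by group
          _ = (a * (e * y)) * b := by rw [hxa]
          _ = a * (e * y * b) := by group
          _ = e * y * b * a := h5
          _ = e * y * (b * a) := by group
      exact mul_left_cancel h6
  · rw [eq_top_iff]
    intro x _
    -- first `x = q * h`, `q ∈ Q`, `h ∈ C`
    have hfac : ∃ q ∈ Q, q⁻¹ * x ∈ C := by
      rcases conj_cases hn ha4 x with h3 | h3 <;> rcases conj_cases hn hb4 x with h4 | h4
      · refine ⟨1, one_mem _, ?_⟩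
        rw [hmemC]
        constructor
        · apply comm_of_conj_eq
          rw [h3]; group
        · apply comm_of_conj_eq
          rw [h4]; group
      · refine ⟨a, haQ, ?_⟩
        rw [hmemC]
        constructor
        · apply comm_of_conj_eq
          rw [h3]; group
        · apply comm_of_conj_eq
          rw [h4, hconj']
      · refine ⟨b, hbQ, ?_⟩
        rw [hmemC]
        constructor
        · apply comm_of_conj_eq
          rw [h3, hconj]
        · apply comm_of_conj_eq
          rw [h4]; group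
      · refine ⟨a * b, mul_mem haQ hbQ, ?_⟩
        rw [hmemC]
        constructor
        · apply comm_of_conj_eq
          rw [h3]
          have : a * b * a * (a * b)⁻¹ = a * (b * a * b⁻¹) * a⁻¹ := by group
          rw [this, hconj]
          group
        · apply comm_of_conj_eq
          rw [h4]
          have : a * b * b * (a * b)⁻¹ = a * b * a⁻¹ := by group
          rw [this, hconj']
    obtain ⟨q, hq, hqx⟩ := hfac
    obtain ⟨w, hw, y, hy, hwy⟩ := hdecomp _ hqx
    have hx' : x = q * (w * y) := by rw [← hwy]; group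
    rcases hEd w hw with hwE | hwE
    · rw [hx']
      exact mul_mem (mem_sup_left hq) (mem_sup_right (mul_mem (mem_sup_left hwE) (mem_sup_right hy)))
    · have haQ2 : a ^ 2 ∈ Q := pow_mem haQ 2
      have hx'' : x = (q * a ^ 2) * ((a ^ 2 * w) * y) := by
        rw [hx']
        calc q * (w * y) = q * (1 * w * y) := by group
          _ = q * (a ^ 2 * a ^ 2 * w * y) := by rw [ha2sq]
          _ = _ := by simp only [mul_assoc]
      rw [hx'']
      exact mul_mem (mem_sup_left (mul_mem hq haQ2))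
        (mem_sup_right (mul_mem (mem_sup_left hwE) (mem_sup_right hy)))

end Main

end Cfsg.Agent.Lib.FG7.Dedekind
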