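import Mathlib
import Cfsg.Agent.S0016
import Cfsg.Agent.Lib.OddLocal.CN
import Cfsg.Agent.Lib.Core.Basic

/-!
# Normal nilpotent subgroups `N` such that all elements of a coset outside `N` have equal order
-/

set_option autoImplicit false

namespace Cfsg.Agent.Lib.FG7.EqualOrder

open Subgroup Finset

universe u

/-- Reindexing a product over residues modulo `q`. -/
theorem prod_reindex {M : Type*} [CommMonoid M] {q k : ℕ} (hq : 0 < q) (hk : k.Coprime q)
    (f : ℕ → M) (hf : ∀ n, f n = f (n % q)) :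
    ∏ i ∈ range q, f (i * k) = ∏ i ∈ range q, f i := by
  have hmaps : Set.MapsTo (fun i => (i * k) % q) (range q : Set ℕ) (range q : Set ℕ) := by
    intro i _
    simp only [Finset.coe_range, Set.mem_Iio]
    exact Nat.mod_lt _ hq
  have hinj : Set.InjOn (fun i => (i * k) % q) (range q : Set ℕ) := by
    intro i hi j hj hij
    simp only [Finset.coe_range, Set.mem_Iio] at hi hj
    have h1 : i * k ≡ j * k [MOD q] := hij
    have h2 : i ≡ j [MOD q] := Nat.ModEq.cancel_right_of_coprime (by rwa [Nat.coprime_comm] at hk) h1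
    exact Nat.ModEq.eq_of_lt_of_lt h2 hi hj
  refine Finset.prod_nbij (fun i => (i * k) % q) (fun i hi => ?_) hinj ?_ (fun i _ => hf _)
  · exact hmaps (by exact_mod_cast hi)
  · exact Finset.surjOn_of_injOn_of_card_le _ hmaps hinj le_rfl

/-- The classical fact: an elementary abelian group of rank two has no fixed-point-free action. -/
theorem no_fpf_pair {V : Type*} [Group V] (hc : ∀ x y : V, x * y = y * x) {q : ℕ} (hq : q.Prime)
    (σ τ : MulAut V) (hcomm : σ * τ = τ * σ) (hσ : σ ^ q = 1) (hτ : τ ^ q = 1)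
    (h1 : ∀ (i : ℕ) (v : V), (σ * τ ^ i) v = v → v = 1) (h2 : ∀ v : V, τ v = v → v = 1) (v : V) :
    v ^ q = 1 := by
  letI : CommGroup V := { ‹Group V› with mul_comm := hc }
  have hcm : Commute σ τ := hcomm
  have norm_fixed : ∀ ρ : MulAut V, ρ ^ q = 1 → ∀ w : V,
      ρ (∏ k ∈ range q, (ρ ^ k) w) = ∏ k ∈ range q, (ρ ^ k) w := by
    intro ρ hρ w
    rw [map_prod]
    have h3 : ∀ k, ρ ((ρ ^ k) w) = (ρ ^ (k + 1)) w := by
      intro k
      rw [pow_succ']
      rfl
    simp only [h3]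
    have h4 := Finset.prod_range_succ' (fun k => (ρ ^ k) w) q
    have h5 := Finset.prod_range_succ (fun k => (ρ ^ k) w) q
    rw [h4] at h5
    simp only [hρ, pow_zero] at h5
    exact mul_right_cancel h5
  have hN1 : ∀ (i : ℕ) (w : V), ∏ k ∈ range q, ((σ * τ ^ i) ^ k) w = 1 := by
    intro i w
    apply h1 i
    apply norm_fixed
    rw [(hcm.pow_right i).mul_pow, hσ, ← pow_mul, mul_comm, pow_mul, hτ, one_pow, one_mul]
  have hN2 : ∀ w : V, ∏ j ∈ range q, (τ ^ j) w = 1 := fun w => h2 _ (norm_fixed τ hτ w)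
  have hτmod : ∀ (n : ℕ) (w : V), (τ ^ n) w = (τ ^ (n % q)) w := by
    intro n w
    conv_lhs => rw [← Nat.div_add_mod n q, pow_add, pow_mul, hτ, one_pow, one_mul]
  have hre : ∀ k, 0 < k → k < q → ∀ w : V, ∏ i ∈ range q, (τ ^ (i * k)) w = 1 := by
    intro k hk0 hkq w
    have hcop : k.Coprime q := by
      rw [Nat.coprime_comm, hq.coprime_iff_not_dvd]
      exact Nat.not_dvd_of_pos_of_lt hk0 hkq
    rw [prod_reindex hq.pos hcop (fun n => (τ ^ n) w) (fun n => hτmod n w)]
    exact hN2 w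
  have hexp : ∀ i k : ℕ, (σ * τ ^ i) ^ k = σ ^ k * τ ^ (i * k) := by
    intro i k
    rw [(hcm.pow_right i).mul_pow, ← pow_mul]
  have hmain : ∏ k ∈ range q, (σ ^ k) (∏ i ∈ range q, (τ ^ (i * k)) v) = 1 := by
    simp only [map_prod]
    rw [Finset.prod_comm]
    apply Finset.prod_eq_one
    intro i _
    have := hN1 i v
    simpa only [hexp, MulAut.mul_apply] using this
  obtain ⟨q', hq'⟩ : ∃ q', q = q' + 1 := ⟨q - 1, by have := hq.pos; omega⟩
  rw [hq', Finset.prod_range_succ', ← hq'] at hmain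
  have hone : ∏ k ∈ range q', (σ ^ (k + 1)) (∏ i ∈ range q, (τ ^ (i * (k + 1))) v) = 1 := by
    apply Finset.prod_eq_one
    intro k hk
    rw [hre (k + 1) (Nat.succ_pos _) (by rw [Finset.mem_range] at hk; omega), map_one]
  rw [hone, one_mul] at hmain
  simpa using hmain

section Parts

variable {G : Type u} [Group G] [Finite G]

/-- Primary parts of an element relative to a power lying in a given place. -/
theorem exists_parts (g : G) {q : ℕ} (hq : q.Prime) (k : ℕ) :
    ∃ u w : G, g = w * u ∧ (∃ j, orderOf u = q ^ j) ∧ (∃ z : ℤ, w = (g ^ (q ^ k)) ^ z) ∧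
      (∃ z : ℤ, u = g ^ z) := by
  have ho : orderOf g ≠ 0 := (orderOf_pos g).ne'
  obtain ⟨a, m, hm, hom⟩ := Nat.exists_eq_pow_mul_and_not_dvd ho q hq.ne_one
  have hcop : (q ^ (a + k)).Coprime m := Nat.Coprime.pow_left _ ((hq.coprime_iff_not_dvd).mpr hm)
  have hc : IsCoprime ((q ^ (a + k) : ℕ) : ℤ) (m : ℤ) := Nat.isCoprime_iff_coprime.mpr hcop
  obtain ⟨s, t, hst⟩ := hc
  refine ⟨g ^ ((m : ℤ) * t), (g ^ (q ^ k)) ^ ((q ^ a : ℕ) * s : ℤ), ?_, ?_, ⟨_, rfl⟩, ⟨_, rfl⟩⟩
  · rw [← zpow_natCast g (q ^ k), ← zpow_mul, ← zpow_add]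
    have : ((q ^ k : ℕ) : ℤ) * (((q ^ a : ℕ) : ℤ) * s) + (m : ℤ) * t = 1 := by
      rw [← hst]
      push_cast
      ring
    rw [this, zpow_one]
  · have h1 : (g ^ ((m : ℤ) * t)) ^ (q ^ a) = 1 := by
      rw [← zpow_natCast, ← zpow_mul]
      have : (m : ℤ) * t * ((q ^ a : ℕ) : ℤ) = ((orderOf g : ℕ) : ℤ) * t := by
        rw [hom]
        push_cast
        ring
      rw [this, zpow_mul, zpow_natCast, pow_orderOf_eq_one, one_zpow]
    obtain ⟨j, -, hj⟩ := (Nat.dvd_prime_pow hq).mp (orderOf_dvd_of_pow_eq_one h1)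
    exact ⟨j, hj⟩

/-- Coprime decomposition. -/
theorem exists_parts' (g : G) {q : ℕ} (hq : q.Prime) :
    ∃ u w : G, g = w * u ∧ (∃ j, orderOf u = q ^ j) ∧ (orderOf w).Coprime q := by
  have ho : orderOf g ≠ 0 := (orderOf_pos g).ne'
  obtain ⟨a, m, hm, hom⟩ := Nat.exists_eq_pow_mul_and_not_dvd ho q hq.ne_one
  have hcop : (q ^ a).Coprime m := Nat.Coprime.pow_left _ ((hq.coprime_iff_not_dvd).mpr hm)
  have hc : IsCoprime ((q ^ a : ℕ) : ℤ) (m : ℤ) := Nat.isCoprime_iff_coprime.mpr hcop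
  obtain ⟨s, t, hst⟩ := hc
  refine ⟨g ^ ((m : ℤ) * t), g ^ (((q ^ a : ℕ) : ℤ) * s), ?_, ?_, ?_⟩
  · rw [← zpow_add]
    have : ((q ^ a : ℕ) : ℤ) * s + (m : ℤ) * t = 1 := by
      rw [← hst]
      ring
    rw [this, zpow_one]
  · have h1 : (g ^ ((m : ℤ) * t)) ^ (q ^ a) = 1 := by
      rw [← zpow_natCast, ← zpow_mul]
      have : (m : ℤ) * t * ((q ^ a : ℕ) : ℤ) = ((orderOf g : ℕ) : ℤ) * t := by
        rw [hom]
        push_cast
        ring
      rw [this, zpow_mul, zpow_natCast, pow_orderOf_eq_one, one_zpow]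
    obtain ⟨j, -, hj⟩ := (Nat.dvd_prime_pow hq).mp (orderOf_dvd_of_pow_eq_one h1)
    exact ⟨j, hj⟩
  · have h1 : (g ^ (((q ^ a : ℕ) : ℤ) * s)) ^ m = 1 := by
      rw [← zpow_natCast, ← zpow_mul]
      have : ((q ^ a : ℕ) : ℤ) * s * (m : ℤ) = ((orderOf g : ℕ) : ℤ) * s := by
        rw [hom]
        push_cast
        ring
      rw [this, zpow_mul, zpow_natCast, pow_orderOf_eq_one, one_zpow]
    have h2 : orderOf (g ^ (((q ^ a : ℕ) : ℤ) * s)) ∣ m := orderOf_dvd_of_pow_eq_one h1
    rw [Nat.coprime_comm, hq.coprime_iff_not_dvd]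
    exact fun h => hm (h.trans h2)

/-- In a nilpotent group every prime divisor of the order divides the order of the centre. -/
theorem exists_central_prime {L : Type*} [Group L] [Finite L] [Group.IsNilpotent L] {r : ℕ}
    [hr : Fact r.Prime] (h : r ∣ Nat.card L) : ∃ v ∈ center L, orderOf v = r := by
  classical
  obtain ⟨R⟩ : Nonempty (Sylow r L) := inferInstance
  have hRn : (R : Subgroup L).Normal := inferInstance
  have hR : IsPGroup r (R : Subgroup L) := R.isPGroup'
  have hmem : ∀ u : L, (∃ j, orderOf u = r ^ j) → u ∈ (R : Subgroup L) := by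
    rintro u ⟨j, hj⟩
    have hP : IsPGroup r (zpowers u) := IsPGroup.of_card (n := j) (by rw [Nat.card_zpowers, hj])
    obtain ⟨Q, hQ⟩ := hP.exists_le_sylow
    have hQR : Q = R := by
      haveI := Sylow.unique_of_normal R hRn
      exact Subsingleton.elim _ _
    rw [← hQR]
    exact hQ (mem_zpowers u)
  obtain ⟨x, hx⟩ := exists_prime_orderOf_dvd_card' r h
  have hxR : x ∈ (R : Subgroup L) := hmem x ⟨1, by rw [hx, pow_one]⟩
  have hx1 : x ≠ 1 := by
    rintro rfl
    rw [orderOf_one] at hx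
    exact hr.out.one_lt.ne hx
  haveI hntR : Nontrivial (R : Subgroup L) :=
    ⟨⟨⟨x, hxR⟩, 1, fun h => hx1 (congrArg Subtype.val h)⟩⟩
  haveI hcn := hR.center_nontrivial
  have hPc : IsPGroup r (center (R : Subgroup L)) := hR.to_subgroup _
  obtain ⟨n, hn, hcard⟩ := hPc.nontrivial_iff_card.mp hcn
  obtain ⟨v, hv⟩ := exists_prime_orderOf_dvd_card' (G := center (R : Subgroup L)) r
    (by rw [hcard]; exact dvd_pow_self r hn.ne')
  have hv2 : orderOf ((v : (R : Subgroup L)) : L) = r := by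
    rw [Subgroup.orderOf_coe, Subgroup.orderOf_coe, hv]
  refine ⟨((v : (R : Subgroup L)) : L), ?_, hv2⟩
  rw [Subgroup.mem_center_iff]
  intro n'
  obtain ⟨u, w, rfl, hu, hw⟩ := exists_parts' n' hr.out
  have h1 : Commute w ((v : (R : Subgroup L)) : L) := by
    apply Cfsg.Agent.Lib.OddLocal.CN.commute_of_coprime
    rw [hv2]
    exact hw
  have h2 : Commute u ((v : (R : Subgroup L)) : L) := by
    have := (Subgroup.mem_center_iff.mp v.2) ⟨u, hmem u hu⟩
    exact congrArg Subtype.val this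
  exact (h1.mul_left h2).eq

end Parts

section Main

variable {G : Type u} [Group G] [Finite G] {N : Subgroup G}

theorem fixed_trivial (heq : ∀ x : G, x ∉ N → ∀ n ∈ N, orderOf (x * n) = orderOf x) {x v : G}
    (hx : x ∉ N) (hv : v ∈ N) (hc : Commute x v) (hcop : (orderOf x).Coprime (orderOf v)) : v = 1 := by
  have h1 := heq x hx v hv
  have h2 := hc.orderOf_mul_eq_mul_orderOf_of_coprime hcop
  rw [h2] at h1
  have h3 : orderOf v = 1 := by
    have hpos := orderOf_pos x
    exact Nat.eq_of_mul_eq_mul_left hpos (by rw [h1, mul_one])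
  exact orderOf_eq_one_iff.mp h3

/-- The elements of order dividing `r` of the centre of `N`. -/
def centV (N : Subgroup G) (r : ℕ) : Subgroup G where
  carrier := {v | v ∈ N ∧ (∀ n ∈ N, n * v = v * n) ∧ v ^ r = 1}
  one_mem' := ⟨one_mem _, by simp, one_pow _⟩
  mul_mem' := by
    rintro a b ⟨ha, ha2, ha3⟩ ⟨hb, hb2, hb3⟩
    refine ⟨mul_mem ha hb, ?_, ?_⟩
    · intro n hn
      rw [← mul_assoc, ha2 n hn, mul_assoc, hb2 n hn, mul_assoc]
    · have : Commute a b := (ha2 b hb).symm
      rw [this.mul_pow, ha3, hb3, one_mul]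
  inv_mem' := by
    rintro a ⟨ha, ha2, ha3⟩
    refine ⟨inv_mem ha, ?_, ?_⟩
    · intro n hn
      have h1 : Commute n a := ha2 n hn
      exact h1.inv_right.eq
    · rw [inv_pow, ha3, inv_one]

theorem mem_centV {r : ℕ} {v : G} : v ∈ centV N r ↔ v ∈ N ∧ (∀ n ∈ N, n * v = v * n) ∧ v ^ r = 1 :=
  Iff.rfl

instance centV_normal [hN : N.Normal] (r : ℕ) : (centV N r).Normal := by
  refine ⟨?_⟩
  rintro v ⟨hv1, hv2, hv3⟩ g
  refine ⟨hN.conj_mem v hv1 g, ?_, ?_⟩
  · intro n hn
    have h1 : g⁻¹ * n * g ∈ N := by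
      have := hN.conj_mem n hn g⁻¹
      simpa using this
    have h2 := hv2 _ h1
    calc n * (g * v * g⁻¹) = g * ((g⁻¹ * n * g) * v) * g⁻¹ := by group
      _ = g * (v * (g⁻¹ * n * g)) * g⁻¹ := by rw [h2]
      _ = _ := by group
  · rw [conj_pow, hv3]
    group

/-- Fixed points on `V`. -/
theorem fixed_V (heq : ∀ x : G, x ∉ N → ∀ n ∈ N, orderOf (x * n) = orderOf x) {q r : ℕ}
    (hq : q.Prime) (hr : r.Prime) (hqr : r ≠ q) {g v : G} {k : ℕ} (hg : g ∉ N)
    (hgk : g ^ (q ^ k) ∈ N) (hv : v ∈ centV N r) (hfix : g * v * g⁻¹ = v) : v = 1 := by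
  obtain ⟨u, w, hgw, ⟨j, hj⟩, ⟨z, hz⟩, -⟩ := exists_parts g hq k
  have hwN : w ∈ N := hz ▸ zpow_mem hgk z
  have huN : u ∉ N := by
    intro hu
    exact hg (hgw ▸ mul_mem hwN hu)
  obtain ⟨hv1, hv2, hv3⟩ := hv
  have hcomm : Commute u v := by
    have h1 : w * v = v * w := hv2 w hwN
    have h2 : g * v = v * g := by
      calc g * v = g * v * g⁻¹ * g := by group
        _ = v * g := by rw [hfix]
    rw [hgw] at h2
    have h3 : w * (u * v) = w * (v * u) := by
      calc w * (u * v) = (w * u) * v := by group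
        _ = v * (w * u) := h2
        _ = (v * w) * u := by group
        _ = (w * v) * u := by rw [h1]
        _ = w * (v * u) := by group
    exact mul_left_cancel h3
  have hcop : (orderOf u).Coprime (orderOf v) := by
    rw [hj]
    rcases (Nat.dvd_prime hr).mp (orderOf_dvd_of_pow_eq_one hv3) with h | h
    · rw [h]
      exact Nat.coprime_one_right _
    · rw [h]
      exact Nat.Coprime.pow_left _ ((Nat.coprime_primes hq hr).mpr hqr.symm)
  exact fixed_trivial heq huN hv1 hcomm hcop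

theorem exists_other_prime (hN1 : N ≠ ⊥) (hnpp : ¬ IsPrimePow (Nat.card N)) {q : ℕ} (hq : q.Prime) :
    ∃ r : ℕ, r.Prime ∧ r ≠ q ∧ r ∣ Nat.card N := by
  by_contra hcon
  push Not at hcon
  have hpos : Nat.card N ≠ 0 := Nat.card_pos.ne'
  have h1 := Nat.eq_prime_pow_of_unique_prime_dvd hpos (fun {d} hd hd' => by
    by_contra hne
    exact hcon d hd hne hd')
  apply hnpp
  rw [h1]
  have hk : (Nat.card N).primeFactorsList.length ≠ 0 := by
    intro h0
    rw [h0, pow_zero] at h1
    exact hN1 ((Subgroup.card_eq_one).mp h1)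
  exact hq.isPrimePow.pow hk

/-- A `q`-group with two subgroups of order `q` contains a rank-two pair. -/
theorem exists_pair_of_two {P : Type*} [Group P] [Finite P] {q : ℕ} [hq : Fact q.Prime]
    (hP : IsPGroup q P) {H K : Subgroup P} (hH : Nat.card H = q) (hK : Nat.card K = q)
    (hne : H ≠ K) :
    ∃ z t : P, z ^ q = 1 ∧ t ^ q = 1 ∧ z ≠ 1 ∧ Commute z t ∧ ∀ i : ℕ, t * z ^ i ≠ 1 := by
  have hq1 := hq.out.one_lt
  haveI hPnt : Nontrivial P := by
    have : Nontrivial H := Finite.one_lt_card_iff_nontrivial.mp (by omega)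
    obtain ⟨⟨a, _⟩, ⟨b, _⟩, hab⟩ := this
    exact ⟨⟨a, b, fun h => hab (Subtype.ext h)⟩⟩
  haveI hcn := hP.center_nontrivial
  have hPc : IsPGroup q (center P) := hP.to_subgroup _
  obtain ⟨n, hn, hcard⟩ := hPc.nontrivial_iff_card.mp hcn
  obtain ⟨v, hv⟩ := exists_prime_orderOf_dvd_card' (G := center P) q
    (by rw [hcard]; exact dvd_pow_self q hn.ne')
  set z : P := v.1 with hz
  have hzo : orderOf z = q := by rw [hz, Subgroup.orderOf_coe, hv]
  have hz1 : z ≠ 1 := by
    intro h
    rw [h, orderOf_one] at hzo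
    omega
  have hzq : z ^ q = 1 := by rw [← hzo, pow_orderOf_eq_one]
  have key : ∀ L : Subgroup P, Nat.card L = q → L ≠ zpowers z →
      ∃ z t : P, z ^ q = 1 ∧ t ^ q = 1 ∧ z ≠ 1 ∧ Commute z t ∧ ∀ i : ℕ, t * z ^ i ≠ 1 := by
    intro L hL hLz
    have hLnt : Nontrivial L := Finite.one_lt_card_iff_nontrivial.mp (by omega)
    obtain ⟨t, ht⟩ := exists_ne (1 : L)
    have ht1 : (t : P) ≠ 1 := fun h => ht (Subtype.ext h)
    have hto : orderOf (t : P) = q := by
      have h1 : orderOf t ∣ q := hL ▸ orderOf_dvd_natCard t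
      rcases (Nat.dvd_prime hq.out).mp h1 with h2 | h2
      · exact absurd (orderOf_eq_one_iff.mp h2) ht
      · rwa [Subgroup.orderOf_coe]
    have htq : (t : P) ^ q = 1 := by rw [← hto, pow_orderOf_eq_one]
    have hLt : L = zpowers (t : P) := by
      symm
      apply Subgroup.eq_of_le_of_card_ge
      · rw [zpowers_le]
        exact t.2
      · rw [hL, Nat.card_zpowers, hto]
    refine ⟨z, t, hzq, htq, hz1, ?_, ?_⟩
    · exact (Subgroup.mem_center_iff.mp v.2 t).symm
    · intro i hi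
      apply hLz
      have h3 : (t : P) = (z ^ i)⁻¹ := eq_inv_of_mul_eq_one_left hi
      have h4 : (t : P) ∈ zpowers z := by
        rw [h3]
        exact inv_mem (pow_mem (mem_zpowers z) i)
      have h5 : zpowers (t : P) = zpowers z := by
        apply Subgroup.eq_of_le_of_card_ge
        · rwa [zpowers_le]
        · rw [Nat.card_zpowers, Nat.card_zpowers, hto, hzo]
      rw [hLt, h5]
  by_cases hHz : H = zpowers z
  · refine key K hK ?_
    rw [← hHz]
    exact hne.symm
  · exact key H hH hHz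

/-- The main theorem on equal orders in the cosets. -/
theorem main [hN : N.Normal] (hN1 : N ≠ ⊥)
    (heq : ∀ x : G, x ∉ N → ∀ n ∈ N, orderOf (x * n) = orderOf x)
    (hnil : Group.IsNilpotent N) (hnpp : ¬ IsPrimePow (Nat.card N)) :
    N = Cfsg.fittingSubgroup G ∧
    ∀ (q : ℕ) [Fact q.Prime] (Q : Sylow q (G ⧸ N)),
      IsCyclic (Q : Subgroup (G ⧸ N)) ∨ ∃ n : ℕ, Nonempty ((Q : Subgroup (G ⧸ N)) ≃* QuaternionGroup (2 ^ n)) := by
  classical
  haveI := hnil
  -- nontrivial elements of the `V`s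
  have hVne : ∀ r : ℕ, r.Prime → r ∣ Nat.card N → ∃ v ∈ centV N r, v ≠ 1 := by
    intro r hr hrN
    haveI : Fact r.Prime := ⟨hr⟩
    obtain ⟨v, hv, hvo⟩ := exists_central_prime (L := N) hrN
    refine ⟨v, ⟨v.2, ?_, ?_⟩, ?_⟩
    · intro n hn
      have := Subgroup.mem_center_iff.mp hv ⟨n, hn⟩
      exact congrArg Subtype.val this
    · have : v ^ r = 1 := by rw [← hvo, pow_orderOf_eq_one]
      exact congrArg Subtype.val this
    · intro h
      have h1 : v = 1 := Subtype.ext h
      rw [h1, orderOf_one] at hvo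
      exact hr.one_lt.ne hvo
  constructor
  · refine le_antisymm (Cfsg.Agent.Lib.Core.Basic.le_fittingSubgroup hN hnil) ?_
    intro x hx
    by_contra hxN
    set x' : G ⧸ N := (x : G ⧸ N) with hx'
    have hx'1 : x' ≠ 1 := by
      rw [hx', Ne, QuotientGroup.eq_one_iff]
      exact hxN
    have hm : orderOf x' ≠ 1 := by
      rwa [Ne, orderOf_eq_one_iff]
    obtain ⟨q, hq, hqm⟩ := Nat.exists_prime_and_dvd hm
    have hmq : orderOf x' / q ≠ 0 := by
      have hpos := orderOf_pos x'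
      intro h0
      have := Nat.div_mul_cancel hqm
      rw [h0, zero_mul] at this
      omega
    set g := x ^ (orderOf x' / q) with hg
    have hgx : (g : G ⧸ N) = x' ^ (orderOf x' / q) := by
      rw [hg, QuotientGroup.mk_pow]
    have hgo : orderOf (g : G ⧸ N) = q := by
      rw [hgx, orderOf_pow_of_dvd hmq (Nat.div_dvd_of_dvd hqm)]
      exact Nat.div_div_self hqm (orderOf_pos x').ne'
    have hgN : g ∉ N := by
      intro h
      have := (QuotientGroup.eq_one_iff g).mpr h
      rw [this, orderOf_one] at hgo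
      exact hq.one_lt.ne hgo
    have hgq : g ^ (q ^ 1) ∈ N := by
      rw [pow_one, ← QuotientGroup.eq_one_iff, QuotientGroup.mk_pow, ← hgo, pow_orderOf_eq_one]
    obtain ⟨r, hr, hrq, hrN⟩ := exists_other_prime hN1 hnpp hq
    obtain ⟨v, hv, hv1⟩ := hVne r hr hrN
    obtain ⟨u, w, hgw, ⟨j, hj⟩, ⟨z, hz⟩, ⟨z', hz'⟩⟩ := exists_parts g hq 1
    have hwN : w ∈ N := hz ▸ zpow_mem hgq z
    have huN : u ∉ N := fun hu => hgN (hgw ▸ mul_mem hwN hu)
    have huF : u ∈ Cfsg.fittingSubgroup G := by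
      rw [hz']
      exact zpow_mem (pow_mem hx _) _
    have hvF : v ∈ Cfsg.fittingSubgroup G := Cfsg.Agent.Lib.Core.Basic.le_fittingSubgroup hN hnil hv.1
    have hcop : (orderOf u).Coprime (orderOf v) := by
      rw [hj]
      rcases (Nat.dvd_prime hr).mp (orderOf_dvd_of_pow_eq_one hv.2.2) with h | h
      · rw [h]
        exact Nat.coprime_one_right _
      · rw [h]
        exact Nat.Coprime.pow_left _ ((Nat.coprime_primes hq hr).mpr hrq.symm)
    have hcomm := Cfsg.Agent.Lib.OddLocal.CN.commute_of_coprime'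
      Cfsg.Agent.Lib.Core.Basic.fittingSubgroup_isNilpotent huF hvF hcop
    exact hv1 (fixed_trivial heq huN hv.1 hcomm hcop)
  · intro q hq Q
    have huniq : ∀ H K : Subgroup (Q : Subgroup (G ⧸ N)), Nat.card H = q → Nat.card K = q → H = K := by
      intro H K hH hK
      by_contra hne
      obtain ⟨z, t, hzq, htq, hz1, hzt, hti⟩ := exists_pair_of_two Q.isPGroup' hH hK hne
      obtain ⟨r, hr, hrq, hrN⟩ := exists_other_prime hN1 hnpp hq.out
      obtain ⟨v, hv, hv1⟩ := hVne r hr hrN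
      obtain ⟨a, ha⟩ := QuotientGroup.mk_surjective (t : G ⧸ N)
      obtain ⟨b, hb⟩ := QuotientGroup.mk_surjective (z : G ⧸ N)
      have hcoe : ∀ i : ℕ, ((a * b ^ i : G) : G ⧸ N) = ((t * z ^ i : (Q : Subgroup (G ⧸ N))) : G ⧸ N) := by
        intro i
        rw [QuotientGroup.mk_mul, QuotientGroup.mk_pow, ha, hb]
        rfl
      have hgi : ∀ i : ℕ, a * b ^ i ∉ N := by
        intro i hi
        have h1 := (QuotientGroup.eq_one_iff (a * b ^ i)).mpr hi
        rw [hcoe] at h1
        exact hti i (Subtype.ext h1)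
      have hgiq : ∀ i : ℕ, (a * b ^ i) ^ (q ^ 1) ∈ N := by
        intro i
        rw [pow_one, ← QuotientGroup.eq_one_iff, QuotientGroup.mk_pow, hcoe]
        have h1 : (t * z ^ i) ^ q = 1 := by
          have h2 : Commute t (z ^ i) := (hzt.pow_left i).symm
          rw [h2.mul_pow, htq, ← pow_mul, mul_comm, pow_mul, hzq, one_pow, one_mul]
        exact congrArg Subtype.val h1
      have hbN : b ∉ N := by
        intro hi
        have h1 := (QuotientGroup.eq_one_iff b).mpr hi
        rw [hb] at h1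
        exact hz1 (Subtype.ext h1)
      have hbq : b ^ (q ^ 1) ∈ N := by
        rw [pow_one, ← QuotientGroup.eq_one_iff, QuotientGroup.mk_pow, hb]
        exact congrArg Subtype.val hzq
      have haq : a ^ q ∈ N := by
        have := hgiq 0
        simpa using this
      have hcen : ∀ n ∈ N, ∀ w ∈ centV N r, n * w * n⁻¹ = w := by
        intro n hn w hw
        rw [hw.2.1 n hn]
        group
      let σ : MulAut (centV N r) := MulAut.conjNormal a
      let τ : MulAut (centV N r) := MulAut.conjNormal b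
      have hV' : ∀ x y : centV N r, x * y = y * x := by
        intro x y
        exact Subtype.ext (x.2.2.1 y y.2.1).symm
      have hσ : σ ^ q = 1 := by
        change (MulAut.conjNormal a) ^ q = 1
        rw [← map_pow]
        ext w
        rw [MulAut.conjNormal_apply]
        exact hcen _ haq _ w.2
      have hτ : τ ^ q = 1 := by
        change (MulAut.conjNormal b) ^ q = 1
        rw [← map_pow]
        ext w
        rw [MulAut.conjNormal_apply]
        rw [pow_one] at hbq
        exact hcen _ hbq _ w.2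
      have hcomm : σ * τ = τ * σ := by
        change (MulAut.conjNormal a) * (MulAut.conjNormal b) = (MulAut.conjNormal b) * (MulAut.conjNormal a)
        rw [← map_mul, ← map_mul]
        ext w
        rw [MulAut.conjNormal_apply, MulAut.conjNormal_apply]
        have h1 : (b * a)⁻¹ * (a * b) ∈ N := by
          rw [← QuotientGroup.eq, QuotientGroup.mk_mul, QuotientGroup.mk_mul, ha, hb]
          exact congrArg Subtype.val hzt.eq
        have h2 := hcen _ h1 _ w.2
        calc a * b * (w : G) * (a * b)⁻¹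
            = (b * a) * (((b * a)⁻¹ * (a * b)) * (w : G) * ((b * a)⁻¹ * (a * b))⁻¹) * (b * a)⁻¹ := by group
          _ = _ := by rw [h2]
      have h1 : ∀ (i : ℕ) (w : centV N r), (σ * τ ^ i) w = w → w = 1 := by
        intro i w hw
        have hσi : σ * τ ^ i = MulAut.conjNormal (a * b ^ i) := by
          rw [map_mul, map_pow]
        rw [hσi] at hw
        have hw' := congrArg Subtype.val hw
        rw [MulAut.conjNormal_apply] at hw'
        exact Subtype.ext (fixed_V heq hq.out hr hrq (hgi i) (hgiq i) w.2 hw')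
      have h2 : ∀ w : centV N r, τ w = w → w = 1 := by
        intro w hw
        have hw' := congrArg Subtype.val hw
        change ((MulAut.conjNormal b w : centV N r) : G) = w at hw'
        rw [MulAut.conjNormal_apply] at hw'
        exact Subtype.ext (fixed_V heq hq.out hr hrq hbN hbq w.2 hw')
      have h3 := no_fpf_pair hV' hq.out σ τ hcomm hσ hτ h1 h2 ⟨v, hv⟩
      have h4 : v ^ q = 1 := congrArg Subtype.val h3
      have h5 : orderOf v ∣ Nat.gcd q r :=
        Nat.dvd_gcd (orderOf_dvd_of_pow_eq_one h4) (orderOf_dvd_of_pow_eq_one hv.2.2)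
      rw [(Nat.coprime_primes hq.out hr).mpr hrq.symm, Nat.dvd_one, orderOf_eq_one_iff] at h5
      exact hv1 h5
    rcases Cfsg.Agent.S0016.result q Q.isPGroup' huniq with h | ⟨-, n, hn⟩
    · exact Or.inl h
    · exact Or.inr ⟨n, hn⟩

end Main

end Cfsg.Agent.Lib.FG7.EqualOrder
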