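import Cfsg.Agent.Lib.PGroups.CyclicNormal
import Cfsg.Agent.Lib.PGroups.NormalRankTwo
import Cfsg.Agent.Lib.PGroups.Basic

/-!
# Frattini index of `2`-groups of automorphisms of abelian groups of odd order

For `V` abelian of odd order and `Q ≤ Aut(V)` a `2`-group, `2 |Q : Φ(Q)| ≤ |V|`, except that
`|Q : Φ(Q)| ≤ 2` when `|V| = 3` and `Q = 1` when `|V| = 1`.
-/

set_option autoImplicit false

namespace Cfsg.Agent.Lib.FG7.FrattiniBound

open Subgroup Cfsg.Agent.Lib.PGroups.Basic
open scoped commutatorElement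

universe u

/-- The bound. -/
def B (n d : ℕ) : Prop := (n = 1 ∧ d ≤ 1) ∨ (n = 3 ∧ d ≤ 2) ∨ 2 * d ≤ n

theorem B_mul {a b d₁ d₂ d : ℕ} (ha1 : a ≠ 1) (hb1 : b ≠ 1) (h₁ : B a d₁) (h₂ : B b d₂)
    (hd : d ≤ d₁ * d₂) : B (a * b) d := by
  right; right
  rcases h₁ with ⟨h, -⟩ | ⟨rfl, h₁⟩ | h₁
  · exact absurd h ha1
  · rcases h₂ with ⟨h, -⟩ | ⟨rfl, h₂⟩ | h₂
    · exact absurd h hb1
    · nlinarith
    · nlinarith
  · rcases h₂ with ⟨h, -⟩ | ⟨rfl, h₂⟩ | h₂
    · exact absurd h hb1
    · nlinarith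
    · nlinarith

section frat

variable {Q : Type u} [Group Q] [Finite Q] {p : ℕ} [hp : Fact p.Prime]

theorem frattini_index_le_mul (hQ : IsPGroup p Q) (K : Subgroup Q) [hK : K.Normal] :
    (frattini Q).index ≤ (frattini (Q ⧸ K)).index * (frattini K).index := by
  set Φ := frattini Q with hΦ
  have hΦn : Φ.Normal := inferInstance
  let π := QuotientGroup.mk' K
  have hπ : Function.Surjective π := QuotientGroup.mk'_surjective K
  -- `Φ(Q/K) ≤ Φ K / K`
  have h1 : frattini (Q ⧸ K) ≤ Φ.map π := by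
    have hn : (Φ.map π).Normal := hΦn.map π hπ
    have hQ' : IsPGroup p (Q ⧸ K) := hQ.of_surjective π hπ
    refine (frattini_le_iff hQ' _).mpr ⟨?_, ?_⟩
    · rw [_root_.commutator_def, commutator_le]
      intro a _ b _
      obtain ⟨x, rfl⟩ := hπ a
      obtain ⟨y, rfl⟩ := hπ b
      refine ⟨⁅x, y⁆, ?_, map_commutatorElement π x y⟩
      exact commutator_le_frattini hQ (commutator_mem_commutator (mem_top x) (mem_top y))
    · intro a
      obtain ⟨x, rfl⟩ := hπ a
      exact ⟨x ^ p, pow_mem_frattini hQ x, map_pow π x p⟩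
  have h2 : (Φ.map π).index = (Φ ⊔ K).index := by
    rw [index_map, QuotientGroup.ker_mk', QuotientGroup.range_mk', index_top, mul_one]
  have h3 : (Φ ⊔ K).index ≤ (frattini (Q ⧸ K)).index := by
    rw [← h2]
    exact Nat.le_of_dvd (Nat.pos_of_ne_zero index_ne_zero_of_finite) (index_dvd_of_le h1)
  -- `Φ(K) ≤ Φ ∩ K`
  have h4 : frattini K ≤ Φ.subgroupOf K := by
    have hQK : IsPGroup p K := hQ.to_subgroup K
    refine (frattini_le_iff hQK _).mpr ⟨?_, ?_⟩
    · rw [_root_.commutator_def, commutator_le]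
      intro a _ b _
      rw [mem_subgroupOf]
      exact commutator_le_frattini hQ (commutator_mem_commutator (mem_top (a : Q)) (mem_top (b : Q)))
    · intro a
      rw [mem_subgroupOf]
      exact pow_mem_frattini hQ (a : Q)
  have h5 : Φ.relIndex K ≤ (frattini K).index :=
    Nat.le_of_dvd (Nat.pos_of_ne_zero index_ne_zero_of_finite) (index_dvd_of_le h4)
  have h6 : Φ.relIndex (Φ ⊔ K) * (Φ ⊔ K).index = Φ.index := relIndex_mul_index le_sup_left
  have h7 : Φ.relIndex (Φ ⊔ K) = Φ.relIndex K := relIndex_sup_left K Φ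
  rw [← h6, h7, mul_comm]
  exact Nat.mul_le_mul h3 h5

/-- Cyclic subgroups of given index give a bound on the Frattini index. -/
theorem frattini_index_le_of_zpowers (hQ : IsPGroup p Q) (a : Q) :
    (frattini Q).index ≤ p * (zpowers a).index := by
  have hp' := hp.out
  have h1 : zpowers (a ^ p) ≤ frattini Q := zpowers_le.mpr (pow_mem_frattini hQ a)
  have h2 : (frattini Q).index ≤ (zpowers (a ^ p)).index :=
    Nat.le_of_dvd (Nat.pos_of_ne_zero index_ne_zero_of_finite) (index_dvd_of_le h1)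
  refine h2.trans ?_
  have h3 : zpowers (a ^ p) ≤ zpowers a := zpowers_le.mpr (pow_mem (mem_zpowers a) p)
  rw [← relIndex_mul_index h3]
  refine Nat.mul_le_mul_right _ ?_
  -- the relative index is at most `p`
  obtain ⟨n, hn⟩ := IsPGroup.iff_card.mp hQ
  have hor : orderOf a ∣ p ^ n := by rw [← hn]; exact orderOf_dvd_natCard a
  obtain ⟨k, -, hk⟩ := (Nat.dvd_prime_pow hp').mp hor
  have hrel : (zpowers (a ^ p)).relIndex (zpowers a) * Nat.card (zpowers (a ^ p)) =
      Nat.card (zpowers a) := by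
    have h := card_mul_index ((zpowers (a ^ p)).subgroupOf (zpowers a))
    rw [Nat.card_congr (subgroupOfEquivOfLe h3).toEquiv] at h
    rw [relIndex, mul_comm]
    exact h
  rw [Nat.card_zpowers, Nat.card_zpowers, hk] at hrel
  rcases Nat.eq_zero_or_pos k with rfl | hkpos
  · rw [pow_zero] at hrel
    rw [Nat.eq_one_of_mul_eq_one_right hrel]
    exact hp'.one_le
  · have h4 : orderOf (a ^ p) = p ^ (k - 1) := by
      rw [orderOf_pow' a hp'.ne_zero, hk, Nat.gcd_eq_right (dvd_pow_self p hkpos.ne')]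
      refine Nat.div_eq_of_eq_mul_left hp'.pos ?_
      rw [← pow_succ]
      congr 1
      omega
    rw [h4] at hrel
    have h5 : p ^ k = p * p ^ (k - 1) := by
      rw [← pow_succ']
      congr 1
      omega
    rw [h5] at hrel
    have := Nat.eq_of_mul_eq_mul_right (pow_pos hp'.pos _) hrel
    exact this.le

end frat

section decomp

variable {V : Type u} [CommGroup V]

/-- Restriction of an action by automorphisms to an invariant subgroup. -/
def restr {Q : Type u} [Group Q] (φ : Q →* MulAut V) (U : Subgroup V)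
    (hU : ∀ q, ∀ u ∈ U, φ q u ∈ U) : Q →* MulAut U where
  toFun q :=
    { toFun := fun u => ⟨φ q u, hU q u u.2⟩
      invFun := fun u => ⟨φ q⁻¹ u, hU q⁻¹ u u.2⟩
      left_inv := fun u => Subtype.ext (by
        change (φ q⁻¹) ((φ q) (u : V)) = u
        rw [← MulAut.mul_apply, ← map_mul, inv_mul_cancel, map_one, MulAut.one_apply])
      right_inv := fun u => Subtype.ext (by
        change (φ q) ((φ q⁻¹) (u : V)) = u
        rw [← MulAut.mul_apply, ← map_mul, mul_inv_cancel, map_one, MulAut.one_apply])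
      map_mul' := fun a b => Subtype.ext (map_mul (φ q) (a : V) (b : V)) }
  map_one' := by
    ext u
    simp
  map_mul' := by
    intro a b
    ext u
    simp

@[simp] theorem restr_apply {Q : Type u} [Group Q] (φ : Q →* MulAut V) (U : Subgroup V)
    (hU : ∀ q, ∀ u ∈ U, φ q u ∈ U) (q : Q) (u : U) : ((restr φ U hU q u : U) : V) = φ q u := rfl

/-- The statement to be proved by induction. -/
def Bd (n : ℕ) : Prop :=
  ∀ (V : Type u) [CommGroup V] [Finite V] (Q : Type u) [Group Q] [Finite Q], Nat.card V = n →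
    Odd n → IsPGroup 2 Q → ∀ φ : Q →* MulAut V, Function.Injective φ → B n (frattini Q).index

variable [Finite V] {Q : Type u} [Group Q] [Finite Q]

theorem decomp (hQ : IsPGroup 2 Q) (φ : Q →* MulAut V) (hφ : Function.Injective φ)
    (V₁ V₂ : Subgroup V) (hsup : ∀ v, ∃ a ∈ V₁, ∃ b ∈ V₂, a * b = v)
    (h₁ : ∀ q, ∀ u ∈ V₁, φ q u ∈ V₁) (h₂ : ∀ q, ∀ u ∈ V₂, φ q u ∈ V₂)
    (IH₁ : Bd.{u} (Nat.card V₁)) (IH₂ : Bd.{u} (Nat.card V₂))
    (hodd₁ : Odd (Nat.card V₁)) (hodd₂ : Odd (Nat.card V₂)) :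
    ∃ d₁ d₂, (frattini Q).index ≤ d₁ * d₂ ∧ B (Nat.card V₁) d₁ ∧ B (Nat.card V₂) d₂ := by
  haveI : Fact (Nat.Prime 2) := ⟨Nat.prime_two⟩
  let φ₁ := restr φ V₁ h₁
  let φ₂ := restr φ V₂ h₂
  let K := φ₁.ker
  have hK1 : ∀ k ∈ K, ∀ u ∈ V₁, φ k u = u := by
    intro k hk u hu
    have h := congrArg (fun f : MulAut V₁ => ((f ⟨u, hu⟩ : V₁) : V)) (MonoidHom.mem_ker.mp hk)
    simpa [φ₁] using h
  refine ⟨_, _, frattini_index_le_mul hQ K, ?_, ?_⟩
  · refine IH₁ V₁ (Q ⧸ K) rfl hodd₁ (hQ.of_surjective _ (QuotientGroup.mk'_surjective K))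
      (QuotientGroup.kerLift φ₁) (QuotientGroup.kerLift_injective φ₁)
  · refine IH₂ V₂ K rfl hodd₂ (hQ.to_subgroup K) (φ₂.comp K.subtype) ?_
    rw [← MonoidHom.ker_eq_bot_iff, eq_bot_iff]
    intro k hk
    rw [mem_bot]
    have hk2 : ∀ u ∈ V₂, φ k u = u := by
      intro u hu
      have h := congrArg (fun f : MulAut V₂ => ((f ⟨u, hu⟩ : V₂) : V)) (MonoidHom.mem_ker.mp hk)
      simpa [φ₂] using h
    apply Subtype.ext
    apply hφ
    rw [OneMemClass.coe_one, map_one]
    ext v
    obtain ⟨a, ha, b, hb, rfl⟩ := hsup v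
    rw [map_mul, hK1 k k.2 a ha, hk2 b hb]
    rfl

/-- A cardinality bound for a decomposition. -/
theorem card_le_decomp (φ : Q →* MulAut V) (hφ : Function.Injective φ)
    (V₁ V₂ : Subgroup V) (hsup : ∀ v, ∃ a ∈ V₁, ∃ b ∈ V₂, a * b = v)
    (h₁ : ∀ q, ∀ u ∈ V₁, φ q u ∈ V₁) (h₂ : ∀ q, ∀ u ∈ V₂, φ q u ∈ V₂) :
    Nat.card Q ≤ Nat.card (MulAut V₁) * Nat.card (MulAut V₂) := by
  rw [← Nat.card_prod]
  refine Nat.card_le_card_of_injective
    (fun q => (restr φ V₁ h₁ q, restr φ V₂ h₂ q)) ?_
  intro a b hab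
  apply hφ
  ext v
  obtain ⟨x, hx, y, hy, rfl⟩ := hsup v
  have h1 := congrArg (fun f : MulAut V₁ × MulAut V₂ => ((f.1 ⟨x, hx⟩ : V₁) : V)) hab
  have h2 := congrArg (fun f : MulAut V₁ × MulAut V₂ => ((f.2 ⟨y, hy⟩ : V₂) : V)) hab
  simp only [restr_apply] at h1 h2
  rw [map_mul, map_mul, h1, h2]

end decomp

section involution

variable {V : Type u} [CommGroup V] 

/-- The fixed points of an automorphism. -/
def fixS (a : MulAut V) : Subgroup V where
  carrier := {v | a v = v}
  mul_mem' := by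
    intro x y hx hy
    simp only [Set.mem_ofPred_eq] at *
    rw [map_mul, hx, hy]
  one_mem' := map_one a
  inv_mem' := by
    intro x hx
    simp only [Set.mem_ofPred_eq] at *
    rw [map_inv, hx]

/-- The elements inverted by an automorphism. -/
def invS (a : MulAut V) : Subgroup V where
  carrier := {v | a v = v⁻¹}
  mul_mem' := by
    intro x y hx hy
    simp only [Set.mem_ofPred_eq] at *
    rw [map_mul, hx, hy, mul_inv]
  one_mem' := by simp
  inv_mem' := by
    intro x hx
    simp only [Set.mem_ofPred_eq] at *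
    rw [map_inv, hx]

theorem mem_fixS {a : MulAut V} {v : V} : v ∈ fixS a ↔ a v = v := Iff.rfl
theorem mem_invS {a : MulAut V} {v : V} : v ∈ invS a ↔ a v = v⁻¹ := Iff.rfl

variable [Finite V] (hodd : Odd (Nat.card V))
include hodd

theorem exists_sqrt (v : V) : ∃ w : V, w * w = v := by
  obtain ⟨k, hk⟩ := hodd
  refine ⟨v ^ (k + 1), ?_⟩
  rw [← pow_add]
  have : k + 1 + (k + 1) = Nat.card V + 1 := by omega
  rw [this, pow_succ, pow_card_eq_one', one_mul]

theorem eq_one_of_sq {v : V} (h : v * v = 1) : v = 1 := by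
  have h1 : orderOf v ∣ 2 := orderOf_dvd_of_pow_eq_one (by rw [pow_two, h])
  have h2 : orderOf v ∣ Nat.card V := orderOf_dvd_natCard v
  have h3 : Nat.Coprime 2 (Nat.card V) := (Nat.coprime_two_left).mpr hodd
  have h4 : orderOf v ∣ 1 := by
    have := Nat.dvd_gcd h1 h2
    rwa [h3] at this
  exact orderOf_eq_one_iff.mp (Nat.dvd_one.mp h4)

theorem fix_inv_decomp (a : MulAut V) (ha : a * a = 1) (v : V) :
    ∃ x ∈ fixS a, ∃ y ∈ invS a, x * y = v := by
  obtain ⟨w, rfl⟩ := exists_sqrt hodd v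
  have haa : ∀ u, a (a u) = u := fun u => by
    have := congrArg (fun f : MulAut V => f u) ha
    simpa using this
  refine ⟨w * a w, ?_, w * (a w)⁻¹, ?_, ?_⟩
  · rw [mem_fixS, map_mul, haa, mul_comm]
  · rw [mem_invS, map_mul, map_inv, haa, mul_inv, inv_inv, mul_comm]
  · calc w * a w * (w * (a w)⁻¹) = w * w * (a w * (a w)⁻¹) := by
          rw [mul_mul_mul_comm]
      _ = w * w := by rw [mul_inv_cancel, mul_one]

theorem fix_inf_inv (a : MulAut V) : fixS a ⊓ invS a = ⊥ := by
  rw [eq_bot_iff]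
  rintro v ⟨h1, h2⟩
  have h3 : a v = v := h1
  have h4 : a v = v⁻¹ := h2
  rw [mem_bot]
  apply eq_one_of_sq hodd
  have h5 : v = v⁻¹ := h3.symm.trans h4
  calc v * v = v * v⁻¹ := by rw [← h5]
    _ = 1 := mul_inv_cancel v

theorem card_fix_mul_card_inv (a : MulAut V) (ha : a * a = 1) :
    Nat.card (fixS a) * Nat.card (invS a) = Nat.card V := by
  have hc : IsComplement' (fixS a) (invS a) := by
    apply isComplement'_of_disjoint_and_mul_eq_univ (disjoint_iff.mpr (fix_inf_inv hodd a))
    ext v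
    simp only [Set.mem_mul, Set.mem_univ, iff_true]
    obtain ⟨x, hx, y, hy, h⟩ := fix_inv_decomp hodd a ha v
    exact ⟨x, hx, y, hy, h⟩
  exact hc.card_mul_card

end involution

section main

/-- A cardinality-free form of the structure of a normal Klein four-subgroup. -/
theorem exists_klein {Q : Type u} [Group Q] [Finite Q] (hQ : IsPGroup 2 Q)
    (h : ¬ ∀ A : Subgroup Q, A.Normal → IsMulCommutative A → IsCyclic A) :
    ∃ z b : Q, z * z = 1 ∧ z ≠ 1 ∧ z ∈ center Q ∧ b * b = 1 ∧ b ≠ 1 ∧ b ≠ z ∧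
      ∀ g : Q, g * b * g⁻¹ = b ∨ g * b * g⁻¹ = b * z := by
  classical
  haveI : Fact (Nat.Prime 2) := ⟨Nat.prime_two⟩
  push Not at h
  obtain ⟨A, hAn, hAc, hAnc⟩ := h
  have hcomm : ∀ x ∈ A, ∀ y ∈ A, x * y = y * x := fun x hx y hy => by
    have := hAc.is_comm.comm (⟨x, hx⟩ : A) ⟨y, hy⟩
    have h2 := congrArg Subtype.val this
    simpa using h2
  -- `Ω₁(A)`
  let Ω : Subgroup Q :=
    { carrier := {x | x ∈ A ∧ x * x = 1}
      mul_mem' := by
        rintro x y ⟨hx, hx2⟩ ⟨hy, hy2⟩
        refine ⟨A.mul_mem hx hy, ?_⟩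
        calc x * y * (x * y) = x * (y * x) * y := by group
          _ = x * (x * y) * y := by rw [hcomm y hy x hx]
          _ = (x * x) * (y * y) := by group
          _ = 1 := by rw [hx2, hy2, one_mul]
      one_mem' := ⟨A.one_mem, one_mul 1⟩
      inv_mem' := by
        rintro x ⟨hx, hx2⟩
        refine ⟨A.inv_mem hx, ?_⟩
        rw [← mul_inv_rev, hx2, inv_one] }
  have hΩn : Ω.Normal := by
    constructor
    rintro x ⟨hx, hx2⟩ g
    refine ⟨hAn.conj_mem x hx g, ?_⟩
    calc g * x * g⁻¹ * (g * x * g⁻¹) = g * (x * x) * g⁻¹ := by group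
      _ = 1 := by rw [hx2]; group
  -- `|Ω| ≥ 4`
  have hcard : 2 ^ 2 ∣ Nat.card Ω := by
    obtain ⟨E, -, hE1, hE2⟩ := Cfsg.Agent.Lib.PGroups.NormalRankTwo.exists_card_sq_of_comm
      (hQ.to_subgroup A) (fun a b => hAc.is_comm.comm a b) hAnc
    have hle : E.map A.subtype ≤ Ω := by
      rintro _ ⟨e, he, rfl⟩
      refine ⟨e.2, ?_⟩
      have := hE1 e he
      rw [pow_two] at this
      exact congrArg Subtype.val this
    have h1 : Nat.card (E.map A.subtype) = 2 ^ 2 := by
      rw [Subgroup.card_map_of_injective A.subtype_injective, hE2]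
    rw [← h1]
    exact Subgroup.card_dvd_of_le hle
  obtain ⟨W, hWn, hWΩ, hW⟩ := Cfsg.Agent.Lib.PGroups.NormalRankTwo.exists_normal_le_card_eq hQ Ω 2 hcard
  have hWne : W ≠ ⊥ := by
    intro h
    rw [h, Subgroup.card_bot] at hW
    norm_num at hW
  obtain ⟨z, hzW, hzc, hzo⟩ := exists_central_orderOf_eq hQ W hWne
  have hz2 : z * z = 1 := (hWΩ hzW).2
  have hz1 : z ≠ 1 := by
    rintro rfl
    rw [orderOf_one] at hzo
    norm_num at hzo
  -- another element
  obtain ⟨b, hbW, hb1, hbz⟩ : ∃ b ∈ W, b ≠ 1 ∧ b ≠ z := by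
    by_contra hcon
    push Not at hcon
    have hsub : (W : Set Q) ⊆ (({1, z} : Finset Q) : Set Q) := by
      intro x hx
      by_cases hx1 : x = 1
      · simp [hx1]
      · simp [hcon x hx hx1]
    have h1 : Nat.card W ≤ 2 := by
      have h2 := Set.ncard_le_ncard hsub (Finset.finite_toSet _)
      rw [Set.ncard_coe_finset] at h2
      have h3 : Nat.card W = (W : Set Q).ncard := Nat.card_coe_set_eq _
      rw [h3]
      exact h2.trans Finset.card_le_two
    rw [hW] at h1
    norm_num at h1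
  have hb2 : b * b = 1 := (hWΩ hbW).2
  refine ⟨z, b, hz2, hz1, hzc, hb2, hb1, hbz, ?_⟩
  intro g
  have hzb : b * z ∈ W := W.mul_mem hbW hzW
  have hbz1 : b * z ≠ 1 := by
    intro h
    apply hbz
    calc b = b * (z * z) := by rw [hz2, mul_one]
      _ = (b * z) * z := by group
      _ = z := by rw [h, one_mul]
  have hbz2 : b * z ≠ z := by
    intro h
    exact hb1 (mul_eq_right.mp h)
  have hbz3 : b * z ≠ b := by
    intro h
    exact hz1 (mul_eq_left.mp h)
  have hS : ({1, z, b, b * z} : Finset Q).card = 4 := by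
    rw [Finset.card_insert_of_notMem, Finset.card_insert_of_notMem, Finset.card_insert_of_notMem,
      Finset.card_singleton]
    · simp [hbz3.symm]
    · simp [hbz.symm, hbz2.symm]
    · simp [hz1.symm, hb1.symm, hbz1.symm]
  have hsub : (({1, z, b, b * z} : Finset Q) : Set Q) ⊆ (W : Set Q) := by
    intro x hx
    simp only [Finset.coe_insert, Finset.coe_singleton, Set.mem_insert_iff,
      Set.mem_singleton_iff] at hx
    rcases hx with rfl | rfl | rfl | rfl
    · exact W.one_mem
    · exact hzW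
    · exact hbW
    · exact hzb
  have hEq : (({1, z, b, b * z} : Finset Q) : Set Q) = (W : Set Q) := by
    apply Set.eq_of_subset_of_ncard_le hsub
    · rw [Set.ncard_coe_finset, hS, ← Nat.card_coe_set_eq]
      exact hW.le
  have hw : g * b * g⁻¹ ∈ W := hWn.conj_mem b hbW g
  rw [← SetLike.mem_coe, ← hEq] at hw
  simp only [Finset.coe_insert, Finset.coe_singleton, Set.mem_insert_iff,
    Set.mem_singleton_iff] at hw
  rcases hw with h | h | h | h
  · exfalso
    apply hb1
    have : b = g⁻¹ * (g * b * g⁻¹) * g := by group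
    rw [this, h]
    group
  · exfalso
    apply hbz
    have h2 : b = g⁻¹ * (g * b * g⁻¹) * g := by group
    rw [h2, h, mem_center_iff.mp hzc g⁻¹]
    group
  · exact Or.inl h
  · exact Or.inr h

/-- The main bound. -/
theorem bound : ∀ n, Bd.{u} n := by
  intro n
  induction n using Nat.strong_induction_on with
  | _ n ih =>
  intro V _ _ Q _ _ hV hn hQ φ hφ
  classical
  haveI : Fact (Nat.Prime 2) := ⟨Nat.prime_two⟩
  have hVodd : Odd (Nat.card V) := hV ▸ hn
  set dd := (frattini Q).index with hdd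
  by_cases hn1 : n = 1
  · left
    refine ⟨hn1, ?_⟩
    have h1 : Subsingleton V := (Nat.card_eq_one_iff_unique.mp (hV.trans hn1)).1
    have h2 : Subsingleton Q := by
      refine ⟨fun a b => hφ ?_⟩
      ext v
      exact Subsingleton.elim _ _
    have h3 : Nat.card Q = 1 := Nat.card_of_subsingleton (1 : Q)
    have h4 : dd ∣ Nat.card Q := index_dvd_card _
    rw [h3] at h4
    exact Nat.le_of_dvd one_pos h4
  have hn3 : 3 ≤ n := by
    obtain ⟨k, hk⟩ := hn
    omega
  by_cases hcyc : ∀ A : Subgroup Q, A.Normal → IsMulCommutative A → IsCyclic A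
  · -- Case: all normal abelian subgroups cyclic
    by_cases hQc : IsCyclic Q
    · obtain ⟨a, ha⟩ := hQc.exists_generator
      have h1 : zpowers a = ⊤ := eq_top_iff.mpr fun x _ => ha x
      have h2 : dd ≤ 2 * (zpowers a).index := frattini_index_le_of_zpowers hQ a
      rw [h1, index_top, mul_one] at h2
      by_cases hn3' : n = 3
      · exact Or.inr (Or.inl ⟨hn3', h2⟩)
      · right; right
        obtain ⟨k, hk⟩ := hn
        omega
    · obtain ⟨m, a, y, -, -, -, -, hidx, -⟩ := Cfsg.Agent.Lib.PGroups.CyclicNormal.classify hQ hcyc hQc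
      have h2 : dd ≤ 2 * (zpowers a).index := frattini_index_le_of_zpowers hQ a
      rw [hidx] at h2
      by_cases hn9 : 9 ≤ n
      · right; right
        omega
      · exfalso
        apply hQc
        have hpr : n.Prime := by
          obtain ⟨k, hk⟩ := hn
          have : k = 1 ∨ k = 2 ∨ k = 3 := by omega
          rcases this with rfl | rfl | rfl <;> subst hk <;> norm_num
        haveI : Fact n.Prime := ⟨hpr⟩
        have hVc : IsCyclic V := isCyclic_of_prime_card hV
        have hAc : ∀ f g : MulAut V, f * g = g * f := by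
          let _ := (IsCyclic.mulAutMulEquiv V).toMonoidHom.commGroupOfInjective
            (IsCyclic.mulAutMulEquiv V).injective
          exact fun f g => mul_comm f g
        have hQcomm : IsMulCommutative (⊤ : Subgroup Q) := by
          refine ⟨⟨fun a b => Subtype.ext (hφ ?_)⟩⟩
          simp only [Subgroup.coe_mul, map_mul]
          exact hAc _ _
        have h3 := hcyc ⊤ inferInstance hQcomm
        exact (MulEquiv.isCyclic (Subgroup.topEquiv (G := Q))).mp h3
  · -- Case: there is a normal Klein four-group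
    obtain ⟨z, b, hz2, hz1, hzc, hb2, hb1, hbz, hconj⟩ := exists_klein hQ hcyc
    -- splitting along a central involution
    have hinvol : ∀ c : Q, c * c = 1 → φ c * φ c = 1 := fun c hc => by rw [← map_mul, hc, map_one]
    have hcardne : ∀ U : Subgroup V, U ≠ ⊥ → Nat.card U ≠ 1 := by
      intro U hU h
      exact hU (Subgroup.card_eq_one.mp h)
    have hlt : ∀ A C : ℕ, A * C = n → C ≠ 1 → A < n := by
      intro A C h hC
      have hCpos : 0 < C := by
        rcases Nat.eq_zero_or_pos C with rfl | h'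
        · omega
        · exact h'
      have hC2 : 2 ≤ C := by omega
      have hApos : 0 < A := by
        rcases Nat.eq_zero_or_pos A with rfl | h'
        · omega
        · exact h'
      nlinarith
    have split : ∀ c : Q, c ∈ center Q → c * c = 1 → fixS (φ c) ≠ ⊥ → invS (φ c) ≠ ⊥ → B n dd := by
      intro c hc hc2 h1 h2
      have hprod := card_fix_mul_card_inv hVodd (φ c) (hinvol c hc2)
      rw [hV] at hprod
      have hc1 := hcardne _ h1
      have hc3 := hcardne _ h2
      have hcomm : ∀ q : Q, φ c * φ q = φ q * φ c := fun q => by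
        rw [← map_mul, ← map_mul, mem_center_iff.mp hc q]
      have hcomm' : ∀ (q : Q) (v : V), φ c (φ q v) = φ q (φ c v) := fun q v => by
        have := congrArg (fun f : MulAut V => f v) (hcomm q)
        simpa using this
      have hinv1 : ∀ q, ∀ u ∈ fixS (φ c), φ q u ∈ fixS (φ c) := by
        intro q u hu
        rw [mem_fixS] at hu ⊢
        rw [hcomm', hu]
      have hinv2 : ∀ q, ∀ u ∈ invS (φ c), φ q u ∈ invS (φ c) := by
        intro q u hu
        rw [mem_invS] at hu ⊢
        rw [hcomm', hu, map_inv]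
      have hO := Nat.odd_mul.mp (hprod ▸ hn : Odd (Nat.card (fixS (φ c)) * Nat.card (invS (φ c))))
      obtain ⟨d₁, d₂, hd, hB1, hB2⟩ := decomp hQ φ hφ (fixS (φ c)) (invS (φ c))
        (fix_inv_decomp hVodd (φ c) (hinvol c hc2)) hinv1 hinv2
        (ih _ (hlt _ _ hprod hc3)) (ih _ (hlt _ _ (by rw [mul_comm]; exact hprod) hc1)) hO.1 hO.2
      rw [← hprod]
      exact B_mul hc1 hc3 hB1 hB2 hd
    have hinj1 : ∀ c : Q, c * c = 1 → invS (φ c) = ⊥ → c = 1 := by
      intro c hc2 h
      apply hφ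
      rw [map_one]
      ext v
      obtain ⟨x, hx, y, hy, rfl⟩ := fix_inv_decomp hVodd (φ c) (hinvol c hc2) v
      rw [h, mem_bot] at hy
      rw [hy, mul_one, mem_fixS.mp hx]
      rfl
    by_cases hzf : fixS (φ z) = ⊥
    swap
    · exact split z hzc hz2 hzf (fun h => hz1 (hinj1 z hz2 h))
    -- `z` inverts `V`
    have hzinv : ∀ v, φ z v = v⁻¹ := by
      intro v
      obtain ⟨x, hx, y, hy, rfl⟩ := fix_inv_decomp hVodd (φ z) (hinvol z hz2) v
      rw [hzf, mem_bot] at hx
      rw [hx, one_mul, mem_invS.mp hy]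
    have hbf : fixS (φ b) ≠ ⊥ := by
      intro h
      apply hbz
      apply hφ
      ext v
      obtain ⟨x, hx, y, hy, rfl⟩ := fix_inv_decomp hVodd (φ b) (hinvol b hb2) v
      rw [h, mem_bot] at hx
      rw [hx, one_mul, mem_invS.mp hy, hzinv]
    have hbi : invS (φ b) ≠ ⊥ := fun h => hb1 (hinj1 b hb2 h)
    by_cases hbc : b ∈ center Q
    · exact split b hbc hb2 hbf hbi
    -- the noncentral case
    obtain ⟨g₀, hg₀⟩ : ∃ g₀ : Q, g₀ * b * g₀⁻¹ = b * z := by
      by_contra hcon
      push Not at hcon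
      apply hbc
      rw [mem_center_iff]
      intro g
      have h1 := (hconj g).resolve_right (hcon g)
      rw [mul_inv_eq_iff_eq_mul] at h1
      exact h1
    have hzcomm : ∀ g : Q, g * z = z * g := mem_center_iff.mp hzc
    have hbzne : b * z ≠ b := fun h => hz1 (mul_eq_left.mp h)
    let Q₀ : Subgroup Q := centralizer ({b} : Set Q)
    have hmem : ∀ g : Q, g ∈ Q₀ ↔ g * b * g⁻¹ = b := by
      intro g
      rw [mem_centralizer_singleton_iff, mul_inv_eq_iff_eq_mul]
    have hidx : Q₀.index = 2 := by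
      rw [index_eq_two_iff]
      refine ⟨g₀, fun h => ?_⟩
      have e1 : (h * g₀) * b * (h * g₀)⁻¹ = h * b * h⁻¹ * z := by
        calc (h * g₀) * b * (h * g₀)⁻¹ = h * (g₀ * b * g₀⁻¹) * h⁻¹ := by group
          _ = h * (b * z) * h⁻¹ := by rw [hg₀]
          _ = h * b * (z * h⁻¹) := by group
          _ = h * b * (h⁻¹ * z) := by rw [hzcomm h⁻¹]
          _ = h * b * h⁻¹ * z := by group
      rcases hconj h with h1 | h1
      · right
        refine ⟨(hmem h).mpr h1, ?_⟩
        rw [hmem, e1, h1]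
        exact hbzne
      · left
        refine ⟨?_, ?_⟩
        · rw [hmem, e1, h1, mul_assoc, hz2, mul_one]
        · rw [hmem, h1]
          exact hbzne
    have hQ₀n : Q₀.Normal := normal_of_index_eq_two hidx
    have hdd1 : dd ≤ (frattini (Q ⧸ Q₀)).index * (frattini Q₀).index := frattini_index_le_mul hQ Q₀
    have hdd2 : (frattini (Q ⧸ Q₀)).index ≤ 2 := by
      have h1 : (frattini (Q ⧸ Q₀)).index ∣ Nat.card (Q ⧸ Q₀) := index_dvd_card _
      rw [← Subgroup.index, hidx] at h1
      exact Nat.le_of_dvd two_pos h1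
    let φ₀ : Q₀ →* MulAut V := φ.comp Q₀.subtype
    have hφ₀ : Function.Injective φ₀ := hφ.comp Q₀.subtype_injective
    have hcomm₀ : ∀ (q : Q₀) (v : V), φ b (φ₀ q v) = φ₀ q (φ b v) := by
      intro q v
      have h1 : (q : Q) * b = b * q := mem_centralizer_singleton_iff.mp q.2
      have := congrArg (fun f : MulAut V => f v) (congrArg φ h1)
      simpa [φ₀] using this.symm
    have hinv1 : ∀ q, ∀ u ∈ fixS (φ b), φ₀ q u ∈ fixS (φ b) := by
      intro q u hu
      rw [mem_fixS] at hu ⊢
      rw [hcomm₀, hu]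
    have hinv2 : ∀ q, ∀ u ∈ invS (φ b), φ₀ q u ∈ invS (φ b) := by
      intro q u hu
      rw [mem_invS] at hu ⊢
      rw [hcomm₀, hu, map_inv]
    -- `g₀` swaps
    have hswap : ∀ v : V, φ b (φ g₀ v) = φ g₀ ((φ b v)⁻¹) := by
      intro v
      have h1 : b * g₀ = g₀ * (b * z) := by
        have h2 : g₀ * b = b * z * g₀ := by
          rw [← hg₀]
          group
        calc b * g₀ = b * g₀ * (z * z) := by rw [hz2, mul_one]
          _ = b * (g₀ * z) * z := by group
          _ = b * (z * g₀) * z := by rw [hzcomm g₀]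
          _ = (b * z * g₀) * z := by group
          _ = g₀ * b * z := by rw [h2]
          _ = g₀ * (b * z) := by group
      have h3 := congrArg (fun f : MulAut V => f v) (congrArg φ h1)
      simp only [map_mul, MulAut.mul_apply] at h3
      rw [h3, hzinv, map_inv]
    have hs1 : Nat.card (fixS (φ b)) ≤ Nat.card (invS (φ b)) := by
      have hle : (fixS (φ b)).map (φ g₀).toMonoidHom ≤ invS (φ b) := by
        rintro _ ⟨v, hv, rfl⟩
        rw [mem_invS]
        change φ b (φ g₀ v) = (φ g₀ v)⁻¹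
        rw [hswap, mem_fixS.mp hv, map_inv]
      have := Subgroup.card_le_of_le hle
      rwa [Subgroup.card_map_of_injective (φ g₀).injective] at this
    have hs2 : Nat.card (invS (φ b)) ≤ Nat.card (fixS (φ b)) := by
      have hle : (invS (φ b)).map (φ g₀).toMonoidHom ≤ fixS (φ b) := by
        rintro _ ⟨v, hv, rfl⟩
        rw [mem_fixS]
        change φ b (φ g₀ v) = φ g₀ v
        rw [hswap, mem_invS.mp hv, inv_inv]
      have := Subgroup.card_le_of_le hle
      rwa [Subgroup.card_map_of_injective (φ g₀).injective] at this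
    have hs : Nat.card (invS (φ b)) = Nat.card (fixS (φ b)) := le_antisymm hs2 hs1
    have hprod := card_fix_mul_card_inv hVodd (φ b) (hinvol b hb2)
    rw [hV] at hprod
    have hc1 := hcardne _ hbf
    have hc3 := hcardne _ hbi
    have hO := Nat.odd_mul.mp (hprod ▸ hn : Odd (Nat.card (fixS (φ b)) * Nat.card (invS (φ b))))
    obtain ⟨d₁, d₂, hd, hB1, hB2⟩ := decomp (hQ.to_subgroup Q₀) φ₀ hφ₀ (fixS (φ b)) (invS (φ b))
      (fix_inv_decomp hVodd (φ b) (hinvol b hb2)) hinv1 hinv2
      (ih _ (hlt _ _ hprod hc3)) (ih _ (hlt _ _ (by rw [mul_comm]; exact hprod) hc1)) hO.1 hO.2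
    set s := Nat.card (fixS (φ b)) with hsdef
    rw [hs] at hprod hB2 hc3
    by_cases hs3 : s = 3
    · -- the special case `|V| = 9`
      right; right
      have hn9 : n = 9 := by rw [← hprod, hs3]
      have hcardQ₀ : Nat.card Q₀ ≤ 2 * 2 := by
        have h1 := card_le_decomp φ₀ hφ₀ (fixS (φ b)) (invS (φ b))
          (fix_inv_decomp hVodd (φ b) (hinvol b hb2)) hinv1 hinv2
        have haut : ∀ U : Subgroup V, Nat.card U = 3 → Nat.card (MulAut U) = 2 := by
          intro U hU
          haveI : Fact (Nat.Prime 3) := ⟨Nat.prime_three⟩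
          have hUc : IsCyclic U := isCyclic_of_prime_card hU
          rw [IsCyclic.card_mulAut, hU]
          rfl
        rw [haut _ hs3, haut _ (by rw [hs]; exact hs3)] at h1
        exact h1
      have hcardQ : Nat.card Q ≤ 8 := by
        have h1 := Q₀.card_mul_index
        rw [hidx] at h1
        omega
      obtain ⟨k, hk⟩ := IsPGroup.iff_card.mp hQ
      have hddvd : dd ∣ 2 ^ k := hk ▸ index_dvd_card _
      obtain ⟨j, -, hj⟩ := (Nat.dvd_prime_pow Nat.prime_two).mp hddvd
      have hΦ := (frattini Q).card_mul_index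
      rw [← hdd] at hΦ
      have hcp : 0 < Nat.card (frattini Q) := Nat.card_pos
      have hd8 : dd ≤ 8 := by nlinarith
      have hj3 : j ≤ 3 := by
        by_contra hj3
        have : 2 ^ 4 ≤ 2 ^ j := Nat.pow_le_pow_right two_pos (by omega)
        rw [← hj] at this
        omega
      have hj' : j = 3 ∨ j ≤ 2 := by omega
      rcases hj' with rfl | hj2
      · exfalso
        have hd8' : dd = 8 := by rw [hj]; norm_num
        have hΦ1 : Nat.card (frattini Q) = 1 := by
          rw [hd8'] at hΦ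
          omega
        have hΦb := Subgroup.card_eq_one.mp hΦ1
        have hcm : ⁅g₀, b⁆ ∈ frattini Q :=
          commutator_le_frattini hQ (commutator_mem_commutator (mem_top g₀) (mem_top b))
        rw [hΦb, mem_bot, commutatorElement_def] at hcm
        have : g₀ * b * g₀⁻¹ = b := mul_inv_eq_one.mp hcm
        rw [hg₀] at this
        exact hbzne this
      · have : 2 ^ j ≤ 2 ^ 2 := Nat.pow_le_pow_right two_pos hj2
        rw [hj, hn9]
        omega
    · right; right
      have h1 : 2 * d₁ ≤ s := by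
        rcases hB1 with ⟨h, -⟩ | ⟨h, -⟩ | h
        · exact absurd h hc1
        · exact absurd h hs3
        · exact h
      have h2 : 2 * d₂ ≤ s := by
        rcases hB2 with ⟨h, -⟩ | ⟨h, -⟩ | h
        · exact absurd h hc1
        · exact absurd h hs3
        · exact h
      have h3 : dd ≤ 2 * (d₁ * d₂) := hdd1.trans (Nat.mul_le_mul hdd2 hd)
      rw [← hprod]
      calc 2 * dd ≤ 2 * (2 * (d₁ * d₂)) := Nat.mul_le_mul_left 2 h3
        _ = (2 * d₁) * (2 * d₂) := by ring
        _ ≤ s * s := Nat.mul_le_mul h1 h2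

end main

end Cfsg.Agent.Lib.FG7.FrattiniBound
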