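import Mathlib
import Cfsg.Agent.S3975
import Cfsg.Agent.Lib.Solvable.Hall
import Cfsg.Agent.Lib.PGroups.Basic

/-!
# Counting subgroups of prime power order in `p`-groups modulo `p²`: the enumeration principle
-/

set_option autoImplicit false

namespace Cfsg.Agent.Lib.FG7.Kulakoff

open Subgroup Cfsg.Agent.Lib.Solvable.Hall

/-- The number of subgroups of order `q`. -/
noncomputable def cnt (G : Type*) [Group G] (q : ℕ) : ℕ :=
  Nat.card {H : Subgroup G // Nat.card H = q}

section basics

variable {G : Type*} [Group G] [Finite G]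

/-- The finite set of subgroups satisfying a predicate. -/
noncomputable def sset (P : Subgroup G → Prop) : Finset (Subgroup G) :=
  (Set.toFinite {H | P H}).toFinset

@[simp] theorem mem_sset {P : Subgroup G → Prop} {H : Subgroup G} : H ∈ sset P ↔ P H := by
  simp [sset]

theorem card_sset (P : Subgroup G → Prop) : Nat.card {H // P H} = (sset P).card := by
  have h1 : Nat.card {H // P H} = Set.ncard {H | P H} := Nat.card_coe_set_eq _
  rw [h1, Set.ncard_eq_toFinset_card _ (Set.toFinite _)]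
  rfl

theorem cnt_eq (q : ℕ) : cnt G q = (sset fun H : Subgroup G => Nat.card H = q).card :=
  card_sset _

/-- Subgroups of a subgroup. -/
theorem cnt_subgroup (A : Subgroup G) (q : ℕ) :
    cnt A q = (sset fun H : Subgroup G => H ≤ A ∧ Nat.card H = q).card := by
  rw [← card_sset]
  unfold cnt
  let f : {H : Subgroup A // Nat.card H = q} → {H : Subgroup G // H ≤ A ∧ Nat.card H = q} :=
    fun H => ⟨H.1.map A.subtype, map_subtype_le _, by
      rw [Subgroup.card_map_of_injective (f := A.subtype) A.subtype_injective]; exact H.2⟩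
  have hf : Function.Bijective f := by
    constructor
    · intro x y hxy
      apply Subtype.ext
      exact Subgroup.map_injective A.subtype_injective (congrArg Subtype.val hxy)
    · rintro ⟨H, hHA, hH⟩
      refine ⟨⟨H.subgroupOf A, ?_⟩, ?_⟩
      · have h1 : (H.subgroupOf A).map A.subtype = H := Subgroup.map_subgroupOf_eq_of_le hHA
        have h2 := Subgroup.card_map_of_injective (K := H.subgroupOf A) (f := A.subtype) A.subtype_injective
        rw [h1, hH] at h2
        exact h2.symm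
      · apply Subtype.ext
        exact Subgroup.map_subgroupOf_eq_of_le hHA
  exact Nat.card_eq_of_bijective f hf

/-- Subgroups of a quotient. -/
theorem cnt_quot (N : Subgroup G) [N.Normal] (q : ℕ) :
    cnt (G ⧸ N) q = (sset fun H : Subgroup G => N ≤ H ∧ Nat.card H = q * Nat.card N).card := by
  rw [← card_sset]
  unfold cnt
  set π := QuotientGroup.mk' N with hπ
  have hsurj : Function.Surjective π := QuotientGroup.mk'_surjective N
  let f : {H : Subgroup (G ⧸ N) // Nat.card H = q} →
      {H : Subgroup G // N ≤ H ∧ Nat.card H = q * Nat.card N} :=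
    fun H => ⟨H.1.comap π, by
      intro x hx
      rw [Subgroup.mem_comap]
      have : π x = 1 := by
        rw [hπ, QuotientGroup.mk'_apply, QuotientGroup.eq_one_iff]; exact hx
      rw [this]; exact one_mem _, by rw [card_comap_mk', H.2]⟩
  have hf : Function.Bijective f := by
    constructor
    · intro x y hxy
      apply Subtype.ext
      exact comap_injective hsurj (congrArg Subtype.val hxy)
    · rintro ⟨H, hNH, hH⟩
      have hcomap : (H.map π).comap π = H := by
        rw [comap_map_eq_self]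
        rwa [hπ, QuotientGroup.ker_mk']
      have hcard : Nat.card (H.map π) = q := by
        have h1 := card_comap_mk' N (H.map π)
        rw [← hπ, hcomap, hH] at h1
        exact (Nat.eq_of_mul_eq_mul_right Nat.card_pos h1).symm
      exact ⟨⟨H.map π, hcard⟩, Subtype.ext hcomap⟩
  exact Nat.card_eq_of_bijective f hf

/-- Congruences are preserved by finite sums. -/
theorem sum_modEq {ι : Type*} (s : Finset ι) (f g : ι → ℕ) (n : ℕ)
    (h : ∀ i ∈ s, f i ≡ g i [MOD n]) : ∑ i ∈ s, f i ≡ ∑ i ∈ s, g i [MOD n] := by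
  classical
  induction s using Finset.induction_on with
  | empty => simp [Nat.ModEq.refl]
  | insert a s ha ih =>
    rw [Finset.sum_insert ha, Finset.sum_insert ha]
    exact (h a (Finset.mem_insert_self _ _)).add (ih fun i hi => h i (Finset.mem_insert_of_mem hi))

/-- Two distinct subgroups of index `p` in a `p`-group, the second normal, meet in index `p`. -/
theorem card_inf_of_ne {p e : ℕ} (hp : p.Prime) (hG : Nat.card G = p ^ (e + 2))
    {M M₀ : Subgroup G} [M₀.Normal] (hM : Nat.card M = p ^ (e + 1))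
    (hM₀ : Nat.card M₀ = p ^ (e + 1)) (hne : M ≠ M₀) : Nat.card (M ⊓ M₀ : Subgroup G) = p ^ e := by
  have h1 := card_sup_mul_card_inf M M₀
  have hnle : ¬ M ≤ M₀ := fun h => hne (Subgroup.eq_of_le_of_card_ge h (by rw [hM, hM₀]))
  have hsup : Nat.card (M ⊔ M₀ : Subgroup G) = p ^ (e + 2) := by
    have hd : Nat.card (M ⊔ M₀ : Subgroup G) ∣ p ^ (e + 2) := hG ▸ Subgroup.card_subgroup_dvd_card _
    obtain ⟨i, hi, hi2⟩ := (Nat.dvd_prime_pow hp).mp hd
    have hlt : p ^ (e + 1) < p ^ i := by
      rw [← hi2, ← hM₀]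
      apply Cfsg.Agent.Lib.PGroups.Basic.card_lt_of_lt
      exact lt_of_le_of_ne le_sup_right (fun h => hnle (h ▸ le_sup_left))
    have hi3 : e + 1 < i := (Nat.pow_lt_pow_iff_right hp.one_lt).mp hlt
    have : i = e + 2 := by omega
    rw [hi2, this]
  rw [hsup, hM, hM₀] at h1
  have h2 : p ^ (e + 2) * Nat.card (M ⊓ M₀ : Subgroup G) = p ^ (e + 2) * p ^ e := by
    rw [h1]; ring
  exact Nat.eq_of_mul_eq_mul_left (pow_pos hp.pos _) h2

end basics

section ea

/-- A group of order `p²` and exponent `p` has `p + 1` subgroups of order `p`. -/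
theorem cnt_sq {p : ℕ} (hp : p.Prime) {Q : Type*} [Group Q] [Finite Q] (hQ : Nat.card Q = p ^ 2)
    (hexp : ∀ x : Q, x ^ p = 1) : cnt Q p = p + 1 := by
  classical
  haveI : Fintype Q := Fintype.ofFinite Q
  haveI : Fact p.Prime := ⟨hp⟩
  have hord : ∀ x : Q, x ≠ 1 → orderOf x = p := fun x hx => orderOf_eq_prime (hexp x) hx
  rw [cnt_eq]
  set T := sset fun H : Subgroup Q => Nat.card H = p with hT
  have hmaps : ∀ x ∈ (Finset.univ.erase (1 : Q)), zpowers x ∈ T := by
    intro x hx
    have hx1 : x ≠ 1 := (Finset.mem_erase.mp hx).1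
    rw [hT, mem_sset, Nat.card_zpowers, hord x hx1]
  have h1 := Finset.card_eq_sum_card_fiberwise hmaps
  have hfib : ∀ S ∈ T, (((Finset.univ.erase (1 : Q))).filter (fun x => zpowers x = S)).card = p - 1 := by
    intro S hS
    have hScard : Nat.card S = p := by simpa [hT] using hS
    have heq : ((Finset.univ.erase (1 : Q))).filter (fun x => zpowers x = S) =
        (Set.toFinite (S : Set Q)).toFinset.erase 1 := by
      ext x
      simp only [Finset.mem_filter, Finset.mem_erase, Finset.mem_univ, and_true,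
        Set.Finite.mem_toFinset, SetLike.mem_coe]
      constructor
      · rintro ⟨hx1, rfl⟩
        exact ⟨hx1, mem_zpowers x⟩
      · rintro ⟨hx1, hxS⟩
        refine ⟨hx1, ?_⟩
        apply Subgroup.eq_of_le_of_card_ge ((zpowers_le).mpr hxS)
        rw [Nat.card_zpowers, hord x hx1, hScard]
    rw [heq, Finset.card_erase_of_mem (by simp [one_mem])]
    have h2 : (Set.toFinite (S : Set Q)).toFinset.card = Nat.card S := by
      rw [← Set.ncard_eq_toFinset_card _ (Set.toFinite _)]
      exact (Nat.card_coe_set_eq _).symm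
    rw [h2, hScard]
  rw [Finset.sum_congr rfl hfib, Finset.sum_const, smul_eq_mul, Finset.card_erase_of_mem (Finset.mem_univ _),
    Finset.card_univ, ← Nat.card_eq_fintype_card, hQ] at h1
  have hp1 := hp.one_lt
  obtain ⟨q, rfl⟩ : ∃ q, p = q + 1 := ⟨p - 1, by omega⟩
  have h3 : (q + 2) * q = T.card * q := by
    have : (q + 1) ^ 2 - 1 = (q + 2) * q := by
      have : (q + 1) ^ 2 = (q + 2) * q + 1 := by ring
      omega
    rw [this] at h1
    simpa using h1
  have hq : 0 < q := by omega
  exact (Nat.eq_of_mul_eq_mul_right hq h3).symm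

/-- In an elementary abelian group of order `p^(e+2)`, with `M₀` of index `p`: the number of
hyperplanes is `1 + p * c`, where `c` counts the hyperplanes of `M₀`. -/
theorem cnt_hyperplane {p e : ℕ} (hp : p.Prime) {E : Type*} [Group E] [Finite E]
    (hc : ∀ a b : E, a * b = b * a) (hexp : ∀ x : E, x ^ p = 1) (hE : Nat.card E = p ^ (e + 2))
    (M₀ : Subgroup E) (hM₀ : Nat.card M₀ = p ^ (e + 1)) :
    cnt E (p ^ (e + 1)) = 1 + p * cnt M₀ (p ^ e) := by
  classical
  have hnorm : ∀ T : Subgroup E, T.Normal := fun T => ⟨fun n hn g => by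
    rw [hc g n, mul_assoc, mul_inv_cancel, mul_one]; exact hn⟩
  rw [cnt_eq, cnt_subgroup]
  set 𝓜 := sset fun H : Subgroup E => Nat.card H = p ^ (e + 1) with h𝓜
  set 𝓣 := sset fun H : Subgroup E => H ≤ M₀ ∧ Nat.card H = p ^ e with h𝓣
  have hM₀mem : M₀ ∈ 𝓜 := by simp [h𝓜, hM₀]
  have hdc := Finset.sum_card_bipartiteAbove_eq_sum_card_bipartiteBelow (s := 𝓣) (t := 𝓜.erase M₀)
    (fun T M => T ≤ M)
  have hleft : ∀ T ∈ 𝓣, (Finset.bipartiteAbove (fun T M : Subgroup E => T ≤ M) (𝓜.erase M₀) T).card = p := by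
    intro T hT
    obtain ⟨hTM, hTc⟩ : T ≤ M₀ ∧ Nat.card T = p ^ e := by simpa [h𝓣] using hT
    haveI := hnorm T
    have hQ : Nat.card (E ⧸ T) = p ^ 2 := by
      have h1 := Subgroup.card_eq_card_quotient_mul_card_subgroup T
      rw [hE, hTc] at h1
      have h2 : p ^ 2 * p ^ e = Nat.card (E ⧸ T) * p ^ e := by rw [← h1]; ring
      exact (Nat.eq_of_mul_eq_mul_right (pow_pos hp.pos _) h2).symm
    have hexpQ : ∀ x : E ⧸ T, x ^ p = 1 := by
      intro x
      induction x using QuotientGroup.induction_on with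
      | H x => rw [← QuotientGroup.mk_pow, hexp]; rfl
    have h3 := cnt_sq hp hQ hexpQ
    rw [cnt_quot, hTc] at h3
    have hs : (sset fun H : Subgroup E => T ≤ H ∧ Nat.card H = p * p ^ e) =
        insert M₀ (Finset.bipartiteAbove (fun T M : Subgroup E => T ≤ M) (𝓜.erase M₀) T) := by
      ext M
      simp only [mem_sset, Finset.mem_insert, Finset.mem_bipartiteAbove, Finset.mem_erase, h𝓜]
      constructor
      · rintro ⟨h1, h2⟩
        by_cases hMM : M = M₀
        · exact Or.inl hMM
        · exact Or.inr ⟨⟨hMM, by rw [h2]; ring⟩, h1⟩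
      · rintro (rfl | ⟨⟨_, h2⟩, h1⟩)
        · exact ⟨hTM, by rw [hM₀]; ring⟩
        · exact ⟨h1, by rw [h2]; ring⟩
    rw [hs, Finset.card_insert_of_notMem (by simp [Finset.mem_bipartiteAbove])] at h3
    omega
  have hright : ∀ M ∈ 𝓜.erase M₀, (Finset.bipartiteBelow (fun T M : Subgroup E => T ≤ M) 𝓣 M).card = 1 := by
    intro M hM
    obtain ⟨hne, hMc⟩ : M ≠ M₀ ∧ Nat.card M = p ^ (e + 1) := by
      simpa [h𝓜] using hM
    haveI := hnorm M₀
    have hinf := card_inf_of_ne hp hE hMc hM₀ hne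
    rw [Finset.card_eq_one]
    refine ⟨M ⊓ M₀, ?_⟩
    ext T
    simp only [Finset.mem_bipartiteBelow, h𝓣, mem_sset, Finset.mem_singleton]
    constructor
    · rintro ⟨⟨h1, h2⟩, h3⟩
      exact Subgroup.eq_of_le_of_card_ge (le_inf h3 h1) (by rw [hinf, h2])
    · rintro rfl
      exact ⟨⟨inf_le_right, hinf⟩, inf_le_left⟩
  rw [Finset.sum_congr rfl hleft, Finset.sum_congr rfl hright] at hdc
  simp only [Finset.sum_const, smul_eq_mul, mul_one, Finset.card_erase_of_mem hM₀mem] at hdc
  have hpos : 0 < 𝓜.card := Finset.card_pos.mpr ⟨_, hM₀mem⟩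
  rw [mul_comm] at hdc
  omega

/-- The number of hyperplanes of an elementary abelian `p`-group, modulo `p²`. -/
theorem ea_count {p : ℕ} (hp : p.Prime) (e : ℕ) : ∀ (E : Type _) [Group E] [Finite E],
    (∀ a b : E, a * b = b * a) → (∀ x : E, x ^ p = 1) → Nat.card E = p ^ (e + 1) →
    cnt E (p ^ e) ≡ 1 [MOD p] ∧ (1 ≤ e → cnt E (p ^ e) ≡ 1 + p [MOD p ^ 2]) := by
  induction e with
  | zero =>
    intro E _ _ hc hexp hE
    have h : cnt E (p ^ 0) = 1 := by
      unfold cnt
      rw [Nat.card_eq_one_iff_unique]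
      refine ⟨⟨?_⟩, ⟨⟨⊥, by simp⟩⟩⟩
      rintro ⟨H, hH⟩ ⟨K, hK⟩
      apply Subtype.ext
      rw [pow_zero, Subgroup.card_eq_one] at hH hK
      show H = K
      rw [hH, hK]
    rw [h]
    exact ⟨Nat.ModEq.refl _, fun h => by omega⟩
  | succ e ih =>
    intro E _ _ hc hexp hE
    haveI : Fact p.Prime := ⟨hp⟩
    obtain ⟨M₀, hM₀⟩ := Sylow.exists_subgroup_card_pow_prime (G := E) p
      (n := e + 1) (by rw [hE]; exact pow_dvd_pow p (Nat.le_succ _))
    have hkey := cnt_hyperplane hp hc hexp hE M₀ hM₀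
    have hc' : ∀ a b : M₀, a * b = b * a := fun a b => Subtype.ext (hc a b)
    have hexp' : ∀ x : M₀, x ^ p = 1 := fun x => Subtype.ext (hexp x)
    have h1 := (ih M₀ hc' hexp' hM₀).1
    rw [hkey]
    constructor
    · have : 1 + p * cnt M₀ (p ^ e) ≡ 1 + 0 [MOD p] := by
        apply Nat.ModEq.add_left
        rw [Nat.modEq_zero_iff_dvd]
        exact dvd_mul_right _ _
      exact this
    · intro _
      apply Nat.ModEq.add_left
      have := Nat.ModEq.mul_left' p h1
      rw [mul_one] at this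
      have h2 : p * p = p ^ 2 := by ring
      rwa [h2] at this

end ea

section enum

open Cfsg.Agent.Lib.PGroups.Basic
open scoped commutatorElement

variable {G : Type*} [Group G] [Finite G]

/-- The number of maximal subgroups of a `p`-group containing `H`. -/
noncomputable def h₁ (p : ℕ) (H : Subgroup G) : ℕ :=
  (sset fun M : Subgroup G => M.index = p ∧ H ≤ M).card

/-- The number of subgroups of index `p²` containing `H` and the Frattini subgroup. -/
noncomputable def h₂ (p : ℕ) (H : Subgroup G) : ℕ :=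
  (sset fun T : Subgroup G => frattini G ≤ T ∧ T.index = p ^ 2 ∧ H ≤ T).card

theorem normal_of_commutator_le {L : Subgroup G} (h : commutator G ≤ L) : L.Normal := by
  refine ⟨fun n hn g => ?_⟩
  have h1 : g * n * g⁻¹ = ⁅g, n⁆ * n := by
    rw [commutatorElement_def]; group
  rw [h1]
  exact L.mul_mem (h (Subgroup.commutator_mem_commutator (mem_top g) (mem_top n))) hn

theorem frattini_le_of_index {p : ℕ} (hp : p.Prime) {M : Subgroup G} (hM : M.index = p) :
    frattini G ≤ M := by
  have hc : IsCoatom M := isCoatom_of_index_prime (by rwa [hM])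
  exact frattini_le_coatom hc

variable {p m : ℕ}

theorem h₁_eq (hp : p.Prime) (L : Subgroup G) [L.Normal]
    (e : ℕ) (hL : L.index = p ^ (e + 1)) : h₁ p L = cnt (G ⧸ L) (p ^ e) := by
  rw [cnt_quot]
  unfold h₁
  congr 1
  ext M
  simp only [mem_sset]
  have h1 := card_mul_index L
  have h2 := card_mul_index M
  have hLpos : 0 < Nat.card L := Nat.card_pos
  have hpe : 0 < p ^ e := pow_pos hp.pos _
  rw [hL, pow_succ, ← h2, ← mul_assoc] at h1
  constructor
  · rintro ⟨h3, h4⟩
    refine ⟨h4, ?_⟩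
    rw [h3] at h1
    have : Nat.card M * p = p ^ e * Nat.card L * p := by rw [← h1]; ring
    exact Nat.eq_of_mul_eq_mul_right hp.pos this
  · rintro ⟨h3, h4⟩
    refine ⟨?_, h3⟩
    rw [h4] at h1
    have : (p ^ e * Nat.card L) * M.index = (p ^ e * Nat.card L) * p := by rw [← h1]; ring
    exact Nat.eq_of_mul_eq_mul_left (mul_pos hpe hLpos) this

theorem h₂_eq (hp : p.Prime) (L : Subgroup G) [L.Normal] (hL0 : frattini G ≤ L)
    (e : ℕ) (hL : L.index = p ^ (e + 2)) : h₂ p L = cnt (G ⧸ L) (p ^ e) := by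
  rw [cnt_quot]
  unfold h₂
  congr 1
  ext M
  simp only [mem_sset]
  have h1 := card_mul_index L
  have h2 := card_mul_index M
  have hLpos : 0 < Nat.card L := Nat.card_pos
  have hpe : 0 < p ^ e := pow_pos hp.pos _
  have hp2 : 0 < p ^ 2 := pow_pos hp.pos _
  rw [hL, pow_add, ← h2, ← mul_assoc] at h1
  constructor
  · rintro ⟨_, h3, h4⟩
    refine ⟨h4, ?_⟩
    rw [h3] at h1
    have : Nat.card M * p ^ 2 = p ^ e * Nat.card L * p ^ 2 := by rw [← h1]; ring
    exact Nat.eq_of_mul_eq_mul_right hp2 this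
  · rintro ⟨h3, h4⟩
    refine ⟨hL0.trans h3, ?_, h3⟩
    rw [h4] at h1
    have : (p ^ e * Nat.card L) * M.index = (p ^ e * Nat.card L) * p ^ 2 := by rw [← h1]; ring
    exact Nat.eq_of_mul_eq_mul_left (mul_pos hpe hLpos) this

theorem h₂_eq_zero (hp : p.Prime) (L : Subgroup G) (hL : L.index = p) : h₂ p L = 0 := by
  unfold h₂
  rw [Finset.card_eq_zero, Finset.eq_empty_iff_forall_notMem]
  intro T hT
  obtain ⟨_, h3, h4⟩ := mem_sset.mp hT
  have h5 := Subgroup.index_dvd_of_le h4
  rw [h3, hL] at h5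
  have h6 := Nat.le_of_dvd hp.pos h5
  have h7 := hp.two_le
  nlinarith

theorem h₁_frattini (hp : p.Prime) (H : Subgroup G) : h₁ p (H ⊔ frattini G) = h₁ p H := by
  unfold h₁
  congr 1
  ext M
  simp only [mem_sset, sup_le_iff]
  constructor
  · rintro ⟨h1, h2, _⟩
    exact ⟨h1, h2⟩
  · rintro ⟨h1, h2⟩
    exact ⟨h1, h2, frattini_le_of_index hp h1⟩

theorem h₂_frattini (H : Subgroup G) : h₂ p (H ⊔ frattini G) = h₂ p H := by
  unfold h₂
  congr 1
  ext M
  simp only [mem_sset, sup_le_iff]
  constructor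
  · rintro ⟨h0, h1, h2, _⟩
    exact ⟨h0, h1, h2⟩
  · rintro ⟨h0, h1, h2⟩
    exact ⟨h0, h1, h2, h0⟩

/-- The main count for a subgroup containing the Frattini subgroup. -/
theorem over_frattini (hp : p.Prime) (hG : IsPGroup p G) (L : Subgroup G) (hL0 : frattini G ≤ L)
    (hLt : L ≠ ⊤) :
    (L.index = p ∧ h₁ p L = 1 ∧ h₂ p L = 0) ∨
      (h₁ p L ≡ 1 + p [MOD p ^ 2] ∧ h₂ p L ≡ 1 [MOD p]) := by
  haveI : Fact p.Prime := ⟨hp⟩
  haveI hLn : L.Normal := normal_of_commutator_le ((commutator_le_frattini hG).trans hL0)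
  obtain ⟨i, hi⟩ : ∃ i, L.index = p ^ i := by
    have := (hG.to_quotient L)
    obtain ⟨i, hi⟩ := IsPGroup.iff_card.mp this
    exact ⟨i, by rw [Subgroup.index_eq_card, hi]⟩
  have hi0 : i ≠ 0 := by
    rintro rfl
    rw [pow_zero, Subgroup.index_eq_one] at hi
    exact hLt hi
  obtain ⟨e, rfl⟩ : ∃ e, i = e + 1 := ⟨i - 1, by omega⟩
  have hc : ∀ a b : G ⧸ L, a * b = b * a := by
    intro a b
    induction a using QuotientGroup.induction_on with
    | H a =>
      induction b using QuotientGroup.induction_on with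
      | H b =>
        rw [← QuotientGroup.mk_mul, ← QuotientGroup.mk_mul, QuotientGroup.eq]
        apply (commutator_le_frattini hG).trans hL0
        have : (a * b)⁻¹ * (b * a) = ⁅b⁻¹, a⁻¹⁆ := by
          rw [commutatorElement_def]; group
        rw [this]
        exact Subgroup.commutator_mem_commutator (mem_top _) (mem_top _)
  have hexp : ∀ x : G ⧸ L, x ^ p = 1 := by
    intro x
    induction x using QuotientGroup.induction_on with
    | H x =>
      rw [← QuotientGroup.mk_pow, QuotientGroup.eq_one_iff]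
      exact hL0 (pow_mem_frattini hG x)
  have hcard : Nat.card (G ⧸ L) = p ^ (e + 1) := by rw [← Subgroup.index_eq_card, hi]
  have hea := ea_count hp e (G ⧸ L) hc hexp hcard
  rw [← h₁_eq hp L e hi] at hea
  rcases Nat.eq_zero_or_pos e with rfl | he
  · left
    refine ⟨by simpa using hi, ?_, h₂_eq_zero hp L (by simpa using hi)⟩
    rw [h₁_eq hp L 0 hi]
    unfold cnt
    rw [Nat.card_eq_one_iff_unique]
    refine ⟨⟨?_⟩, ⟨⟨⊥, by simp⟩⟩⟩
    rintro ⟨H, hH⟩ ⟨K, hK⟩
    apply Subtype.ext
    rw [pow_zero, Subgroup.card_eq_one] at hH hK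
    show H = K
    rw [hH, hK]
  · right
    refine ⟨hea.2 he, ?_⟩
    obtain ⟨f, rfl⟩ : ∃ f, e = f + 1 := ⟨e - 1, by omega⟩
    rw [h₂_eq hp L hL0 f hi]
    apply Cfsg.Agent.S3975.result p f hp
    rw [hcard]
    exact pow_dvd_pow _ (by omega)

/-- The key relation between the two counts. -/
theorem over_modEq (hp : p.Prime) (hG : IsPGroup p G) (H : Subgroup G) (hH : H ≠ ⊤) :
    h₁ p H ≡ 1 + p * h₂ p H [MOD p ^ 2] := by
  have hne : H ⊔ frattini G ≠ ⊤ := fun h => hH (frattini_nongenerating h)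
  rw [← h₁_frattini hp, ← h₂_frattini]
  rcases over_frattini hp hG _ le_sup_right hne with ⟨_, h1, h2⟩ | ⟨h1, h2⟩
  · rw [h1, h2, mul_zero]
    exact Nat.ModEq.refl _
  · refine h1.trans (Nat.ModEq.add_left _ ?_)
    have := Nat.ModEq.mul_left' p h2.symm
    rw [mul_one] at this
    have h3 : p * p = p ^ 2 := by ring
    rwa [h3] at this

/-- In particular the number of maximal subgroups over a proper subgroup is `≡ 1` mod `p`. -/
theorem over_modEq_one (hp : p.Prime) (hG : IsPGroup p G) (H : Subgroup G) (hH : H ≠ ⊤) :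
    h₁ p H ≡ 1 [MOD p] := by
  have h1 := (over_modEq hp hG H hH).of_dvd (Dvd.intro_left (p ^ 1) (by ring))
  refine h1.trans ?_
  have : 1 + p * h₂ p H ≡ 1 + 0 [MOD p] := by
    apply Nat.ModEq.add_left
    rw [Nat.modEq_zero_iff_dvd]
    exact dvd_mul_right _ _
  exact this

/-- A `p`-group whose Frattini subgroup has index `p` or `1` is cyclic. -/
theorem frattini_index_of_not_cyclic (hp : p.Prime) (hG : IsPGroup p G) (hnc : ¬ IsCyclic G) :
    frattini G ≠ ⊤ ∧ (frattini G).index ≠ p := by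
  haveI : Fact p.Prime := ⟨hp⟩
  constructor
  · intro h
    have h2 : (⊥ : Subgroup G) ⊔ frattini G = ⊤ := by rw [h]; simp
    have h3 := frattini_nongenerating h2
    apply hnc
    refine ⟨1, fun x => ?_⟩
    have : x ∈ (⊥ : Subgroup G) := h3 ▸ mem_top x
    rw [Subgroup.mem_bot] at this
    rw [this]
    exact (zpowers (1 : G)).one_mem
  · intro h
    have hcoat : IsCoatom (frattini G) := isCoatom_of_index_prime (by rwa [h])
    have hne : frattini G ≠ ⊤ := hcoat.1
    obtain ⟨x, hx⟩ : ∃ x, x ∉ frattini G := by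
      by_contra hall
      exact hne ((Subgroup.eq_top_iff' _).mpr fun y => by
        by_contra hy
        exact hall ⟨y, hy⟩)
    have h1 : zpowers x ⊔ frattini G = ⊤ := by
      rw [sup_comm]
      apply hcoat.2
      refine lt_of_le_of_ne le_sup_left ?_
      intro h2
      exact hx (h2 ▸ (le_sup_right : zpowers x ≤ frattini G ⊔ zpowers x) (mem_zpowers x))
    have h2 := frattini_nongenerating h1
    exact hnc ⟨x, fun y => by
      have : y ∈ zpowers x := h2 ▸ mem_top y
      exact this⟩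

/-- Non-cyclic `p`-groups: the total numbers modulo `p²` and `p`. -/
theorem mx_count (hp : p.Prime) (hG : IsPGroup p G) (hnc : ¬ IsCyclic G) :
    h₁ p (⊥ : Subgroup G) ≡ 1 + p [MOD p ^ 2] ∧ h₂ p (⊥ : Subgroup G) ≡ 1 [MOD p] := by
  obtain ⟨h1, h2⟩ := frattini_index_of_not_cyclic hp hG hnc
  rcases over_frattini hp hG _ le_rfl h1 with ⟨h3, _⟩ | ⟨h3, h4⟩
  · exact absurd h3 h2
  · rw [← h₁_frattini hp, ← h₂_frattini]
    simpa using And.intro h3 h4

/-- **The enumeration principle** modulo `p²`. -/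
theorem enum (hp : p.Prime) (hGc : Nat.card G = p ^ m) (hnc : ¬ IsCyclic G) (k : ℕ)
    (hk : k + 2 ≤ m) :
    ∑ M ∈ sset (fun M : Subgroup G => M.index = p), cnt M (p ^ k) ≡ cnt G (p ^ k) + p [MOD p ^ 2] := by
  classical
  have hG : IsPGroup p G := IsPGroup.of_card hGc
  have hpm : 0 < p ^ m := pow_pos hp.pos _
  set S := sset fun H : Subgroup G => Nat.card H = p ^ k with hS
  set X := sset fun M : Subgroup G => M.index = p with hX
  set Y := sset fun T : Subgroup G => frattini G ≤ T ∧ T.index = p ^ 2 with hY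
  have hcn : cnt G (p ^ k) = S.card := cnt_eq _
  -- rewriting sums over `X`
  have h1 : ∑ M ∈ X, cnt M (p ^ k) = ∑ H ∈ S, h₁ p H := by
    have hdc := Finset.sum_card_bipartiteAbove_eq_sum_card_bipartiteBelow (s := S) (t := X)
      (fun H M => H ≤ M)
    have h3 : ∀ H ∈ S, (Finset.bipartiteAbove (fun H M : Subgroup G => H ≤ M) X H).card = h₁ p H := by
      intro H _
      unfold h₁
      congr 1
      ext M
      simp [Finset.mem_bipartiteAbove, hX]
    have h4 : ∀ M ∈ X, (Finset.bipartiteBelow (fun H M : Subgroup G => H ≤ M) S M).card = cnt M (p ^ k) := by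
      intro M _
      rw [cnt_subgroup]
      congr 1
      ext H
      simp [Finset.mem_bipartiteBelow, hS, and_comm]
    rw [Finset.sum_congr rfl h3, Finset.sum_congr rfl h4] at hdc
    exact hdc.symm
  have h2 : ∑ T ∈ Y, cnt T (p ^ k) = ∑ H ∈ S, h₂ p H := by
    have hdc := Finset.sum_card_bipartiteAbove_eq_sum_card_bipartiteBelow (s := S) (t := Y)
      (fun H M => H ≤ M)
    have h3 : ∀ H ∈ S, (Finset.bipartiteAbove (fun H M : Subgroup G => H ≤ M) Y H).card = h₂ p H := by
      intro H _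
      unfold h₂
      congr 1
      ext M
      simp [Finset.mem_bipartiteAbove, hY, and_assoc]
    have h4 : ∀ M ∈ Y, (Finset.bipartiteBelow (fun H M : Subgroup G => H ≤ M) S M).card = cnt M (p ^ k) := by
      intro M _
      rw [cnt_subgroup]
      congr 1
      ext H
      simp [Finset.mem_bipartiteBelow, hS, and_comm]
    rw [Finset.sum_congr rfl h3, Finset.sum_congr rfl h4] at hdc
    exact hdc.symm
  have hSproper : ∀ H ∈ S, H ≠ ⊤ := by
    intro H hH hH'
    have h3 : Nat.card H = p ^ k := by simpa [hS] using hH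
    rw [hH', Subgroup.card_top, hGc] at h3
    have := (Nat.pow_right_injective hp.two_le) h3
    omega
  have h5 : ∑ H ∈ S, h₁ p H ≡ ∑ H ∈ S, (1 + p * h₂ p H) [MOD p ^ 2] :=
    sum_modEq _ _ _ _ fun H hH => over_modEq hp hG H (hSproper H hH)
  rw [Finset.sum_add_distrib, ← Finset.mul_sum, ← h2] at h5
  simp only [Finset.sum_const, smul_eq_mul, mul_one] at h5
  have h6 : ∑ T ∈ Y, cnt T (p ^ k) ≡ ∑ T ∈ Y, 1 [MOD p] := by
    apply sum_modEq
    intro T hT
    obtain ⟨_, hT2⟩ : frattini G ≤ T ∧ T.index = p ^ 2 := by simpa [hY] using hT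
    apply Cfsg.Agent.S3975.result p k hp
    have h7 := card_mul_index T
    rw [hT2, hGc] at h7
    have h8 : Nat.card T = p ^ (m - 2) := by
      have h9 : p ^ m = p ^ (m - 2) * p ^ 2 := by rw [← pow_add]; congr 1; omega
      rw [h9] at h7
      exact Nat.eq_of_mul_eq_mul_right (pow_pos hp.pos _) h7
    rw [h8]
    exact pow_dvd_pow _ (by omega)
  simp only [Finset.sum_const, smul_eq_mul, mul_one] at h6
  have h7 : Y.card ≡ 1 [MOD p] := by
    have h8 := (mx_count hp hG hnc).2
    have h9 : h₂ p (⊥ : Subgroup G) = Y.card := by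
      unfold h₂
      congr 1
      ext T
      simp [hY]
    rwa [h9] at h8
  have h8 : p * ∑ T ∈ Y, cnt T (p ^ k) ≡ p * 1 [MOD p * p] :=
    Nat.ModEq.mul_left' p (h6.trans h7)
  rw [mul_one, ← pow_two] at h8
  rw [h1, hcn]
  exact h5.trans (Nat.ModEq.add_left _ h8)

/-- The number of subgroups of index `p`: counted as subgroups of order `p^(m-1)`. -/
theorem cnt_max (hp : p.Prime) (hGc : Nat.card G = p ^ (m + 1)) :
    cnt G (p ^ m) = h₁ p (⊥ : Subgroup G) := by
  rw [cnt_eq]
  unfold h₁
  congr 1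
  ext M
  simp only [mem_sset, bot_le, and_true]
  have h2 := card_mul_index M
  rw [hGc, pow_succ] at h2
  constructor
  · intro h
    rw [h] at h2
    exact Nat.eq_of_mul_eq_mul_left (pow_pos hp.pos _) h2
  · intro h
    rw [h] at h2
    exact Nat.eq_of_mul_eq_mul_right hp.pos h2

end enum

end Cfsg.Agent.Lib.FG7.Kulakoff
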