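import Mathlib
import Cfsg.Agent.Lib.FG7.Kulakoff
import Cfsg.Agent.Lib.PGroups.MaximalClass
import Cfsg.Agent.Lib.PGroups.NormalRankTwo
import Cfsg.Agent.Lib.PGroups.CyclicNormal
import Cfsg.Agent.Lib.PGroups.ClassTwo
import Cfsg.Agent.Lib.PGroups.InvolutionCount

/-!
# `p`-groups with a cyclic maximal subgroup, and `2`-groups of maximal class: counting
-/

set_option autoImplicit false

namespace Cfsg.Agent.Lib.FG7.KulakoffB

open Subgroup Cfsg.Agent.Lib.FG7.Kulakoff Cfsg.Agent.Lib.PGroups.Basic Cfsg.Agent.Lib.Solvable.Hall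
open Cfsg.Agent.Lib.PGroups.MaximalClass Cfsg.Agent.Lib.PGroups.NormalRankTwo
open Cfsg.Agent.Lib.PGroups.CyclicNormal Cfsg.Agent.Lib.PGroups.ClassTwo
open scoped commutatorElement

variable {X : Type*} [Group X] [Finite X]

/-- If the commutator subgroup of a non-cyclic `2`-group has an element of order `|X|/4`, the
commutator subgroup has index `4`. -/
theorem index_eq_four_of_orderOf {n : ℕ} (hX : Nat.card X = 2 ^ (n + 2)) (hnc : ¬ IsCyclic X)
    {w : X} (hw : w ∈ commutator X) (ho : orderOf w = 2 ^ n) : (commutator X).index = 4 := by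
  haveI : Fact (Nat.Prime 2) := ⟨Nat.prime_two⟩
  have hG : IsPGroup 2 X := IsPGroup.of_card hX
  have h1 := card_mul_index (commutator X)
  have h2 : orderOf w ∣ Nat.card (commutator X) := Subgroup.orderOf_dvd_natCard _ hw
  rw [ho] at h2
  obtain ⟨c, hc⟩ := h2
  rw [hc, hX, pow_add, mul_assoc] at h1
  have h3 : c * (commutator X).index = 2 ^ 2 :=
    Nat.eq_of_mul_eq_mul_left (pow_pos (by norm_num) _) h1
  have h4 : (commutator X).index ∣ 4 := ⟨c, by rw [mul_comm]; omega⟩
  have h5 : (commutator X).index ≠ 1 ∧ (commutator X).index ≠ 2 := by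
    constructor
    · intro h
      have h6 : Nat.card (X ⧸ commutator X) = 1 := by rw [← index_eq_card]; exact h
      haveI : Subsingleton (X ⧸ commutator X) := (Nat.card_eq_one_iff_unique.mp h6).1
      exact hnc (isCyclic_of_isCyclic_abelianization hG (isCyclic_of_subsingleton))
    · intro h
      have h6 : Nat.card (X ⧸ commutator X) = 2 := by rw [← index_eq_card]; exact h
      exact hnc (isCyclic_of_isCyclic_abelianization hG (isCyclic_of_prime_card h6))
  have h6 : (commutator X).index ≤ 4 := Nat.le_of_dvd (by norm_num) h4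
  have h7 : (commutator X).index ≠ 0 := Subgroup.index_ne_zero_of_finite
  have h8 : (commutator X).index ≠ 3 := by
    intro h
    rw [h] at h4
    omega
  omega

/-- A normal abelian non-cyclic subgroup of a `p`-group contains a normal subgroup of order `p²` and
exponent `p`. -/
theorem exists_R_of_abelian {p : ℕ} [hp : Fact p.Prime] (hG : IsPGroup p X) (A : Subgroup X) [A.Normal]
    (hAc : IsMulCommutative A) (hAnc : ¬ IsCyclic A) :
    ∃ R : Subgroup X, R.Normal ∧ (∀ r ∈ R, r ^ p = 1) ∧ Nat.card R = p ^ 2 := by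
  have hcomm : ∀ {a b : X}, a ∈ A → b ∈ A → a * b = b * a := by
    intro a b ha hb
    have := hAc.is_comm.comm ⟨a, ha⟩ ⟨b, hb⟩
    exact congrArg Subtype.val this
  let Ω : Subgroup X :=
    { carrier := {a | a ∈ A ∧ a ^ p = 1}
      mul_mem' := by
        rintro a b ⟨ha, ha'⟩ ⟨hb, hb'⟩
        refine ⟨A.mul_mem ha hb, ?_⟩
        have hc : Commute a b := hcomm ha hb
        rw [hc.mul_pow, ha', hb', one_mul]
      one_mem' := ⟨A.one_mem, one_pow _⟩
      inv_mem' := by
        rintro a ⟨ha, ha'⟩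
        exact ⟨A.inv_mem ha, by rw [inv_pow, ha', inv_one]⟩ }
  haveI hΩn : Ω.Normal := by
    refine ⟨?_⟩
    rintro a ⟨ha, ha'⟩ g
    refine ⟨(inferInstance : A.Normal).conj_mem a ha g, ?_⟩
    rw [conj_pow, ha', mul_one, mul_inv_cancel]
  have hcA : ∀ a b : A, a * b = b * a := fun a b => Subtype.ext (hcomm a.2 b.2)
  obtain ⟨B, _, hB, hBc⟩ := exists_card_sq_of_comm (hG.to_subgroup A) hcA hAnc
  have hle : B.map A.subtype ≤ Ω := by
    rintro _ ⟨b, hb, rfl⟩
    exact ⟨b.2, congrArg Subtype.val (hB b hb)⟩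
  have hdvd : p ^ 2 ∣ Nat.card Ω := by
    have h1 := Subgroup.card_dvd_of_le hle
    rwa [Subgroup.card_map_of_injective (f := A.subtype) A.subtype_injective, hBc] at h1
  obtain ⟨R, hRn, hRΩ, hR⟩ := exists_normal_le_card_eq hG Ω 2 hdvd
  exact ⟨R, hRn, fun r hr => (hRΩ hr).2, hR⟩

/-- The conclusion of the classification of `2`-groups with all normal abelian subgroups cyclic. -/
theorem index_four_of_all_cyclic (hG : IsPGroup 2 X)
    (hn : ∀ A : Subgroup X, A.Normal → IsMulCommutative A → IsCyclic A) (hnc : ¬ IsCyclic X) :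
    (commutator X).index = 4 := by
  obtain ⟨n, a, y, hn2, ha, hX, hy, hai, hcase⟩ := classify hG hn hnc
  obtain ⟨t, rfl⟩ : ∃ t, n = t + 1 := ⟨n - 1, by omega⟩
  have hX' : Nat.card X = 2 ^ (t + 2) := by rw [hX]
  have ha2 : orderOf (a ^ 2) = 2 ^ t := by
    rw [orderOf_pow' _ (by norm_num), ha, Nat.gcd_eq_right (dvd_pow_self 2 (by omega))]
    rw [pow_succ]
    simp
  have hmem : ⁅y, a⁆ ∈ commutator X := Subgroup.commutator_mem_commutator (mem_top _) (mem_top _)
  have key : ∀ w : X, y * a * y⁻¹ = w → w * a⁻¹ ∈ commutator X := by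
    intro w hw
    have : ⁅y, a⁆ = w * a⁻¹ := by
      rw [commutatorElement_def, hw]
    rwa [← this]
  have hinv : y * a * y⁻¹ = a⁻¹ → (commutator X).index = 4 := by
    intro h
    have h1 := key _ h
    have h2 : (a⁻¹ * a⁻¹) = (a ^ 2)⁻¹ := by rw [pow_two, mul_inv_rev]
    rw [h2] at h1
    exact index_eq_four_of_orderOf hX' hnc h1 (by rw [orderOf_inv, ha2])
  rcases hcase with ⟨_, h⟩ | ⟨_, _, h⟩ | ⟨h3, _, h⟩
  · exact hinv h
  · exact hinv h
  · have h1 := key _ h
    obtain ⟨u, rfl⟩ : ∃ u, t = u + 2 := ⟨t - 2, by omega⟩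
    have hexp : (2 : ℕ) ^ (u + 2 + 1 - 1) - 1 = 2 * (2 ^ (u + 1) - 1) + 1 := by
      have : 2 ^ (u + 2 + 1 - 1) = 2 * 2 ^ (u + 1) := by
        rw [show u + 2 + 1 - 1 = u + 2 by omega]; ring
      have h2 : 1 ≤ 2 ^ (u + 1) := Nat.one_le_two_pow
      omega
    have h2 : a ^ (2 ^ (u + 2 + 1 - 1) - 1) * a⁻¹ = (a ^ 2) ^ (2 ^ (u + 1) - 1) := by
      rw [hexp, pow_succ, mul_assoc, mul_inv_cancel, mul_one, pow_mul]
    rw [h2] at h1
    refine index_eq_four_of_orderOf hX' hnc h1 ?_
    rw [Nat.Coprime.orderOf_pow, ha2]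
    rw [ha2]
    apply Nat.Coprime.pow_left
    rw [Nat.coprime_two_left]
    have : Even (2 ^ (u + 1)) := ⟨2 ^ u, by rw [pow_succ]; ring⟩
    have h5 : 1 ≤ 2 ^ (u + 1) := Nat.one_le_two_pow
    exact Nat.Even.sub_odd h5 this odd_one

/-- A non-cyclic `p`-group, not of maximal class if `p = 2`, has a normal elementary abelian subgroup
of order `p²`. -/
theorem exists_R {p : ℕ} [hp : Fact p.Prime] (hG : IsPGroup p X) (hnc : ¬ IsCyclic X)
    (h2 : p = 2 → (commutator X).index ≠ 4) :
    ∃ R : Subgroup X, R.Normal ∧ (∀ r ∈ R, r ^ p = 1) ∧ Nat.card R = p ^ 2 := by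
  by_cases hp2 : p = 2
  · subst hp2
    by_contra hno
    apply h2 rfl
    apply index_four_of_all_cyclic hG _ hnc
    intro A hAn hAc
    by_contra hAnc
    haveI := hAn
    exact hno (exists_R_of_abelian hG A hAc hAnc)
  · exact exists_normal_card_sq hp2 hG hnc

/-- A subgroup with cyclic quotient contains the commutator subgroup. -/
theorem commutator_le_of_isCyclic_quotient {N : Subgroup X} [N.Normal] (h : IsCyclic (X ⧸ N)) :
    commutator X ≤ N := by
  apply Subgroup.Normal.quotient_commutative_iff_commutator_le.mp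
  exact h.isMulCommutative

theorem not_isCyclic_of_exp {p : ℕ} [hp : Fact p.Prime] {R : Subgroup X} (hRe : ∀ r ∈ R, r ^ p = 1)
    (hRc : Nat.card R = p ^ 2) : ¬ IsCyclic R := by
  intro hcyc
  obtain ⟨r, hr⟩ := hcyc.exists_generator
  have h1 : orderOf r = p ^ 2 := by
    rw [← hRc]
    exact orderOf_eq_card_of_forall_mem_zpowers hr
  have h2 : r ^ p = 1 := Subtype.ext (hRe r r.2)
  have h3 := orderOf_dvd_of_pow_eq_one h2
  rw [h1] at h3
  have hpp := hp.out
  have := Nat.le_of_dvd hpp.pos h3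
  have h4 := hpp.two_le
  nlinarith

/-- The structure of a non-cyclic `p`-group with a cyclic maximal subgroup (not of maximal class for
`p = 2`): all maximal subgroups but one are cyclic. -/
theorem cyclic_maximal {p n : ℕ} [hp : Fact p.Prime] (hGc : Nat.card X = p ^ (n + 3))
    (hnc : ¬ IsCyclic X) (h2 : p = 2 → (commutator X).index ≠ 4) (C : Subgroup X) (hC : IsCyclic C)
    (hCi : C.index = p) :
    ∃ M₁ : Subgroup X, M₁.index = p ∧ ¬ IsCyclic M₁ ∧
      (∀ M : Subgroup X, M.index = p → M ≠ M₁ → IsCyclic M) ∧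
      (p = 2 → 1 ≤ n → (commutator M₁).index ≠ 4) := by
  classical
  have hpp := hp.out
  have hppos := hpp.pos
  have hG : IsPGroup p X := IsPGroup.of_card hGc
  obtain ⟨R, hRn, hRe, hRc⟩ := exists_R hG hnc h2
  haveI := hRn
  obtain ⟨g₀, hg₀⟩ := hC.exists_generator
  obtain ⟨x, hx, hCx⟩ : ∃ x : X, x ∈ C ∧ C = zpowers x := by
    refine ⟨g₀.1, g₀.2, ?_⟩
    apply le_antisymm
    · intro y hy
      obtain ⟨k, hk⟩ := mem_zpowers_iff.mp (hg₀ ⟨y, hy⟩)
      refine mem_zpowers_iff.mpr ⟨k, ?_⟩
      have := congrArg Subtype.val hk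
      simpa using this
    · exact zpowers_le.mpr g₀.2
  clear hg₀ g₀ hC
  subst hCx
  have hxo : orderOf x = p ^ (n + 2) := by
    have h1 := card_mul_index (zpowers x)
    rw [hCi, hGc, Nat.card_zpowers, pow_succ p (n + 2)] at h1
    exact Nat.eq_of_mul_eq_mul_right hppos h1
  have hxpo : orderOf (x ^ p) = p ^ (n + 1) := by
    rw [orderOf_pow' _ hpp.ne_zero, hxo, Nat.gcd_eq_right (dvd_pow_self p (by omega))]
    rw [pow_succ p (n + 1)]
    exact Nat.mul_div_cancel _ hppos
  haveI hCn : (zpowers x).Normal := normal_of_isCoatom hG (isCoatom_of_index_prime (by rwa [hCi]))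
  have hcoat : IsCoatom (zpowers x) := isCoatom_of_index_prime (by rwa [hCi])
  have hRnc := not_isCyclic_of_exp hRe hRc
  have hcyc_of_le : ∀ {A : Subgroup X}, R ≤ A → IsCyclic A → False := by
    intro A hA hAc
    exact hRnc (isCyclic_of_injective (Subgroup.inclusion hA) (Subgroup.inclusion_injective hA))
  have hRC : ¬ R ≤ zpowers x := fun h => hcyc_of_le h inferInstance
  have hsup : zpowers x ⊔ R = ⊤ := by
    apply hcoat.2
    refine lt_of_le_of_ne le_sup_left ?_
    intro h
    exact hRC (h ▸ le_sup_right)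
  set W₀ : Subgroup X := zpowers x ⊓ R with hW₀
  haveI hW₀n : W₀.Normal := by rw [hW₀]; infer_instance
  have hW₀c : Nat.card W₀ = p := by
    have h1 := card_sup_mul_card_inf (zpowers x) R
    rw [hsup, Subgroup.card_top, hGc, Nat.card_zpowers, hxo, hRc] at h1
    have h3 : p ^ (n + 3) * Nat.card W₀ = p ^ (n + 3) * p := by
      rw [h1]; ring
    exact Nat.eq_of_mul_eq_mul_left (pow_pos hppos _) h3
  have hW₀cen : W₀ ≤ center X := by
    have hne : W₀ ≠ ⊥ := by
      intro h
      rw [h, Subgroup.card_bot] at hW₀c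
      exact hpp.one_lt.ne hW₀c
    obtain ⟨z, hz, hzc, hzo⟩ := exists_central_orderOf_eq hG W₀ hne
    have hzW : zpowers z = W₀ := by
      apply Subgroup.eq_of_le_of_card_ge (zpowers_le.mpr hz)
      rw [hW₀c, Nat.card_zpowers, hzo]
    rw [← hzW]
    exact zpowers_le.mpr hzc
  have hG'C : commutator X ≤ zpowers x :=
    commutator_le_of_isCyclic_quotient (isCyclic_of_prime_card (p := p) (by
      rw [← index_eq_card, hCi]))
  have hmem : ∀ g : X, ∃ (i : ℕ) (r : X), r ∈ R ∧ g = x ^ i * r := by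
    intro g
    have h1 : g ∈ ((zpowers x ⊔ R : Subgroup X) : Set X) := by rw [hsup]; exact mem_top g
    rw [Subgroup.mul_normal, Set.mem_mul] at h1
    obtain ⟨c, hc, r, hr, rfl⟩ := h1
    have hc' : c ∈ Submonoid.powers x := mem_powers_iff_mem_zpowers.mpr hc
    obtain ⟨i, rfl⟩ := (Submonoid.mem_powers_iff _ _).mp hc'
    exact ⟨i, r, hr, rfl⟩
  have hG'R : commutator X ≤ R := by
    apply commutator_le_of_isCyclic_quotient
    refine ⟨(x : X ⧸ R), fun y => ?_⟩
    induction y using QuotientGroup.induction_on with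
    | H g =>
      obtain ⟨i, r, hr, rfl⟩ := hmem g
      refine mem_zpowers_iff.mpr ⟨i, ?_⟩
      rw [zpow_natCast, QuotientGroup.mk_mul, QuotientGroup.mk_pow,
        (QuotientGroup.eq_one_iff r).mpr hr, mul_one]
  have hG'W : commutator X ≤ W₀ := le_inf hG'C hG'R
  -- elements of order dividing `p` in the cyclic group
  have hwK : ∀ w ∈ zpowers x, w ^ p = 1 → ∃ s : ℕ, w = (x ^ p) ^ (p ^ n * s) := by
    intro w hw hwp
    have hc' : w ∈ Submonoid.powers x := mem_powers_iff_mem_zpowers.mpr hw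
    obtain ⟨i, rfl⟩ := (Submonoid.mem_powers_iff _ _).mp hc'
    rw [← pow_mul] at hwp
    have h1 := orderOf_dvd_of_pow_eq_one hwp
    rw [hxo, pow_succ p (n + 1), mul_comm i p, mul_comm (p ^ (n + 1)) p] at h1
    obtain ⟨s, rfl⟩ := Nat.dvd_of_mul_dvd_mul_left hppos h1
    refine ⟨s, ?_⟩
    rw [← pow_mul]
    congr 1
    ring
  set K : Subgroup X := zpowers (x ^ p) with hK
  have hKc : Nat.card K = p ^ (n + 1) := by rw [hK, Nat.card_zpowers, hxpo]
  have hKC : K ≤ zpowers x := zpowers_le.mpr (pow_mem (mem_zpowers x) p)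
  have hWK : W₀ ≤ K := by
    intro w hw
    obtain ⟨s, hs⟩ := hwK w hw.1 (hRe w hw.2)
    rw [hs]
    exact pow_mem (mem_zpowers _) _
  have hKR : K ⊓ R = W₀ := by
    apply le_antisymm
    · exact inf_le_inf_right R hKC
    · exact le_inf hWK inf_le_right
  set M₁ : Subgroup X := K ⊔ R with hM₁
  have hM₁c : Nat.card M₁ = p ^ (n + 2) := by
    have h1 := card_sup_mul_card_inf K R
    rw [hKR, hW₀c, hKc, hRc] at h1
    have h3 : Nat.card M₁ * p = p ^ (n + 2) * p := by
      rw [h1]; ring
    exact Nat.eq_of_mul_eq_mul_right hppos h3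
  have hM₁i : M₁.index = p := by
    have h1 := card_mul_index M₁
    rw [hM₁c, hGc, pow_succ p (n + 2)] at h1
    exact Nat.eq_of_mul_eq_mul_left (pow_pos hppos _) h1
  refine ⟨M₁, hM₁i, fun h => hcyc_of_le le_sup_right h, ?_, ?_⟩
  · intro M hMi hMne
    have hMc : Nat.card M = p ^ (n + 2) := by
      have h1 := card_mul_index M
      rw [hMi, hGc, pow_succ p (n + 2)] at h1
      exact Nat.eq_of_mul_eq_mul_right hppos h1
    have hKM : K ≤ M := by
      apply zpowers_le.mpr
      exact frattini_le_of_index hpp hMi (pow_mem_frattini hG x)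
    have hnle : ¬ M ≤ M₁ := fun h => hMne (Subgroup.eq_of_le_of_card_ge h (by rw [hM₁c, hMc]))
    obtain ⟨g, hgM, hgM₁⟩ := SetLike.not_le_iff_exists.mp hnle
    obtain ⟨i, r, hr, hgeq⟩ := hmem g
    have hpi : ¬ p ∣ i := by
      rintro ⟨t, rfl⟩
      apply hgM₁
      rw [hgeq, pow_mul]
      exact M₁.mul_mem (mem_sup_left (pow_mem (mem_zpowers _) _)) (mem_sup_right hr)
    set u : X := ⁅r, x ^ i⁆ with hu
    have hucomm : u ∈ commutator X := Subgroup.commutator_mem_commutator (mem_top _) (mem_top _)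
    have hucen : u ∈ center X := hW₀cen (hG'W hucomm)
    have hc1 : Commute u (x ^ i) := (mem_center_iff.mp hucen (x ^ i)).symm
    have hc2 : Commute u r := (mem_center_iff.mp hucen r).symm
    have hgp : g ^ p = (x ^ p) ^ i * u ^ (p.choose 2) := by
      rw [hgeq, mul_pow_of_comm hc1 hc2, hRe r hr, mul_one, ← pow_mul, ← pow_mul, mul_comm]
    have hup : u ^ p = 1 := hRe u (hG'R hucomm)
    obtain ⟨j, hj, hgj⟩ : ∃ j : ℕ, ¬ p ∣ j ∧ g ^ p = (x ^ p) ^ j := by
      by_cases hp2 : p = 2
      · subst hp2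
        have hc22 : Nat.choose 2 2 = 1 := by norm_num
        rw [hc22, pow_one] at hgp
        rcases Nat.eq_zero_or_pos n with rfl | hn
        · -- order 8
          have hu1 : u = 1 := by
            by_contra hu1
            have hne : commutator X ≠ ⊥ := by
              intro h
              rw [h] at hucomm
              exact hu1 hucomm
            have h8 : (commutator X).index ∣ 8 := by
              have := Subgroup.index_dvd_card (commutator X)
              rwa [hGc] at this
            have h9 : (commutator X).index ≠ 8 := by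
              intro h
              have h10 := card_mul_index (commutator X)
              rw [h, hGc] at h10
              have h11 : Nat.card (commutator X) = 1 := by omega
              exact hne (Subgroup.card_eq_one.mp h11)
            have h10 : (commutator X).index ≠ 1 := by
              intro h
              have h6 : Nat.card (X ⧸ commutator X) = 1 := by rw [← index_eq_card]; exact h
              haveI : Subsingleton (X ⧸ commutator X) := (Nat.card_eq_one_iff_unique.mp h6).1
              exact hnc (isCyclic_of_isCyclic_abelianization hG (isCyclic_of_subsingleton))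
            have h11 : (commutator X).index ≠ 2 := by
              intro h
              have h6 : Nat.card (X ⧸ commutator X) = 2 := by rw [← index_eq_card]; exact h
              exact hnc (isCyclic_of_isCyclic_abelianization hG (isCyclic_of_prime_card h6))
            have h12 := h2 rfl
            have h13 : (commutator X).index ≤ 8 := Nat.le_of_dvd (by norm_num) h8
            have h14 : (commutator X).index ≠ 0 := Subgroup.index_ne_zero_of_finite
            interval_cases hidx : (commutator X).index <;> simp_all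
          exact ⟨i, hpi, by rw [hgp, hu1, mul_one]⟩
        · obtain ⟨s, hs⟩ := hwK u (hG'C hucomm) hup
          obtain ⟨f, rfl⟩ : ∃ f, n = f + 1 := ⟨n - 1, by omega⟩
          refine ⟨i + 2 ^ (f + 1) * s, ?_, ?_⟩
          · intro hd
            apply hpi
            have h3 : 2 ∣ 2 ^ (f + 1) * s := Dvd.dvd.mul_right (dvd_pow_self 2 (by omega)) s
            exact (Nat.dvd_add_left h3).mp hd
          · rw [hgp, hs, pow_add (x ^ 2) i]
      · refine ⟨i, hpi, ?_⟩
        obtain ⟨k, hk⟩ := prime_dvd_choose_two hpp hp2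
        rw [hgp, hk, pow_mul, hup, one_pow, mul_one]
    have hcop : j.Coprime (orderOf (x ^ p)) := by
      rw [hxpo]
      apply Nat.Coprime.pow_right
      exact (Nat.Prime.coprime_iff_not_dvd hpp).mpr hj |>.symm
    obtain ⟨a, ha⟩ := exists_pow_eq_self_of_coprime hcop
    have hxg : x ^ p ∈ zpowers g := by
      rw [← ha, ← hgj]
      exact pow_mem (pow_mem (mem_zpowers g) _) _
    have hKg : K ≤ zpowers g := zpowers_le.mpr hxg
    have hgM' : zpowers g ≤ M := zpowers_le.mpr hgM
    have hKlt : K < zpowers g := by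
      refine lt_of_le_of_ne hKg ?_
      intro h
      apply hgM₁
      exact mem_sup_left (h ▸ mem_zpowers g)
    have hgc : Nat.card (zpowers g) = p ^ (n + 2) := by
      have h1 := card_lt_of_lt hKlt
      have h3 : Nat.card (zpowers g) ∣ p ^ (n + 2) := by
        rw [← hMc]; exact Subgroup.card_dvd_of_le hgM'
      obtain ⟨b, hb, hb2⟩ := (Nat.dvd_prime_pow hpp).mp h3
      rw [hKc, hb2] at h1
      have h4 := (Nat.pow_lt_pow_iff_right hpp.one_lt).mp h1
      have h5 : b = n + 2 := by omega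
      rw [hb2, h5]
    have hMeq : zpowers g = M := Subgroup.eq_of_le_of_card_ge hgM' (by rw [hgc, hMc])
    rw [← hMeq]
    infer_instance
  · intro hp2 hn h4
    subst hp2
    -- `M₁` is abelian
    have hxcen : x ^ 2 ∈ center X := by
      rw [mem_center_iff]
      intro y
      have hcy : ⁅x, y⁆ ∈ commutator X :=
        Subgroup.commutator_mem_commutator (mem_top _) (mem_top _)
      have hcyc : Commute ⁅x, y⁆ x := (mem_center_iff.mp (hW₀cen (hG'W hcy)) x).symm
      have h5 := comm_pow_left_of_comm hcyc 2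
      rw [hRe _ (hG'R hcy)] at h5
      have h6 : x ^ 2 * y * (x ^ 2)⁻¹ * y⁻¹ = 1 := by
        rw [← commutatorElement_def]; exact h5
      have h7 : x ^ 2 * y = y * x ^ 2 := by
        calc x ^ 2 * y = (x ^ 2 * y * (x ^ 2)⁻¹ * y⁻¹) * (y * x ^ 2) := by group
          _ = y * x ^ 2 := by rw [h6, one_mul]
      exact h7.symm
    have hKcen : K ≤ center X := zpowers_le.mpr hxcen
    have hRcomm : IsMulCommutative R := IsPGroup.isMulCommutative_of_card_eq_prime_sq hRc
    have hM₁comm : ∀ a b : M₁, a * b = b * a := by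
      rintro ⟨a, ha⟩ ⟨b, hb⟩
      apply Subtype.ext
      have ha' : a ∈ ((K ⊔ R : Subgroup X) : Set X) := ha
      have hb' : b ∈ ((K ⊔ R : Subgroup X) : Set X) := hb
      rw [Subgroup.mul_normal, Set.mem_mul] at ha' hb'
      obtain ⟨k, hk, r, hr, rfl⟩ := ha'
      obtain ⟨k', hk', r', hr', rfl⟩ := hb'
      have h5 : r * r' = r' * r := congrArg Subtype.val (hRcomm.is_comm.comm ⟨r, hr⟩ ⟨r', hr'⟩)
      have h6 := mem_center_iff.mp (hKcen hk)
      have h7 := mem_center_iff.mp (hKcen hk')
      show k * r * (k' * r') = k' * r' * (k * r)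
      calc k * r * (k' * r') = k * (r * k') * r' := by group
        _ = k * (k' * r) * r' := by rw [h7 r]
        _ = (k * k') * (r * r') := by group
        _ = (k' * k) * (r' * r) := by rw [h7 k, h5]
        _ = k' * (k * r') * r := by group
        _ = k' * (r' * k) * r := by rw [← h6 r']
        _ = k' * r' * (k * r) := by group
    have hbot : commutator M₁ = ⊥ := by
      rw [commutator_eq_bot_iff_center_eq_top]
      rw [eq_top_iff]
      intro a _
      rw [mem_center_iff]
      intro b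
      exact hM₁comm b a
    rw [hbot, Subgroup.index_bot, hM₁c] at h4
    obtain ⟨f, rfl⟩ : ∃ f, n = f + 1 := ⟨n - 1, by omega⟩
    have : 2 ^ (f + 1 + 2) = 8 * 2 ^ f := by ring
    have h8 : 1 ≤ 2 ^ f := Nat.one_le_two_pow
    omega

section maxclass

/-- The number of subgroups of order `2` is the number of involutions. -/
theorem cnt_two : cnt X 2 = Nat.card {x : X // orderOf x = 2} := by
  unfold cnt
  symm
  let f : {x : X // orderOf x = 2} → {H : Subgroup X // Nat.card H = 2} :=
    fun x => ⟨zpowers x.1, by rw [Nat.card_zpowers, x.2]⟩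
  apply Nat.card_eq_of_bijective f
  constructor
  · rintro ⟨x, hx⟩ ⟨y, hy⟩ hxy
    have h1 : zpowers x = zpowers y := congrArg Subtype.val hxy
    apply Subtype.ext
    have hxm : x ∈ zpowers y := h1 ▸ mem_zpowers x
    have hy2 : y * y = 1 := by rw [← pow_two, ← hy, pow_orderOf_eq_one]
    rcases Cfsg.Agent.Lib.PGroups.InvolutionCount.mem_zpowers_of_order_two hy2 hxm with h | h
    · rw [h] at hx
      simp at hx
    · exact h
  · rintro ⟨H, hH⟩
    haveI : Fact (Nat.Prime 2) := ⟨Nat.prime_two⟩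
    haveI : Nontrivial H := Finite.one_lt_card_iff_nontrivial.mp (by rw [hH]; norm_num)
    obtain ⟨x, hx⟩ := exists_ne (1 : H)
    have hx' : (x : X) ≠ 1 := fun h => hx (Subtype.ext h)
    have hx2 : (x : X) ^ 2 = 1 := by
      have := pow_card_eq_one' (G := H) (x := x)
      rw [hH] at this
      exact congrArg Subtype.val this
    have hxo : orderOf (x : X) = 2 := orderOf_eq_prime hx2 hx'
    refine ⟨⟨x, hxo⟩, Subtype.ext ?_⟩
    apply Subgroup.eq_of_le_of_card_ge (zpowers_le.mpr x.2)
    show Nat.card H ≤ Nat.card (zpowers (x : X))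
    rw [hH, Nat.card_zpowers, hxo]

variable {n : ℕ}

/-- Elements outside the cyclic maximal subgroup of a group of maximal class. -/
theorem outside_facts {a y : X} {r s : ℤ} (hidx : (zpowers a).index = 2) (hy : y ∉ zpowers a)
    (hr : y * a * y⁻¹ = a ^ r) (hs : y ^ 2 = a ^ s) {x : X} (hx : x ∉ zpowers a) :
    x * a * x⁻¹ = a ^ r ∧ ∃ j : ℤ, x ^ 2 = a ^ (j * (1 + r) + s) := by
  haveI : (zpowers a).Normal := normal_of_index_eq_two hidx
  have hxy : x * y⁻¹ ∈ zpowers a := by
    by_contra hcon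
    have h1 : ((x * y⁻¹ : X) : X ⧸ zpowers a) ≠ 1 := by
      rwa [Ne, QuotientGroup.eq_one_iff]
    have h2 : ((y : X) : X ⧸ zpowers a) ≠ 1 := by
      rwa [Ne, QuotientGroup.eq_one_iff]
    have hcard : Nat.card (X ⧸ zpowers a) = 2 := by rw [← index_eq_card]; exact hidx
    haveI : Finite (X ⧸ zpowers a) := inferInstance
    have h3 : ∀ z w : X ⧸ zpowers a, z ≠ 1 → w ≠ 1 → z = w := by
      intro z w hz hw
      obtain ⟨c, hc⟩ : IsCyclic (X ⧸ zpowers a) := isCyclic_of_prime_card hcard
      by_contra hzw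
      have h4 : ({1, z, w} : Set (X ⧸ zpowers a)).ncard ≤ 2 := by
        rw [← hcard, ← Set.ncard_univ]
        exact Set.ncard_le_ncard (Set.subset_univ _) (Set.toFinite _)
      have h5 : ({1, z, w} : Set (X ⧸ zpowers a)).ncard = 3 := by
        rw [Set.ncard_eq_three]
        exact ⟨1, z, w, hz.symm, hw.symm, hzw, rfl⟩
      omega
    have h4 := h3 _ _ h1 h2
    -- then `x y⁻¹ ≡ y`, so `x ≡ y² ≡ 1`
    have hysq : ((y : X) : X ⧸ zpowers a) ^ 2 = 1 := by
      have := pow_card_eq_one' (G := X ⧸ zpowers a) (x := (y : X ⧸ zpowers a))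
      rwa [hcard] at this
    have h5 : ((x : X) : X ⧸ zpowers a) = 1 := by
      have h6 : ((x : X) : X ⧸ zpowers a) = ((x * y⁻¹ : X) : X ⧸ zpowers a) * (y : X ⧸ zpowers a) := by
        rw [← QuotientGroup.mk_mul]; group
      rw [h6, h4, ← pow_two, hysq]
    exact hx ((QuotientGroup.eq_one_iff x).mp h5)
  obtain ⟨j, hj⟩ := mem_zpowers_iff.mp hxy
  have hxeq : x = a ^ j * y := by rw [hj]; group
  have hconj : y * a ^ j * y⁻¹ = a ^ (r * j) := by
    rw [zpow_mul, ← hr]
    exact (conj_zpow).symm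
  constructor
  · have hcomm : Commute (a ^ j) (a ^ r) := (Commute.refl a).zpow_zpow j r
    rw [hxeq]
    calc a ^ j * y * a * (a ^ j * y)⁻¹ = a ^ j * (y * a * y⁻¹) * (a ^ j)⁻¹ := by group
      _ = a ^ j * a ^ r * (a ^ j)⁻¹ := by rw [hr]
      _ = a ^ r := by rw [hcomm.eq]; group
  · refine ⟨j, ?_⟩
    rw [hxeq]
    calc (a ^ j * y) ^ 2 = a ^ j * (y * a ^ j * y⁻¹) * y ^ 2 := by
          rw [pow_two (a ^ j * y), pow_two y]; group
      _ = a ^ j * a ^ (r * j) * a ^ s := by rw [hconj, hs]
      _ = a ^ (j * (1 + r) + s) := by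
        rw [← zpow_add, ← zpow_add]
        congr 1
        ring

/-- Maximal subgroups of a `2`-group of maximal class. -/
theorem index_four_of_maximal {u : ℕ} (hXc : Nat.card X = 2 ^ (u + 4)) (a y : X) (r s : ℤ)
    (hao : orderOf a = 2 ^ (u + 3)) (hidx : (zpowers a).index = 2) (hy : y ∉ zpowers a)
    (hr : y * a * y⁻¹ = a ^ r) (hr3 : r % 4 = 3) (hr1 : (2 : ℤ) ^ (u + 2) ∣ r + 1)
    (hs : y ^ 2 = a ^ s) (hs2 : (2 : ℤ) ^ (u + 2) ∣ s) (N : Subgroup X) (hN : N.index = 2)
    (hne : N ≠ zpowers a) : (commutator N).index = 4 := by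
  haveI : Fact (Nat.Prime 2) := ⟨Nat.prime_two⟩
  have hG : IsPGroup 2 X := IsPGroup.of_card hXc
  have hNc : Nat.card N = 2 ^ (u + 3) := by
    have h1 := card_mul_index N
    rw [hN, hXc, pow_succ 2 (u + 3)] at h1
    exact Nat.eq_of_mul_eq_mul_right (by norm_num) h1
  have hnle : ¬ N ≤ zpowers a := fun h => hne (Subgroup.eq_of_le_of_card_ge h (by
    rw [Nat.card_zpowers, hao, hNc]))
  obtain ⟨x, hxN, hxA⟩ := SetLike.not_le_iff_exists.mp hnle
  have ha2 : a ^ 2 ∈ N := frattini_le_of_index Nat.prime_two hN (pow_mem_frattini hG a)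
  obtain ⟨hxa, _⟩ := outside_facts hidx hy hr hs hxA
  -- four-th power order
  have hsq : ∀ z ∉ zpowers a, z ^ 4 = 1 := by
    intro z hz
    obtain ⟨_, j, hj⟩ := outside_facts hidx hy hr hs hz
    have h1 : (2 : ℤ) ^ (u + 2) ∣ j * (1 + r) + s := by
      apply dvd_add _ hs2
      rw [add_comm 1 r]
      exact Dvd.dvd.mul_left hr1 _
    obtain ⟨c, hc⟩ := h1
    have h2 : z ^ 4 = (z ^ 2) ^ 2 := by rw [← pow_mul]
    rw [h2, hj, hc, ← zpow_natCast, ← zpow_mul]
    have h3 : (2 : ℤ) ^ (u + 2) * c * ((2 : ℕ) : ℤ) = ((orderOf a : ℕ) : ℤ) * c := by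
      rw [hao]; push_cast; ring
    rw [h3, zpow_mul, zpow_natCast, pow_orderOf_eq_one, one_zpow]
  have hNnc : ¬ IsCyclic N := by
    intro hcyc
    obtain ⟨g, hg⟩ := hcyc.exists_generator
    have h1 : orderOf g = 2 ^ (u + 3) := by
      rw [← hNc]
      exact orderOf_eq_card_of_forall_mem_zpowers hg
    have hgA : (g : X) ∉ zpowers a := by
      intro hgA
      apply hnle
      intro w hw
      obtain ⟨k, hk⟩ := mem_zpowers_iff.mp (hg ⟨w, hw⟩)
      have h2 : (g : X) ^ k = w := congrArg Subtype.val hk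
      rw [← h2]
      exact zpow_mem hgA k
    have h2 : g ^ 4 = 1 := Subtype.ext (hsq g hgA)
    have h3 := orderOf_dvd_of_pow_eq_one h2
    rw [h1] at h3
    have h4 := Nat.le_of_dvd (by norm_num) h3
    have h5 : 2 ^ (u + 3) = 8 * 2 ^ u := by ring
    have h6 : 1 ≤ 2 ^ u := Nat.one_le_two_pow
    omega
  obtain ⟨q, hq⟩ : ∃ q, r = 4 * q + 3 := ⟨r / 4, by omega⟩
  set w : N := ⁅(⟨x, hxN⟩ : N), (⟨a ^ 2, ha2⟩ : N)⁆ with hw
  have hwval : (w : X) = a ^ (4 * (2 * q + 1)) := by
    have h1 : (w : X) = x * a ^ 2 * x⁻¹ * (a ^ 2)⁻¹ := by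
      simp [hw, commutatorElement_def]
    have h2 : x * a ^ 2 * x⁻¹ = a ^ (r * 2) := by
      rw [zpow_mul, ← hxa, zpow_ofNat]
      exact (conj_pow).symm
    rw [h1, h2, ← zpow_ofNat a 2, ← zpow_neg, ← zpow_add]
    congr 1
    rw [hq]
    push_cast
    ring
  have hwmem : w ∈ commutator N := Subgroup.commutator_mem_commutator (mem_top _) (mem_top _)
  refine index_eq_four_of_orderOf (n := u + 1) hNc hNnc hwmem ?_
  have hcoe : orderOf w = orderOf (w : X) := (Subgroup.orderOf_coe w).symm
  rw [hcoe, hwval]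
  apply orderOf_eq_prime_pow
  · rw [← zpow_natCast, ← zpow_mul]
    rw [zpow_eq_one_iff_dvd hao]
    intro hd
    have h1 : (4 * (2 * q + 1) * ((2 ^ u : ℕ) : ℤ)) = 2 ^ (u + 2) * (2 * q + 1) := by
      push_cast; ring
    rw [h1] at hd
    have h2 : (2 : ℤ) ^ (u + 3) = 2 ^ (u + 2) * 2 := by ring
    rw [h2] at hd
    have h3 := (mul_dvd_mul_iff_left (by positivity : (2 : ℤ) ^ (u + 2) ≠ 0)).mp hd
    omega
  · rw [← zpow_natCast, ← zpow_mul]
    rw [zpow_eq_one_iff_dvd hao]
    refine ⟨2 * q + 1, ?_⟩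
    push_cast
    ring

theorem h₁_bot {p : ℕ} : h₁ p (⊥ : Subgroup X) = (sset fun M : Subgroup X => M.index = p).card := by
  unfold h₁
  congr 1
  ext M
  simp

/-- The count for groups of order `8` and class `2`. -/
theorem cnt_two_order_eight (hXc : Nat.card X = 2 ^ 3) (h4 : (commutator X).index = 4) :
    cnt X 2 ≡ 1 [MOD 4] := by
  classical
  obtain ⟨a, y, r, s, hao, hidx, hy, hr, hr3, hr1, hy2, hs⟩ := exists_structure (n := 3) (by norm_num) hXc h4
  have hao' : orderOf a = 4 := by rw [hao]; norm_num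
  have ha4 : a ^ 4 = 1 := by rw [← hao', pow_orderOf_eq_one]
  let Y : Set X := {x | x ∉ zpowers a ∧ x ^ 2 = 1}
  have hclosed : ∀ x ∈ Y, ∀ l ∈ zpowers a, x * l ∈ Y := by
    rintro x ⟨hx, hx2⟩ l hl
    refine ⟨fun h => hx ?_, ?_⟩
    · have := (zpowers a).mul_mem h ((zpowers a).inv_mem hl)
      simpa using this
    · obtain ⟨i, rfl⟩ := mem_zpowers_iff.mp hl
      have hxa := (outside_facts hidx hy hr hy2 hx).1
      have hconj : x * a ^ i * x⁻¹ = a ^ (r * i) := by
        rw [zpow_mul, ← hxa]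
        exact (conj_zpow).symm
      have h3 : x * a ^ i * x = a ^ (r * i) := by
        have h5 : x = x⁻¹ := by
          rw [eq_inv_iff_mul_eq_one, ← pow_two, hx2]
        calc x * a ^ i * x = x * a ^ i * x⁻¹ := by rw [← h5]
          _ = _ := hconj
      rw [pow_two]
      calc x * a ^ i * (x * a ^ i) = (x * a ^ i * x) * a ^ i := by group
        _ = a ^ ((r + 1) * i) := by rw [h3, ← zpow_add]; congr 1; ring
        _ = 1 := by
          obtain ⟨q, hq⟩ : ∃ q, r = 4 * q + 3 := ⟨r / 4, by omega⟩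
          have : (r + 1) * i = ((orderOf a : ℕ) : ℤ) * ((q + 1) * i) := by
            rw [hao', hq]; push_cast; ring
          rw [this, zpow_mul, zpow_natCast, pow_orderOf_eq_one, one_zpow]
  have hd := Cfsg.Agent.Lib.PGroups.InvolutionCount.card_dvd_of_mul_closed (zpowers a) Y hclosed
  rw [Nat.card_zpowers, hao'] at hd
  have ha22 : (a ^ 2) * (a ^ 2) = 1 := by rw [← pow_add]; exact ha4
  have ha2o : orderOf (a ^ 2) = 2 := by
    apply orderOf_eq_prime
    · rw [← pow_mul]; exact ha4
    · intro h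
      have := orderOf_dvd_of_pow_eq_one h
      rw [hao'] at this
      omega
  have hS : {x : X | orderOf x = 2} = insert (a ^ 2) Y := by
    ext x
    simp only [Set.mem_setOf_eq, Set.mem_insert_iff]
    constructor
    · intro hx
      have hx2 : x ^ 2 = 1 := by rw [← hx, pow_orderOf_eq_one]
      by_cases hxA : x ∈ zpowers a
      · left
        have hc' : x ∈ Submonoid.powers a := mem_powers_iff_mem_zpowers.mpr hxA
        obtain ⟨i, rfl⟩ := (Submonoid.mem_powers_iff _ _).mp hc'
        rw [← pow_mul] at hx2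
        have h1 := orderOf_dvd_of_pow_eq_one hx2
        rw [hao'] at h1
        obtain ⟨j, rfl⟩ : 2 ∣ i := by omega
        have h2 : a ^ (2 * j) ∈ zpowers (a ^ 2) := by
          rw [pow_mul]; exact pow_mem (mem_zpowers _) _
        rcases Cfsg.Agent.Lib.PGroups.InvolutionCount.mem_zpowers_of_order_two ha22 h2 with h | h
        · rw [h] at hx
          simp at hx
        · exact h
      · right
        exact ⟨hxA, hx2⟩
    · rintro (rfl | ⟨hx, hx2⟩)
      · exact ha2o
      · apply orderOf_eq_prime hx2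
        rintro rfl
        exact hx (one_mem _)
  have hnot : a ^ 2 ∉ Y := by
    intro h
    exact h.1 (pow_mem (mem_zpowers a) 2)
  have hcard : Nat.card {x : X // orderOf x = 2} = Y.ncard + 1 := by
    have h1 : Nat.card {x : X // orderOf x = 2} = Set.ncard {x : X | orderOf x = 2} :=
      Nat.card_coe_set_eq _
    rw [h1, hS, Set.ncard_insert_of_notMem hnot (Set.toFinite _)]
  rw [cnt_two, hcard]
  have hd' : 4 ∣ Y.ncard := by
    rw [← Nat.card_coe_set_eq]; exact hd
  obtain ⟨c, hc⟩ := hd'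
  rw [hc]
  unfold Nat.ModEq
  omega

universe u

/-- **Counting in `2`-groups of maximal class.** -/
theorem maxclass_count (n : ℕ) : ∀ (X : Type u) [Group X] [Finite X], Nat.card X = 2 ^ n → 3 ≤ n →
    (commutator X).index = 4 → ∀ k : ℕ, 1 ≤ k → k + 2 ≤ n → cnt X (2 ^ k) ≡ 1 [MOD 4] := by
  induction n using Nat.strong_induction_on with
  | _ n ih =>
    intro X _ _ hXc hn h4 k hk1 hk2
    classical
    haveI : Fact (Nat.Prime 2) := ⟨Nat.prime_two⟩
    rcases Nat.eq_or_lt_of_le hn with rfl | hn4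
    · obtain rfl : k = 1 := by omega
      simpa using cnt_two_order_eight hXc h4
    obtain ⟨u, rfl⟩ : ∃ u, n = u + 4 := ⟨n - 4, by omega⟩
    have hG : IsPGroup 2 X := IsPGroup.of_card hXc
    have hnc : ¬ IsCyclic X := by
      intro hcyc
      have h5 : commutator X = ⊥ := by
        rw [commutator_eq_bot_iff_center_eq_top, eq_top_iff]
        intro a _
        rw [mem_center_iff]
        intro b
        exact hcyc.isMulCommutative.is_comm.comm b a
      rw [h5, Subgroup.index_bot, hXc] at h4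
      have h6 : 2 ^ (u + 4) = 16 * 2 ^ u := by ring
      have h7 : 1 ≤ 2 ^ u := Nat.one_le_two_pow
      omega
    obtain ⟨a, y, r, s, hao, hidx, hy, hr, hr3, hr1, hy2, hs⟩ := exists_structure (by omega) hXc h4
    simp only [show u + 4 - 1 = u + 3 by omega, show u + 4 - 2 = u + 2 by omega] at hao hr1 hs
    have henum := enum Nat.prime_two hXc hnc k hk2
    have hmx := (mx_count Nat.prime_two hG hnc).1
    rw [h₁_bot] at hmx
    set Z := sset fun M : Subgroup X => M.index = 2 with hZ
    have hAmem : zpowers a ∈ Z := by simp [hZ, hidx]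
    have hA1 : cnt (zpowers a) (2 ^ k) = 1 := by
      apply Cfsg.Agent.S3975.card_subgroups_cyclic Nat.prime_two
      rw [Nat.card_zpowers, hao]
      exact pow_dvd_pow _ (by omega)
    rw [← Finset.add_sum_erase _ _ hAmem, hA1] at henum
    have hcZ : 0 < Z.card := Finset.card_pos.mpr ⟨_, hAmem⟩
    have hce : (Z.erase (zpowers a)).card + 1 = Z.card := by
      rw [Finset.card_erase_of_mem hAmem]; omega
    -- each other maximal subgroup is of maximal class
    have hother : ∀ N ∈ Z.erase (zpowers a), (commutator N).index = 4 ∧ Nat.card N = 2 ^ (u + 3) := by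
      intro N hN
      obtain ⟨hNne, hNZ⟩ := Finset.mem_erase.mp hN
      have hNi : N.index = 2 := by simpa [hZ] using hNZ
      refine ⟨index_four_of_maximal hXc a y r s hao hidx hy hr hr3 hr1 hy2 hs N hNi hNne, ?_⟩
      have h1 := card_mul_index N
      rw [hNi, hXc, pow_succ 2 (u + 3)] at h1
      exact Nat.eq_of_mul_eq_mul_right (by norm_num) h1
    have hnoncyc : ∀ {N : Type u} [Group N] [Finite N], Nat.card N = 2 ^ (u + 3) →
        (commutator N).index = 4 → ¬ IsCyclic N := by
      intro N _ _ hNc hN4 hcyc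
      have h5 : commutator N = ⊥ := by
        rw [commutator_eq_bot_iff_center_eq_top, eq_top_iff]
        intro a _
        rw [mem_center_iff]
        intro b
        exact hcyc.isMulCommutative.is_comm.comm b a
      rw [h5, Subgroup.index_bot, hNc] at hN4
      have h6 : 2 ^ (u + 3) = 8 * 2 ^ u := by ring
      have h7 : 1 ≤ 2 ^ u := Nat.one_le_two_pow
      omega
    by_cases hk3 : k + 2 ≤ u + 3
    · have hval : ∑ N ∈ Z.erase (zpowers a), cnt N (2 ^ k) ≡ ∑ N ∈ Z.erase (zpowers a), 1 [MOD 4] := by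
        apply sum_modEq
        intro N hN
        obtain ⟨h5, h6⟩ := hother N hN
        exact ih (u + 3) (by omega) N h6 (by omega) h5 k hk1 hk3
      simp only [Finset.sum_const, smul_eq_mul, mul_one] at hval
      norm_num at henum hmx
      unfold Nat.ModEq at *
      omega
    · obtain rfl : k = u + 2 := by omega
      have hval : ∑ N ∈ Z.erase (zpowers a), cnt N (2 ^ (u + 2)) ≡ ∑ N ∈ Z.erase (zpowers a), 3 [MOD 4] := by
        apply sum_modEq
        intro N hN
        obtain ⟨h5, h6⟩ := hother N hN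
        have h7 : Nat.card N = 2 ^ (u + 2 + 1) := h6
        rw [cnt_max Nat.prime_two h7]
        exact (mx_count Nat.prime_two (IsPGroup.of_card h6) (hnoncyc h6 h5)).1
      simp only [Finset.sum_const, smul_eq_mul] at hval
      norm_num at henum hmx
      unfold Nat.ModEq at *
      omega

end maxclass

section order16

variable {Y : Type*} [Group Y] [Finite Y]

/-- Groups of order `16` with commutators in `{1, z}`: a subgroup of index `2` is abelian iff it
contains the center. -/
theorem center_of_order16 (hY : Nat.card Y = 2 ^ 4) {z a b : Y}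
    (hcomm : ∀ c d : Y, ⁅c, d⁆ = 1 ∨ ⁅c, d⁆ = z) (hab : ⁅a, b⁆ ≠ 1) (N : Subgroup Y)
    (hN : N.index = 2) :
    (∀ c ∈ N, ∀ d ∈ N, c * d = d * c) ↔ center Y ≤ N := by
  classical
  haveI : Fact (Nat.Prime 2) := ⟨Nat.prime_two⟩
  have hzab : ⁅a, b⁆ = z := (hcomm a b).resolve_left hab
  have hz1 : z ≠ 1 := hzab ▸ hab
  have hz : ∀ g : Y, g * z = z * g := by
    intro g
    have h1 : g * ⁅a, b⁆ * g⁻¹ = ⁅g * a * g⁻¹, g * b * g⁻¹⁆ := by
      simp only [commutatorElement_def]; group
    rcases hcomm (g * a * g⁻¹) (g * b * g⁻¹) with h | h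
    · rw [h, hzab] at h1
      exfalso
      apply hz1
      have : z = g⁻¹ * (g * z * g⁻¹) * g := by group
      rw [this, h1]; group
    · rw [h, hzab] at h1
      calc g * z = (g * z * g⁻¹) * g := by group
        _ = z * g := by rw [h1]
  -- centralizers
  let C : Y → Subgroup Y := fun c => centralizer ({c} : Set Y)
  have hC : ∀ c y : Y, y ∈ C c ↔ c * y = y * c := fun c y => by
    rw [eq_comm]; exact mem_centralizer_singleton_iff
  have hCz : ∀ c y : Y, y ∉ C c → c * y = z * y * c := by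
    intro c y hy
    have h1 : ⁅c, y⁆ = z := by
      apply (hcomm c y).resolve_left
      intro h
      apply hy
      rw [hC]
      rw [commutatorElement_eq_one_iff_mul_comm] at h
      exact h
    rw [← h1, commutatorElement_def]
    group
  have key : ∀ c g h : Y, g ∉ C c → h ∉ C c → g * h⁻¹ ∈ C c := by
    intro c g h hg hh
    rw [hC]
    have h1 := hCz c g hg
    have h2 := hCz c h hh
    have h3 : h * c * h⁻¹ = z⁻¹ * c := by
      calc h * c * h⁻¹ = z⁻¹ * (z * h * c) * h⁻¹ := by group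
        _ = z⁻¹ * (c * h) * h⁻¹ := by rw [h2]
        _ = z⁻¹ * c := by group
    have hzi : ∀ t : Y, t * z⁻¹ = z⁻¹ * t := by
      intro t
      calc t * z⁻¹ = z⁻¹ * (z * t) * z⁻¹ := by group
        _ = z⁻¹ * (t * z) * z⁻¹ := by rw [hz t]
        _ = z⁻¹ * t := by group
    calc c * (g * h⁻¹) = (c * g) * h⁻¹ := by group
      _ = z * g * c * h⁻¹ := by rw [h1]
      _ = z * g * (h⁻¹ * (h * c * h⁻¹)) := by group
      _ = z * g * (h⁻¹ * (z⁻¹ * c)) := by rw [h3]
      _ = z * g * ((h⁻¹ * z⁻¹) * c) := by group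
      _ = z * g * ((z⁻¹ * h⁻¹) * c) := by rw [hzi h⁻¹]
      _ = z * (g * z⁻¹) * (h⁻¹ * c) := by group
      _ = z * (z⁻¹ * g) * (h⁻¹ * c) := by rw [hzi g]
      _ = g * h⁻¹ * c := by group
  have hidx : ∀ c d : Y, d ∉ C c → (C c).index = 2 := by
    intro c d hd
    rw [Subgroup.index_eq_two_iff]
    refine ⟨d, fun y => ?_⟩
    by_cases hy : y ∈ C c
    · right
      refine ⟨hy, fun h => hd ?_⟩
      have := (C c).mul_mem ((C c).inv_mem hy) h
      simpa using this
    · left
      refine ⟨?_, hy⟩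
      have := key c y d⁻¹ hy (fun h => hd (by simpa using (C c).inv_mem h))
      simpa using this
  have hba : a ∉ C b := by
    rw [hC]
    intro h
    apply hab
    rw [commutatorElement_eq_one_iff_mul_comm]
    exact h.symm
  have hab' : b ∉ C a := by
    rw [hC]
    intro h
    apply hab
    rw [commutatorElement_eq_one_iff_mul_comm]
    exact h
  have haa : a ∈ C a := by rw [hC]
  have hbb : b ∈ C b := by rw [hC]
  have hia := hidx a b hab'
  have hib := hidx b a hba
  have hca : Nat.card (C a) = 2 ^ 3 := by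
    have h1 := card_mul_index (C a)
    rw [hia, hY] at h1
    omega
  have hcb : Nat.card (C b) = 2 ^ 3 := by
    have h1 := card_mul_index (C b)
    rw [hib, hY] at h1
    omega
  haveI : (C b).Normal := normal_of_index_eq_two hib
  have hne : C a ≠ C b := fun h => hba (h ▸ haa)
  have hD : Nat.card (C a ⊓ C b : Subgroup Y) = 2 ^ 2 :=
    card_inf_of_ne (e := 2) Nat.prime_two hY hca hcb hne
  have hDcomm : IsMulCommutative (C a ⊓ C b : Subgroup Y) :=
    IsPGroup.isMulCommutative_of_card_eq_prime_sq hD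
  have hrep : ∀ y : Y, ∃ t : Y, (t = 1 ∨ t = a ∨ t = b ∨ t = a * b) ∧ y * t⁻¹ ∈ (C a ⊓ C b) := by
    intro y
    by_cases h1 : y ∈ C a <;> by_cases h2 : y ∈ C b
    · exact ⟨1, Or.inl rfl, by simpa using mem_inf.mpr ⟨h1, h2⟩⟩
    · exact ⟨a, Or.inr (Or.inl rfl), mem_inf.mpr ⟨(C a).mul_mem h1 ((C a).inv_mem haa),
        key b y a h2 hba⟩⟩
    · exact ⟨b, Or.inr (Or.inr (Or.inl rfl)), mem_inf.mpr ⟨key a y b h1 hab',
        (C b).mul_mem h2 ((C b).inv_mem hbb)⟩⟩
    · have h3 : a * b ∉ C a := by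
        intro h
        apply hab'
        have := (C a).mul_mem ((C a).inv_mem haa) h
        simpa using this
      have h4 : a * b ∉ C b := by
        intro h
        apply hba
        have := (C b).mul_mem h ((C b).inv_mem hbb)
        simpa using this
      exact ⟨a * b, Or.inr (Or.inr (Or.inr rfl)), mem_inf.mpr ⟨key a y _ h1 h3, key b y _ h2 h4⟩⟩
  have hDcen : (C a ⊓ C b) ≤ center Y := by
    intro d hd
    rw [mem_center_iff]
    intro y
    obtain ⟨t, ht, hyt⟩ := hrep y
    have hda := (hC a d).mp hd.1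
    have hdb := (hC b d).mp hd.2
    have hdt : t * d = d * t := by
      rcases ht with rfl | rfl | rfl | rfl
      · simp
      · exact hda
      · exact hdb
      · rw [mul_assoc, hdb, ← mul_assoc, hda, mul_assoc]
    have hdy : (y * t⁻¹) * d = d * (y * t⁻¹) :=
      congrArg Subtype.val (hDcomm.is_comm.comm ⟨y * t⁻¹, hyt⟩ ⟨d, hd⟩)
    calc y * d = (y * t⁻¹) * (t * d) := by group
      _ = (y * t⁻¹) * (d * t) := by rw [hdt]
      _ = ((y * t⁻¹) * d) * t := by group
      _ = (d * (y * t⁻¹)) * t := by rw [hdy]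
      _ = d * y := by group
  have hcenD : center Y ≤ (C a ⊓ C b) := by
    intro w hw
    rw [mem_center_iff] at hw
    exact mem_inf.mpr ⟨(hC a w).mpr (hw a), (hC b w).mpr (hw b)⟩
  have hcen : center Y = C a ⊓ C b := le_antisymm hcenD hDcen
  have hZc : Nat.card (center Y) = 2 ^ 2 := by rw [hcen, hD]
  have hNc : Nat.card N = 2 ^ 3 := by
    have h1 := card_mul_index N
    rw [hN, hY] at h1
    omega
  constructor
  · intro hNab
    by_contra hnot
    obtain ⟨w, hw, hwN⟩ := SetLike.not_le_iff_exists.mp hnot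
    have hw' := mem_center_iff.mp hw
    have hdecomp : ∀ y : Y, ∃ n ∈ N, ∃ v : Y, (∀ g : Y, g * v = v * g) ∧ y = v * n := by
      intro y
      by_cases hy : y ∈ N
      · exact ⟨y, hy, 1, by simp, by simp⟩
      · refine ⟨w * y, ?_, w⁻¹, ?_, by group⟩
        · rw [Subgroup.mul_mem_iff_of_index_two hN]
          simp [hwN, hy]
        · intro g
          calc g * w⁻¹ = w⁻¹ * (w * g) * w⁻¹ := by group
            _ = w⁻¹ * (g * w) * w⁻¹ := by rw [hw' g]
            _ = w⁻¹ * g := by group
    obtain ⟨n₁, hn₁, v₁, hv₁, h1⟩ := hdecomp a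
    obtain ⟨n₂, hn₂, v₂, hv₂, h2⟩ := hdecomp b
    apply hab
    rw [commutatorElement_eq_one_iff_mul_comm, h1, h2]
    calc v₁ * n₁ * (v₂ * n₂) = v₁ * (n₁ * v₂) * n₂ := by group
      _ = v₁ * (v₂ * n₁) * n₂ := by rw [hv₂ n₁]
      _ = (v₁ * v₂) * (n₁ * n₂) := by group
      _ = (v₂ * v₁) * (n₂ * n₁) := by rw [hv₁ v₂, hNab n₁ hn₁ n₂ hn₂]
      _ = v₂ * (v₁ * n₂) * n₁ := by group
      _ = v₂ * (n₂ * v₁) * n₁ := by rw [hv₁ n₂]
      _ = v₂ * n₂ * (v₁ * n₁) := by group
  · intro hZN c hc d hd
    by_cases hcZ : c ∈ center Y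
    · exact (mem_center_iff.mp hcZ d).symm
    by_cases hdZ : d ∈ center Y
    · exact (mem_center_iff.mp hdZ c)
    let Z' : Subgroup N := (center Y).subgroupOf N
    have hZ'c : Nat.card Z' = 2 ^ 2 := by
      rw [← hZc]
      exact Nat.card_congr (Subgroup.subgroupOfEquivOfLe hZN).toEquiv
    have hZ'i : Z'.index = 2 := by
      have h1 := card_mul_index Z'
      rw [hZ'c, hNc] at h1
      omega
    have h2 : (⟨c, hc⟩ : N)⁻¹ * ⟨d, hd⟩ ∈ Z' := by
      rw [Subgroup.mul_mem_iff_of_index_two hZ'i]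
      simp [Z', Subgroup.mem_subgroupOf, hcZ, hdZ]
    have h3 : c⁻¹ * d ∈ center Y := h2
    have h4 := mem_center_iff.mp h3 c
    have h5 : d = c⁻¹ * d * c := by rwa [mul_inv_cancel_left] at h4
    calc c * d = c * (c⁻¹ * d * c) := congrArg (c * ·) h5
      _ = d * c := by group

end order16

theorem index_ne_one_two {p : ℕ} [hp : Fact p.Prime] (hG : IsPGroup p X) (hnc : ¬ IsCyclic X) :
    (commutator X).index ≠ 1 ∧ (commutator X).index ≠ p := by
  constructor
  · intro h
    have h6 : Nat.card (X ⧸ commutator X) = 1 := by rw [← index_eq_card]; exact h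
    haveI : Subsingleton (X ⧸ commutator X) := (Nat.card_eq_one_iff_unique.mp h6).1
    exact hnc (isCyclic_of_isCyclic_abelianization hG (isCyclic_of_subsingleton))
  · intro h
    have h6 : Nat.card (X ⧸ commutator X) = p := by rw [← index_eq_card]; exact h
    exact hnc (isCyclic_of_isCyclic_abelianization hG (isCyclic_of_prime_card h6))

/-- In a `2`-group not of maximal class, the number of maximal subgroups of maximal class is even. -/
theorem even_maxclass {u : ℕ} (hXc : Nat.card X = 2 ^ (u + 4)) (hnc : ¬ IsCyclic X)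
    (h4 : (commutator X).index ≠ 4) (M₀ : Subgroup X) (hM₀ : M₀.index = 2)
    (hM₀4 : (commutator M₀).index = 4) :
    2 ∣ (sset fun N : Subgroup X => N.index = 2 ∧ (commutator N).index = 4).card := by
  classical
  haveI : Fact (Nat.Prime 2) := ⟨Nat.prime_two⟩
  have hG : IsPGroup 2 X := IsPGroup.of_card hXc
  have hcardN : ∀ N : Subgroup X, N.index = 2 →
      Nat.card (⁅N, N⁆ : Subgroup X) * (commutator N).index = 2 ^ (u + 3) := by
    intro N hN
    have h1 : Nat.card (⁅N, N⁆ : Subgroup X) = Nat.card (commutator N) := by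
      rw [← Subgroup.map_subtype_commutator,
        Subgroup.card_map_of_injective (f := N.subtype) N.subtype_injective]
    have h2 := card_mul_index (commutator N)
    rw [h1, h2]
    have h3 := card_mul_index N
    rw [hN, hXc, pow_succ 2 (u + 3)] at h3
    exact Nat.eq_of_mul_eq_mul_right (by norm_num) h3
  have hle : ∀ N : Subgroup X, (⁅N, N⁆ : Subgroup X) ≤ commutator X := fun N =>
    Subgroup.commutator_mono le_top le_top
  have hD₀ : Nat.card (⁅M₀, M₀⁆ : Subgroup X) = 2 ^ (u + 1) := by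
    have h1 := hcardN M₀ hM₀
    rw [hM₀4, pow_add] at h1
    rw [pow_add]
    omega
  -- the commutator subgroup
  have hWc : Nat.card (commutator X) = 2 ^ (u + 1) := by
    have h1 := card_mul_index (commutator X)
    obtain ⟨c, hc⟩ := Subgroup.card_dvd_of_le (hle M₀)
    rw [hD₀] at hc
    rw [hc, hXc, pow_add, mul_assoc] at h1
    rw [show u + 4 = (u + 1) + 3 by ring] at h1
    have h3 : (2 ^ (u + 1)) * (c * (commutator X).index) = 2 ^ (u + 1) * 2 ^ 3 := by
      rw [← pow_add, ← h1, pow_add, pow_one, mul_assoc]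
    have h5 : c * (commutator X).index = 8 := Nat.eq_of_mul_eq_mul_left (pow_pos (by norm_num) _) h3
    obtain ⟨h6, h7⟩ := index_ne_one_two (p := 2) hG hnc
    have h8 : (commutator X).index ∣ 8 := ⟨c, by rw [← h5]; ring⟩
    have h9 : (commutator X).index ≤ 8 := Nat.le_of_dvd (by norm_num) h8
    have h10 : (commutator X).index = 8 := by
      interval_cases hi : (commutator X).index <;> first | omega | skip
    rw [h10] at h5
    have h11 : c = 1 := by omega
    rw [hc, h11, mul_one]
  have hWD : (⁅M₀, M₀⁆ : Subgroup X) = commutator X :=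
    Subgroup.eq_of_le_of_card_ge (hle M₀) (by rw [hD₀, hWc])
  -- the commutator subgroup is cyclic
  obtain ⟨a, ha⟩ := exists_zpowers_index_two (u + 3) (X := M₀) (by
    have h3 := card_mul_index M₀
    rw [hM₀, hXc, pow_succ 2 (u + 3)] at h3
    exact Nat.eq_of_mul_eq_mul_right (by norm_num) h3) hM₀4
  haveI : (zpowers a).Normal := normal_of_index_eq_two ha
  have hleA : commutator M₀ ≤ zpowers a :=
    commutator_le_of_isCyclic_quotient (isCyclic_of_prime_card (p := 2) (by
      rw [← index_eq_card, ha]))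
  have hWA : commutator X ≤ zpowers (a : X) := by
    rw [← hWD, ← Subgroup.map_subtype_commutator]
    have h1 := Subgroup.map_mono (f := M₀.subtype) hleA
    rwa [MonoidHom.map_zpowers] at h1
  haveI hWcyc : IsCyclic (commutator X) :=
    isCyclic_of_injective (Subgroup.inclusion hWA) (Subgroup.inclusion_injective hWA)
  obtain ⟨w₀, hw₀⟩ := hWcyc.exists_generator
  obtain ⟨w, hwW, hWw⟩ : ∃ w : X, w ∈ commutator X ∧ commutator X = zpowers w := by
    refine ⟨w₀.1, w₀.2, ?_⟩
    apply le_antisymm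
    · intro y hy
      obtain ⟨k, hk⟩ := mem_zpowers_iff.mp (hw₀ ⟨y, hy⟩)
      refine mem_zpowers_iff.mpr ⟨k, ?_⟩
      have := congrArg Subtype.val hk
      simpa using this
    · exact zpowers_le.mpr w₀.2
  have hwo : orderOf w = 2 ^ (u + 1) := by rw [← hWc, hWw, Nat.card_zpowers]
  have hw2o : orderOf (w ^ 2) = 2 ^ u := by
    rw [orderOf_pow' _ (by norm_num), hwo, Nat.gcd_eq_right (dvd_pow_self 2 (by omega))]
    rw [pow_succ]
    simp
  set K : Subgroup X := zpowers (w ^ 2) with hK
  have hKc : Nat.card K = 2 ^ u := by rw [hK, Nat.card_zpowers, hw2o]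
  haveI hKn : K.Normal := by
    refine ⟨fun n hn g => ?_⟩
    obtain ⟨i, rfl⟩ := mem_zpowers_iff.mp hn
    rw [← conj_zpow]
    apply zpow_mem
    rw [← conj_pow]
    have h1 : g * w * g⁻¹ ∈ zpowers w := by
      rw [← hWw]
      exact (inferInstance : (commutator X).Normal).conj_mem w hwW g
    obtain ⟨t, ht⟩ := mem_zpowers_iff.mp h1
    rw [← ht, ← zpow_natCast, ← zpow_mul, mul_comm, zpow_mul, zpow_natCast]
    exact zpow_mem (mem_zpowers _) _
  have hKW : K ≤ commutator X := zpowers_le.mpr (pow_mem hwW 2)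
  have hwK : w ∉ K := by
    intro h
    have h1 : zpowers w ≤ K := zpowers_le.mpr h
    have h2 := Nat.card_mono (Set.toFinite _) h1
    simp only [SetLike.coe_sort_coe] at h2
    rw [Nat.card_zpowers, hwo, hKc] at h2
    have := (Nat.pow_le_pow_iff_right (by norm_num : 1 < 2)).mp h2
    omega
  set π := QuotientGroup.mk' K with hπ
  have hπs : Function.Surjective π := QuotientGroup.mk'_surjective K
  have hπk : π.ker = K := QuotientGroup.ker_mk' K
  have hπ1 : ∀ g : X, π g = 1 ↔ g ∈ K := fun g => by rw [← MonoidHom.mem_ker, hπk]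
  have hY : Nat.card (X ⧸ K) = 2 ^ 4 := by
    have h1 := Subgroup.card_eq_card_quotient_mul_card_subgroup K
    rw [hXc, hKc] at h1
    have h2 : 2 ^ 4 * 2 ^ u = Nat.card (X ⧸ K) * 2 ^ u := by rw [← h1]; ring
    exact (Nat.eq_of_mul_eq_mul_right (pow_pos (by norm_num) _) h2).symm
  have hcomm : ∀ c d : X ⧸ K, ⁅c, d⁆ = 1 ∨ ⁅c, d⁆ = π w := by
    intro c d
    obtain ⟨g, rfl⟩ := hπs c
    obtain ⟨h, rfl⟩ := hπs d
    rw [← map_commutatorElement]
    have h1 : ⁅g, h⁆ ∈ zpowers w := by
      rw [← hWw]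
      exact Subgroup.commutator_mem_commutator (mem_top _) (mem_top _)
    obtain ⟨i, hi⟩ := mem_zpowers_iff.mp h1
    rw [← hi]
    rcases Int.even_or_odd' i with ⟨j, rfl | rfl⟩
    · left
      rw [hπ1, zpow_mul]
      have : w ^ (2 : ℤ) = w ^ 2 := by rw [zpow_ofNat]
      rw [this]
      exact zpow_mem (mem_zpowers _) _
    · right
      rw [zpow_add_one, zpow_mul, map_mul]
      have h2 : π ((w ^ (2 : ℤ)) ^ j) = 1 := by
        rw [hπ1]
        have : w ^ (2 : ℤ) = w ^ 2 := by rw [zpow_ofNat]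
        rw [this]
        exact zpow_mem (mem_zpowers _) _
      rw [h2, one_mul]
  obtain ⟨g₀, h₀, hgh⟩ : ∃ g h : X, ⁅g, h⁆ ∉ K := by
    by_contra hall
    apply hwK
    have h1 : commutator X ≤ K := by
      rw [_root_.commutator_def, Subgroup.commutator_le]
      intro g _ h _
      by_contra hn
      exact hall ⟨g, h, hn⟩
    exact h1 hwW
  have hab : ⁅π g₀, π h₀⁆ ≠ 1 := by
    rw [← map_commutatorElement]
    intro h
    exact hgh ((hπ1 _).mp h)
  set Zt : Subgroup X := (center (X ⧸ K)).comap π with hZt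
  have hkey : ∀ N : Subgroup X, N.index = 2 → ((commutator N).index = 4 ↔ ¬ Zt ≤ N) := by
    intro N hN
    have hKN : K ≤ N :=
      hKW.trans ((commutator_le_frattini hG).trans (frattini_le_of_index Nat.prime_two hN))
    have hker : π.ker ≤ N := by rw [hπk]; exact hKN
    have hNb : (N.map π).index = 2 := by rw [Subgroup.index_map_eq _ hπs hker, hN]
    have hY' := center_of_order16 hY hcomm hab (N.map π) hNb
    have hA : center (X ⧸ K) ≤ N.map π ↔ Zt ≤ N := by
      constructor
      · intro h g hg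
        obtain ⟨n, hn, hng⟩ := h (hg : π g ∈ center (X ⧸ K))
        have h1 : n⁻¹ * g ∈ K := by
          rw [← hπ1, map_mul, map_inv, hng, inv_mul_cancel]
        have := N.mul_mem hn (hKN h1)
        simpa using this
      · intro h c hc
        obtain ⟨g, rfl⟩ := hπs c
        exact ⟨g, h hc, rfl⟩
    have hB : (∀ c ∈ N.map π, ∀ d ∈ N.map π, c * d = d * c) ↔ (⁅N, N⁆ : Subgroup X) ≤ K := by
      constructor
      · intro h
        rw [Subgroup.commutator_le]
        intro g₁ hg₁ g₂ hg₂
        rw [← hπ1, map_commutatorElement, commutatorElement_eq_one_iff_mul_comm]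
        exact h _ ⟨g₁, hg₁, rfl⟩ _ ⟨g₂, hg₂, rfl⟩
      · rintro h _ ⟨g₁, hg₁, rfl⟩ _ ⟨g₂, hg₂, rfl⟩
        have h1 := Subgroup.commutator_le.mp h g₁ hg₁ g₂ hg₂
        rw [← hπ1, map_commutatorElement, commutatorElement_eq_one_iff_mul_comm] at h1
        exact h1
    have hC : (⁅N, N⁆ : Subgroup X) ≤ K ↔ (commutator N).index ≠ 4 := by
      have hc := hcardN N hN
      constructor
      · intro h hi
        rw [hi] at hc
        have h1 : Nat.card (⁅N, N⁆ : Subgroup X) = 2 ^ (u + 1) := by
          rw [pow_add] at hc ⊢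
          omega
        have h2 : (⁅N, N⁆ : Subgroup X) = commutator X :=
          Subgroup.eq_of_le_of_card_ge (hle N) (by rw [h1, hWc])
        exact hwK (h (h2 ▸ hwW))
      · intro hi n hn
        have hnW : n ∈ zpowers w := hWw ▸ hle N hn
        have hc' : n ∈ Submonoid.powers w := mem_powers_iff_mem_zpowers.mpr hnW
        obtain ⟨i, rfl⟩ := (Submonoid.mem_powers_iff _ _).mp hc'
        by_cases h2 : 2 ∣ i
        · obtain ⟨j, rfl⟩ := h2
          rw [pow_mul]
          exact pow_mem (mem_zpowers _) _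
        · exfalso
          apply hi
          have hcop : i.Coprime (orderOf w) := by
            rw [hwo]
            apply Nat.Coprime.pow_right
            exact ((Nat.Prime.coprime_iff_not_dvd Nat.prime_two).mpr h2).symm
          obtain ⟨m, hm⟩ := exists_pow_eq_self_of_coprime hcop
          have hwN : w ∈ (⁅N, N⁆ : Subgroup X) := by
            rw [← hm]
            exact pow_mem hn m
          have h3 : commutator X ≤ ⁅N, N⁆ := by
            rw [hWw]
            exact zpowers_le.mpr hwN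
          have h4' : (⁅N, N⁆ : Subgroup X) = commutator X := le_antisymm (hle N) h3
          rw [h4', hWc] at hc
          have h5 : 2 ^ (u + 1) * (commutator N).index = 2 ^ (u + 1) * 2 ^ 2 := by
            rw [hc]; ring
          have h6 := Nat.eq_of_mul_eq_mul_left (pow_pos (by norm_num) _) h5
          rw [h6]; norm_num
    rw [← hA, ← hY', hB, hC]
    tauto
  -- counting
  have hA := over_modEq_one Nat.prime_two hG (⊥ : Subgroup X) (by
    intro h
    have h1 := Subgroup.card_bot (G := X)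
    rw [h, Subgroup.card_top, hXc] at h1
    have h6 : 2 ^ (u + 4) = 16 * 2 ^ u := by ring
    have h7 : 1 ≤ 2 ^ u := Nat.one_le_two_pow
    omega)
  have hB := over_modEq_one Nat.prime_two hG Zt (by
    intro h
    apply hab
    have h1 : g₀ ∈ Zt := h ▸ mem_top g₀
    have h2 : π g₀ ∈ center (X ⧸ K) := h1
    rw [commutatorElement_eq_one_iff_mul_comm]
    exact (mem_center_iff.mp h2 (π h₀)).symm)
  rw [h₁_bot] at hA
  unfold h₁ at hB
  set A := sset fun M : Subgroup X => M.index = 2 with hAd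
  set B := sset fun M : Subgroup X => M.index = 2 ∧ Zt ≤ M with hBd
  have hsub : B ⊆ A := by
    intro M hM
    simp only [hBd, hAd, mem_sset] at hM ⊢
    exact hM.1
  have hE : (sset fun N : Subgroup X => N.index = 2 ∧ (commutator N).index = 4) = A \ B := by
    ext N
    simp only [hBd, hAd, mem_sset, Finset.mem_sdiff]
    constructor
    · rintro ⟨h1, h2⟩
      refine ⟨h1, fun h3 => (hkey N h1).mp h2 h3.2⟩
    · rintro ⟨h1, h2⟩
      exact ⟨h1, (hkey N h1).mpr fun h3 => h2 ⟨h1, h3⟩⟩
  rw [hE, Finset.card_sdiff_of_subset hsub]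
  have hcard := Finset.card_le_card hsub
  unfold Nat.ModEq at hA hB
  omega

theorem arith_aux {p c S e f z t : ℕ} (h1 : S ≡ c + p [MOD p ^ 2])
    (h2 : S ≡ e + f * (1 + p) [MOD p ^ 2]) (h3 : e + f = z) (h4 : z ≡ 1 + p [MOD p ^ 2])
    (h5 : e = p * t) : c ≡ 1 + p [MOD p ^ 2] := by
  have h1' := (Nat.modEq_iff_dvd.mp h1)
  have h2' := (Nat.modEq_iff_dvd.mp h2)
  have h4' := (Nat.modEq_iff_dvd.mp h4)
  apply (Nat.modEq_iff_dvd).mpr
  obtain ⟨a, ha⟩ := h1'
  obtain ⟨b, hb⟩ := h2'
  obtain ⟨d, hd⟩ := h4'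
  have hf : (f : ℤ) = z - e := by
    rw [← h3]; push_cast; ring
  have he : (e : ℤ) = p * t := by rw [h5]; push_cast; ring
  push_cast at ha hb hd ⊢
  refine ⟨d * (1 + p) + t + b - a - 1, ?_⟩
  rw [hf] at hb
  rw [he] at hb
  linear_combination ha * (-1) + hb + (1 + (p : ℤ)) * hd

universe u'

/-- **Kulakoff's theorem** (with Berkovich's extension to `p = 2`). -/
theorem kulakoff {p : ℕ} [hp : Fact p.Prime] (m : ℕ) : ∀ (G : Type u') [Group G] [Finite G],
    Nat.card G = p ^ m → ¬ IsCyclic G → (p = 2 → (commutator G).index ≠ 4) →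
    ∀ k : ℕ, 1 ≤ k → k < m → cnt G (p ^ k) ≡ 1 + p [MOD p ^ 2] := by
  induction m using Nat.strong_induction_on with
  | _ m ih =>
    intro G _ _ hGc hnc h2 k hk1 hkm
    classical
    have hpp := hp.out
    have hG : IsPGroup p G := IsPGroup.of_card hGc
    rcases Nat.lt_or_ge (k + 1) m with hkm' | hkm'
    swap
    · obtain rfl : m = k + 1 := by omega
      rw [cnt_max hpp hGc]
      exact (mx_count hpp hG hnc).1
    obtain ⟨n, rfl⟩ : ∃ n, m = n + 3 := ⟨m - 3, by omega⟩
    have henum := enum hpp hGc hnc k (by omega)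
    have hmx := (mx_count hpp hG hnc).1
    rw [h₁_bot] at hmx
    set Z := sset fun M : Subgroup G => M.index = p with hZ
    have hZmem : ∀ {M : Subgroup G}, M ∈ Z ↔ M.index = p := by
      intro M; simp [hZ]
    have hcardM : ∀ {M : Subgroup G}, M.index = p → Nat.card M = p ^ (n + 2) := by
      intro M hM
      have h1 := card_mul_index M
      rw [hM, hGc, pow_succ p (n + 2)] at h1
      exact Nat.eq_of_mul_eq_mul_right hpp.pos h1
    set P : Subgroup G → Prop := fun M =>
      IsCyclic M ∨ (p = 2 ∧ (commutator M).index = 4 ∧ k + 3 ≤ n + 3) with hP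
    set Ex := Z.filter P with hEx
    have hvalE : ∀ M ∈ Ex, cnt M (p ^ k) ≡ 1 [MOD p ^ 2] := by
      intro M hM
      obtain ⟨hMZ, hMP⟩ := Finset.mem_filter.mp hM
      have hMi := hZmem.mp hMZ
      have hMc := hcardM hMi
      rcases hMP with hcyc | ⟨rfl, h4, hk3⟩
      · have : cnt M (p ^ k) = 1 := by
          apply Cfsg.Agent.S3975.card_subgroups_cyclic hpp
          rw [hMc]
          exact pow_dvd_pow _ (by omega)
        rw [this]
      · exact maxclass_count (n + 2) M hMc (by omega) h4 k hk1 (by omega)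
    have hvalN : ∀ M ∈ Z.filter (fun M => ¬ P M), cnt M (p ^ k) ≡ 1 + p [MOD p ^ 2] := by
      intro M hM
      obtain ⟨hMZ, hMP⟩ := Finset.mem_filter.mp hM
      have hMi := hZmem.mp hMZ
      have hMc := hcardM hMi
      have hMnc : ¬ IsCyclic M := fun h => hMP (Or.inl h)
      by_cases hcase : p = 2 ∧ (commutator M).index = 4
      · obtain ⟨rfl, h4⟩ := hcase
        have hk3 : ¬ k + 3 ≤ n + 3 := fun h => hMP (Or.inr ⟨rfl, h4, h⟩)
        obtain rfl : n = k - 1 + 0 := by omega
        have h5 : k - 1 + 0 + 2 = k + 1 := by omega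
        rw [h5] at hMc
        rw [cnt_max hpp hMc]
        exact (mx_count hpp (IsPGroup.of_card hMc) hMnc).1
      · exact ih (n + 2) (by omega) M hMc hMnc (fun hp2 h4 => hcase ⟨hp2, h4⟩) k hk1 (by omega)
    have hsum := Finset.sum_filter_add_sum_filter_not Z P (fun M => cnt M (p ^ k))
    have hs1 : ∑ M ∈ Z.filter P, cnt M (p ^ k) ≡ ∑ M ∈ Z.filter P, 1 [MOD p ^ 2] :=
      sum_modEq _ _ _ _ hvalE
    have hs2 : ∑ M ∈ Z.filter (fun M => ¬ P M), cnt M (p ^ k) ≡
        ∑ M ∈ Z.filter (fun M => ¬ P M), (1 + p) [MOD p ^ 2] :=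
      sum_modEq _ _ _ _ hvalN
    simp only [Finset.sum_const, smul_eq_mul, mul_one] at hs1 hs2
    have hS : ∑ M ∈ Z, cnt M (p ^ k) ≡ Ex.card + (Z.filter (fun M => ¬ P M)).card * (1 + p) [MOD p ^ 2] := by
      rw [← hsum]
      exact hs1.add hs2
    have hcards : Ex.card + (Z.filter (fun M => ¬ P M)).card = Z.card :=
      Finset.card_filter_add_card_filter_not P
    -- the exceptional set has size divisible by `p`
    have hdvd : p ∣ Ex.card := by
      by_cases hcyc : ∃ C ∈ Z, IsCyclic C
      · obtain ⟨C, hCZ, hC⟩ := hcyc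
        obtain ⟨M₁, hM₁, hM₁nc, hMall, hM₁4⟩ := cyclic_maximal hGc hnc h2 C hC (hZmem.mp hCZ)
        have hM₁Z : M₁ ∈ Z := hZmem.mpr hM₁
        have hE : Ex = Z.erase M₁ := by
          ext M
          simp only [hEx, Finset.mem_filter, Finset.mem_erase]
          constructor
          · rintro ⟨h3, h5⟩
            refine ⟨?_, h3⟩
            rintro rfl
            rcases h5 with h5 | ⟨hp2, h4, hk3⟩
            · exact hM₁nc h5
            · exact hM₁4 hp2 (by omega) h4
          · rintro ⟨h3, h5⟩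
            exact ⟨h5, Or.inl (hMall M (hZmem.mp h5) h3)⟩
        rw [hE, Finset.card_erase_of_mem hM₁Z]
        have hpos : 0 < Z.card := Finset.card_pos.mpr ⟨_, hM₁Z⟩
        have h5 : Z.card ≡ 1 [MOD p] := by
          have h6 : p ^ 1 ∣ p ^ 2 := pow_dvd_pow _ (by norm_num)
          rw [pow_one] at h6
          refine (hmx.of_dvd h6).trans ?_
          have : 1 + p ≡ 1 + 0 [MOD p] := by
            apply Nat.ModEq.add_left
            rw [Nat.modEq_zero_iff_dvd]
          exact this
        exact (Nat.modEq_iff_dvd' hpos).mp h5.symm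
      · by_cases hcase : p = 2 ∧ k + 3 ≤ n + 3
        · obtain ⟨rfl, hk3⟩ := hcase
          obtain ⟨u, rfl⟩ : ∃ u, n = u + 1 := ⟨n - 1, by omega⟩
          by_cases hne : ∃ M₀ ∈ Z, (commutator M₀).index = 4
          · obtain ⟨M₀, hM₀, hM₀4⟩ := hne
            have h5 := even_maxclass (u := u) hGc hnc (h2 rfl) M₀ (hZmem.mp hM₀) hM₀4
            have hE : Ex = sset fun N : Subgroup G => N.index = 2 ∧ (commutator N).index = 4 := by
              ext M
              simp only [hEx, Finset.mem_filter, mem_sset, hZmem]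
              constructor
              · rintro ⟨h3, h6⟩
                rcases h6 with h6 | ⟨_, h6, _⟩
                · exact absurd ⟨M, hZmem.mpr h3, h6⟩ hcyc
                · exact ⟨h3, h6⟩
              · rintro ⟨h3, h6⟩
                exact ⟨h3, Or.inr ⟨rfl, h6, hk3⟩⟩
            rw [hE]
            exact h5
          · have hE : Ex = ∅ := by
              rw [Finset.eq_empty_iff_forall_notMem]
              intro M hM
              obtain ⟨h3, h6⟩ := Finset.mem_filter.mp hM
              rcases h6 with h6 | ⟨_, h6, _⟩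
              · exact hcyc ⟨M, h3, h6⟩
              · exact hne ⟨M, h3, h6⟩
            rw [hE]
            simp
        · have hE : Ex = ∅ := by
            rw [Finset.eq_empty_iff_forall_notMem]
            intro M hM
            obtain ⟨h3, h6⟩ := Finset.mem_filter.mp hM
            rcases h6 with h6 | ⟨h7, _, h8⟩
            · exact hcyc ⟨M, h3, h6⟩
            · exact hcase ⟨h7, h8⟩
          rw [hE]
          simp
    obtain ⟨t, ht⟩ := hdvd
    exact arith_aux henum hS hcards hmx ht

end Cfsg.Agent.Lib.FG7.KulakoffB
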