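import Mathlib
import Cfsg.Agent.Lib.Regular.Basic

/-!
# Regular `p`-groups: `x^q = y^q ↔ (x⁻¹ y)^q = 1`
-/

set_option autoImplicit false

namespace Cfsg.Agent.Lib.FG7.RegularOmega

open Cfsg Subgroup Cfsg.Agent.Lib.Regular.Basic Cfsg.Agent.Lib.PGroups.Basic
open scoped commutatorElement

universe u

theorem eq_one_of_mem_powerClosure {p : ℕ} {X : Type*} [Group X] {n : ℕ} {K : Subgroup X}
    (h : ∀ w ∈ K, w ^ (p ^ n) = 1) {c : X} (hc : c ∈ powerClosure p n K) : c = 1 := by
  have : powerClosure p n K ≤ ⊥ := by
    unfold powerClosure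
    rw [closure_le]
    rintro y ⟨x, hx, rfl⟩
    exact h x hx
  simpa using this hc

/-- Generated by two elements which commute mod `N`: derived subgroup inside `N`. -/
theorem commutator_le_of_pair {X : Type*} [Group X] (N : Subgroup X) [N.Normal] {a b : X}
    (hgen : closure ({a, b} : Set X) = ⊤) (hab : a⁻¹ * (b⁻¹ * a * b) ∈ N) : _root_.commutator X ≤ N := by
  let f := QuotientGroup.mk' N
  have hf : Function.Surjective f := QuotientGroup.mk'_surjective N
  have hcomm : f a * f b = f b * f a := by
    have h1 : f (a⁻¹ * (b⁻¹ * a * b)) = 1 := (QuotientGroup.eq_one_iff _).mpr hab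
    simp only [map_mul, map_inv] at h1
    have h2 : (f a)⁻¹ * ((f b)⁻¹ * f a * f b) = 1 := h1
    have h3 : (f b)⁻¹ * f a * f b = f a := by
      have := congrArg (fun z => f a * z) h2
      simpa using this
    calc f a * f b = f b * ((f b)⁻¹ * f a * f b) := by group
      _ = f b * f a := by rw [h3]
  have hmap : closure ({f a, f b} : Set (X ⧸ N)) = ⊤ := by
    have := congrArg (Subgroup.map f) hgen
    rw [MonoidHom.map_closure, Set.image_pair] at this
    rw [this, ← MonoidHom.range_eq_map]
    exact MonoidHom.range_eq_top.mpr hf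
  -- the quotient is commutative
  have hz : closure ({f a, f b} : Set (X ⧸ N)) ≤ center (X ⧸ N) := by
    rw [closure_le]
    have hC : (⊤ : Subgroup (X ⧸ N)) ≤ centralizer ({f a, f b} : Set (X ⧸ N)) := by
      rw [← hmap, closure_le]
      rintro z (rfl | rfl) w (rfl | rfl)
      · rfl
      · exact hcomm.symm
      · exact hcomm
      · rfl
    rintro z (rfl | rfl)
    · rw [SetLike.mem_coe, mem_center_iff]
      intro g
      have := hC (mem_top g) (f a) (by simp)
      exact this.symm ▸ rfl
    · rw [SetLike.mem_coe, mem_center_iff]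
      intro g
      have := hC (mem_top g) (f b) (by simp)
      exact this.symm ▸ rfl
  rw [hmap] at hz
  have hcomm2 : ∀ u v : X ⧸ N, u * v = v * u := fun u v => (mem_center_iff.mp (hz (mem_top u))) v |>.symm
  rw [_root_.commutator_def, commutator_le]
  intro g _ h _
  rw [← QuotientGroup.eq_one_iff]
  show f ⁅g, h⁆ = 1
  rw [map_commutatorElement, commutatorElement_eq_one_iff_mul_comm]
  exact hcomm2 _ _

variable {p : ℕ} [hp : Fact p.Prime]

/-- The main theorem on `q`-th powers in a finite `p`-group with the `n`-th regularity condition. -/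
theorem pow_eq_iff_aux {n : ℕ} (N : ℕ) : ∀ (X : Type u) [Group X] [Finite X], Nat.card X = N →
    IsPGroup p X → RegN p n X → ∀ x y : X, (x⁻¹ * y) ^ (p ^ n) = 1 ↔ x ^ (p ^ n) = y ^ (p ^ n) := by
  induction N using Nat.strong_induction_on with
  | _ N ih =>
  intro X _ _ hN hX hR
  set q := p ^ n with hq
  -- the induction hypothesis on proper subgroups
  have hsub : ∀ L : Subgroup X, L ≠ ⊤ → ∀ u ∈ L, ∀ v ∈ L, ((u⁻¹ * v) ^ q = 1 ↔ u ^ q = v ^ q) := by
    intro L hL u hu v hv
    have hlt : Nat.card L < N := by
      have h1 : 1 < L.index := one_lt_index_of_ne_top hL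
      have h2 := card_mul_index L
      have h3 : 0 < Nat.card L := Nat.card_pos
      rw [← hN, ← h2]
      nlinarith
    have := ih _ hlt L rfl (hX.to_subgroup L) (hR.subgroup L) ⟨u, hu⟩ ⟨v, hv⟩
    simpa [Subtype.ext_iff] using this
  -- products in proper subgroups
  have hmul : ∀ L : Subgroup X, L ≠ ⊤ → ∀ u ∈ L, ∀ v ∈ L, u ^ q = 1 → v ^ q = 1 → (u * v) ^ q = 1 := by
    intro L hL u hu v hv huq hvq
    have := (hsub L hL u⁻¹ (L.inv_mem hu) v hv).mpr (by rw [inv_pow, huq, hvq, inv_one])
    simpa using this
  have hclos : ∀ L : Subgroup X, L ≠ ⊤ → ∀ S : Set X, S ⊆ L → (∀ s ∈ S, s ^ q = 1) →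
      ∀ z ∈ closure S, z ^ q = 1 := by
    intro L hL S hSL hS z hz
    have hle : closure S ≤ L := (closure_le _).mpr hSL
    induction hz using closure_induction with
    | mem x hx => exact hS x hx
    | one => simp
    | mul a b ha hb iha ihb => exact hmul L hL a (hle ha) b (hle hb) iha ihb
    | inv a _ iha => rw [inv_pow, iha, inv_one]
  -- conjugates in a normal closure
  have hnc : ∀ (L : Subgroup X), L.Normal → L ≠ ⊤ → ∀ r ∈ L, r ^ q = 1 →
      ∀ z ∈ normalClosure ({r} : Set X), z ^ q = 1 := by
    intro L hLn hL r hrL hr z hz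
    refine hclos L hL (Group.conjugatesOfSet {r}) ?_ ?_ z hz
    · intro s hs
      obtain ⟨b, hb, hbs⟩ := Group.mem_conjugatesOfSet_iff.mp hs
      rw [Set.mem_singleton_iff] at hb
      subst hb
      obtain ⟨g, rfl⟩ := isConj_iff.mp hbs
      exact hLn.conj_mem _ hrL g
    · intro s hs
      obtain ⟨b, hb, hbs⟩ := Group.mem_conjugatesOfSet_iff.mp hs
      rw [Set.mem_singleton_iff] at hb
      subst hb
      obtain ⟨g, rfl⟩ := isConj_iff.mp hbs
      rw [conj_pow, hr]
      simp
  -- a proper normal subgroup containing a non-generator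
  have hcoatom : ∀ a : X, closure ({a} : Set X) ≠ ⊤ → ∃ M : Subgroup X, M.Normal ∧ M ≠ ⊤ ∧ a ∈ M := by
    intro a ha
    obtain ⟨M, hM, hle⟩ := (eq_top_or_exists_le_coatom _).resolve_left ha
    exact ⟨M, normal_of_isCoatom hX hM, hM.1, hle (subset_closure rfl)⟩
  have hcomm_of_cyclic : ∀ a : X, closure ({a} : Set X) = ⊤ → ∀ u v : X, u * v = v * u := by
    intro a ha u v
    have hu : u ∈ zpowers a := by
      rw [zpowers_eq_closure, ha]; trivial
    have hv : v ∈ zpowers a := by
      rw [zpowers_eq_closure, ha]; trivial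
    obtain ⟨i, rfl⟩ := mem_zpowers_iff.mp hu
    obtain ⟨j, rfl⟩ := mem_zpowers_iff.mp hv
    exact zpow_mul_comm a i j
  -- step 1: a central `q`-th power gives a `q`-th power trivial commutator
  have hstep1 : ∀ a b : X, a ^ q * b = b * a ^ q → (a⁻¹ * (b⁻¹ * a * b)) ^ q = 1 := by
    intro a b hab
    by_cases hc : closure ({a} : Set X) = ⊤
    · have := hcomm_of_cyclic a hc a b
      have h2 : b⁻¹ * a * b = a := by rw [mul_assoc, this, inv_mul_cancel_left]
      rw [h2]
      simp
    · obtain ⟨M, hMn, hM, haM⟩ := hcoatom a hc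
      have h1 : b⁻¹ * a * b ∈ M := by
        have := hMn.conj_mem a haM b⁻¹
        simpa using this
      refine (hsub M hM a haM _ h1).mpr ?_
      have h2 : (b⁻¹ * a * b) ^ q = b⁻¹ * a ^ q * b := by
        have := conj_pow (a := b⁻¹) (b := a) (i := q)
        simpa using this
      rw [h2, mul_assoc, hab, inv_mul_cancel_left]
  intro x y
  constructor
  · -- forward
    intro hv
    set v := x⁻¹ * y with hvdef
    have hy : y = x * v := by simp [hvdef]
    by_cases hH : closure ({x, y} : Set X) = ⊤
    · have hgen : closure ({x, v} : Set X) = ⊤ := by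
        rw [eq_top_iff, ← hH, closure_le]
        rintro z (rfl | rfl)
        · exact subset_closure (by simp)
        · rw [hy]
          exact mul_mem (subset_closure (by simp)) (subset_closure (by simp))
      by_cases hc : closure ({v} : Set X) = ⊤
      · have hcm := hcomm_of_cyclic v hc x v
        rw [hy, (Commute.mul_pow hcm q), hv, mul_one]
      · obtain ⟨M, hMn, hM, hvM⟩ := hcoatom v hc
        have hN1 := hnc M hMn hM v hvM hv
        haveI : (normalClosure ({v} : Set X)).Normal := normalClosure_normal
        have hcomm := commutator_le_of_pair (normalClosure ({v} : Set X)) hgen (by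
          have h1 : v ∈ normalClosure ({v} : Set X) := subset_normalClosure rfl
          have h2 : x⁻¹ * (v⁻¹ * x * v) = (x⁻¹ * v⁻¹ * x) * v := by group
          rw [h2]
          have h3 := (inferInstance : (normalClosure ({v} : Set X)).Normal).conj_mem _ (inv_mem h1) x⁻¹
          exact mul_mem (by simpa using h3) h1)
        obtain ⟨c, hc1, hc2⟩ := hR x v
        have hc3 : c = 1 := by
          refine eq_one_of_mem_powerClosure (p := p) (n := n)
            (K := ⁅closure ({x, v} : Set X), closure ({x, v} : Set X)⁆) ?_ hc1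
          intro w hw
          rw [hgen] at hw
          exact hN1 w (hcomm hw)
        have h5 : (x * v) ^ q = x ^ q * v ^ q * c := hc2
        rw [hy, h5, hc3, hv]
        simp
    · have hx1 : x ∈ closure ({x, y} : Set X) := subset_closure (by simp)
      have hy1 : y ∈ closure ({x, y} : Set X) := subset_closure (by simp)
      exact (hsub _ hH x hx1 y hy1).mp hv
  · -- backward
    intro hxy
    by_cases hH : closure ({x, y} : Set X) = ⊤
    · -- the relevant commutator
      set r := x⁻¹ * (y⁻¹ * x * y) with hr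
      have hrq : r ^ q = 1 := by
        apply hstep1
        rw [hxy, ← pow_succ, ← pow_succ']
      by_cases hbot : Nontrivial X
      · obtain ⟨M, hM, -⟩ := (eq_top_or_exists_le_coatom (⊥ : Subgroup X)).resolve_left bot_ne_top
        have hMn := normal_of_isCoatom hX hM
        have hcM : _root_.commutator X ≤ M :=
          (commutator_le_frattini hX).trans (frattini_le_coatom hM)
        have hrM : r ∈ M := by
          apply hcM
          have : r = ⁅x⁻¹, y⁻¹⁆ := by
            simp [hr, commutatorElement_def, mul_assoc]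
          rw [this]
          exact Subgroup.commutator_mem_commutator (mem_top _) (mem_top _)
        have hN1 := hnc M hMn hM.1 r hrM hrq
        haveI : (normalClosure ({r} : Set X)).Normal := normalClosure_normal
        have hcomm := commutator_le_of_pair (normalClosure ({r} : Set X)) hH
          (subset_normalClosure rfl)
        obtain ⟨c, hc1, hc2⟩ := hR x⁻¹ y
        have hc3 : c = 1 := by
          refine eq_one_of_mem_powerClosure (p := p) (n := n)
            (K := ⁅closure ({x⁻¹, y} : Set X), closure ({x⁻¹, y} : Set X)⁆) ?_ hc1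
          intro w hw
          have h5 : ⁅closure ({x⁻¹, y} : Set X), closure ({x⁻¹, y} : Set X)⁆ ≤ _root_.commutator X :=
            commutator_mono le_top le_top
          exact hN1 w (hcomm (h5 hw))
        have h5 : (x⁻¹ * y) ^ q = (x⁻¹) ^ q * y ^ q * c := hc2
        rw [h5, hc3, inv_pow, hxy]
        simp
      · rw [not_nontrivial_iff_subsingleton] at hbot
        exact Subsingleton.elim _ _
    · have hx1 : x ∈ closure ({x, y} : Set X) := subset_closure (by simp)
      have hy1 : y ∈ closure ({x, y} : Set X) := subset_closure (by simp)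
      exact (hsub _ hH x hx1 y hy1).mpr hxy

/-- In a finite `p`-group with `RegN p n`: `(x⁻¹ y)^q = 1 ↔ x^q = y^q`. -/
theorem pow_eq_iff {X : Type u} [Group X] [Finite X] {n : ℕ} (hX : IsPGroup p X) (hR : RegN p n X)
    (x y : X) : (x⁻¹ * y) ^ (p ^ n) = 1 ↔ x ^ (p ^ n) = y ^ (p ^ n) :=
  pow_eq_iff_aux _ X rfl hX hR x y

/-- In a finite `p`-group with `RegN p n`: elements of exponent `p ^ n` are closed under products. -/
theorem mul_pow_eq_one {X : Type u} [Group X] [Finite X] {n : ℕ} (hX : IsPGroup p X) (hR : RegN p n X)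
    {x y : X} (hx : x ^ (p ^ n) = 1) (hy : y ^ (p ^ n) = 1) : (x * y) ^ (p ^ n) = 1 := by
  have := (pow_eq_iff hX hR x⁻¹ y).mpr (by rw [inv_pow, hx, hy, inv_one])
  simpa using this

end Cfsg.Agent.Lib.FG7.RegularOmega
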