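import Mathlib

/-!
# Conjugacy classes of symmetric and alternating groups: counting
-/

set_option autoImplicit false

namespace Cfsg.Agent.Lib.FG7.SymClasses

open Equiv Equiv.Perm Multiset

/-! ### Partition counts -/

theorem exists_step (n : ℕ) (p : (n + 1).Partition) :
    ∃ q : n.Partition ⊕ n.Partition,
      (∃ q' : n.Partition, q = Sum.inl q' ∧ p.parts = 1 ::ₘ q'.parts) ∨
      (∃ (q' : n.Partition) (s : ℕ) (m : Multiset ℕ), q = Sum.inr q' ∧ 2 ≤ s ∧ p.parts = s ::ₘ m ∧
        q'.parts = (s - 1) ::ₘ m ∧ ∀ t ∈ m, s ≤ t) := by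
  classical
  by_cases h : 1 ∈ p.parts
  · obtain ⟨u, hu⟩ := Multiset.exists_cons_of_mem h
    refine ⟨Sum.inl ⟨u, ?_, ?_⟩, Or.inl ⟨_, rfl, hu⟩⟩
    · intro i hi
      exact p.parts_pos (hu ▸ Multiset.mem_cons_of_mem hi)
    · have := p.parts_sum
      rw [hu, Multiset.sum_cons] at this
      omega
  · have hne : p.parts.toFinset.Nonempty := by
      by_contra hcon
      rw [Finset.not_nonempty_iff_eq_empty, Multiset.toFinset_eq_empty] at hcon
      have := p.parts_sum
      rw [hcon] at this
      simp at this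
    obtain ⟨s, hs, hmin⟩ := Finset.exists_min_image _ id hne
    rw [Multiset.mem_toFinset] at hs
    obtain ⟨m, hm⟩ := Multiset.exists_cons_of_mem hs
    have hs0 : 0 < s := p.parts_pos hs
    have hs1 : s ≠ 1 := by
      rintro rfl
      exact h hs
    have hs2 : 2 ≤ s := by omega
    have hsum := p.parts_sum
    rw [hm, Multiset.sum_cons] at hsum
    refine ⟨Sum.inr ⟨(s - 1) ::ₘ m, ?_, ?_⟩, Or.inr ⟨_, s, m, rfl, hs2, hm, rfl, ?_⟩⟩
    · intro i hi
      rcases Multiset.mem_cons.mp hi with rfl | hi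
      · omega
      · exact p.parts_pos (hm ▸ Multiset.mem_cons_of_mem hi)
    · rw [Multiset.sum_cons]
      omega
    · intro t ht
      exact hmin t (Multiset.mem_toFinset.mpr (hm ▸ Multiset.mem_cons_of_mem ht))

theorem card_partition_succ_le (n : ℕ) :
    Fintype.card (n + 1).Partition ≤ 2 * Fintype.card n.Partition := by
  classical
  choose F hF using exists_step n
  have hinj : Function.Injective F := by
    intro p p' h
    apply Nat.Partition.ext
    rcases hF p with ⟨q, hq, hp⟩ | ⟨q, s, m, hq, hs, hp, hqm, hmin⟩ <;>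
      rcases hF p' with ⟨q', hq', hp'⟩ | ⟨q', s', m', hq', hs', hp', hqm', hmin'⟩
    · rw [hq, hq'] at h
      have : q = q' := Sum.inl_injective h
      rw [hp, hp', this]
    · rw [hq, hq'] at h
      exact absurd h (by simp)
    · rw [hq, hq'] at h
      exact absurd h (by simp)
    · rw [hq, hq'] at h
      have hqq : q = q' := Sum.inr_injective h
      have hsame : (s - 1) ::ₘ m = (s' - 1) ::ₘ m' := by rw [← hqm, ← hqm', hqq]
      have h1 : s - 1 ∈ (s' - 1) ::ₘ m' := by
        rw [← hsame]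
        exact Multiset.mem_cons_self _ _
      have h2 : s' - 1 ∈ (s - 1) ::ₘ m := by
        rw [hsame]
        exact Multiset.mem_cons_self _ _
      have h3 : s' - 1 ≤ s - 1 := by
        rcases Multiset.mem_cons.mp h1 with h4 | h4
        · omega
        · have := hmin' _ h4
          omega
      have h4 : s - 1 ≤ s' - 1 := by
        rcases Multiset.mem_cons.mp h2 with h5 | h5
        · omega
        · have := hmin _ h5
          omega
      have hss : s = s' := by omega
      subst hss
      have hmm : m = m' := (Multiset.cons_inj_right _).mp hsame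
      rw [hp, hp', hmm]
  have := Fintype.card_le_of_injective F hinj
  rwa [Fintype.card_sum, ← two_mul] at this

private theorem parts_eq_zero {T : Multiset ℕ} (hs : T.sum = 0) (hp : ∀ i ∈ T, 0 < i) : T = 0 := by
  by_contra hne
  obtain ⟨s, hs'⟩ := Multiset.exists_mem_of_ne_zero hne
  have := Multiset.le_sum_of_mem hs'
  have := hp s hs'
  omega

private theorem decomp {T : Multiset ℕ} {n : ℕ} (hn : 0 < n) (hs : T.sum = n) (hp : ∀ i ∈ T, 0 < i) :
    ∃ s T', T = s ::ₘ T' ∧ 0 < s ∧ s ≤ n ∧ T'.sum = n - s ∧ ∀ i ∈ T', 0 < i := by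
  have hne : T ≠ 0 := by
    rintro rfl
    simp at hs
    omega
  obtain ⟨s, hs'⟩ := Multiset.exists_mem_of_ne_zero hne
  obtain ⟨T', rfl⟩ := Multiset.exists_cons_of_mem hs'
  rw [Multiset.sum_cons] at hs
  refine ⟨s, T', rfl, hp s hs', by omega, by omega, fun i hi => hp i (Multiset.mem_cons_of_mem hi)⟩

private theorem parts1 {T : Multiset ℕ} (hs : T.sum = 1) (hp : ∀ i ∈ T, 0 < i) : T = {1} := by
  obtain ⟨s, T', rfl, h0, h1, h2, h3⟩ := decomp (by norm_num) hs hp
  obtain rfl : s = 1 := by omega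
  rw [parts_eq_zero h2 h3]
  rfl

private theorem parts2 {T : Multiset ℕ} (hs : T.sum = 2) (hp : ∀ i ∈ T, 0 < i) :
    T = {2} ∨ T = {1, 1} := by
  obtain ⟨s, T', rfl, h0, h1, h2, h3⟩ := decomp (by norm_num) hs hp
  interval_cases s
  · rw [parts1 h2 h3]
    right; rfl
  · rw [parts_eq_zero h2 h3]
    left; rfl

private theorem parts3 {T : Multiset ℕ} (hs : T.sum = 3) (hp : ∀ i ∈ T, 0 < i) :
    T = {3} ∨ T = {2, 1} ∨ T = {1, 1, 1} := by
  obtain ⟨s, T', rfl, h0, h1, h2, h3⟩ := decomp (by norm_num) hs hp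
  interval_cases s
  · rcases parts2 h2 h3 with h | h <;> rw [h]
    · right; left; decide
    · right; right; rfl
  · rw [parts1 h2 h3]
    right; left; rfl
  · rw [parts_eq_zero h2 h3]
    left; rfl

private theorem parts4 {T : Multiset ℕ} (hs : T.sum = 4) (hp : ∀ i ∈ T, 0 < i) :
    T = {4} ∨ T = {3, 1} ∨ T = {2, 2} ∨ T = {2, 1, 1} ∨ T = {1, 1, 1, 1} := by
  obtain ⟨s, T', rfl, h0, h1, h2, h3⟩ := decomp (by norm_num) hs hp
  interval_cases s
  · rcases parts3 h2 h3 with h | h | h <;> rw [h]
    · right; left; decide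
    · right; right; right; left; decide
    · right; right; right; right; rfl
  · rcases parts2 h2 h3 with h | h <;> rw [h]
    · right; right; left; rfl
    · right; right; right; left; rfl
  · rw [parts1 h2 h3]
    right; left; rfl
  · rw [parts_eq_zero h2 h3]
    left; rfl

private theorem parts5 {T : Multiset ℕ} (hs : T.sum = 5) (hp : ∀ i ∈ T, 0 < i) :
    T ∈ ({{5}, {4, 1}, {3, 2}, {3, 1, 1}, {2, 2, 1}, {2, 1, 1, 1}, {1, 1, 1, 1, 1}} :
      Finset (Multiset ℕ)) := by
  obtain ⟨s, T', rfl, h0, h1, h2, h3⟩ := decomp (by norm_num) hs hp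
  interval_cases s
  · rcases parts4 h2 h3 with h | h | h | h | h <;> rw [h] <;> decide
  · rcases parts3 h2 h3 with h | h | h <;> rw [h] <;> decide
  · rcases parts2 h2 h3 with h | h <;> rw [h] <;> decide
  · rw [parts1 h2 h3]
    decide
  · rw [parts_eq_zero h2 h3]
    decide

theorem card_partition_five : Fintype.card (Nat.Partition 5) ≤ 8 := by
  classical
  have h1 : Function.Injective (fun p : Nat.Partition 5 =>
      (⟨p.parts, parts5 p.parts_sum (fun _ hi => p.parts_pos hi)⟩ :
        {T // T ∈ ({{5}, {4, 1}, {3, 2}, {3, 1, 1}, {2, 2, 1}, {2, 1, 1, 1}, {1, 1, 1, 1, 1}} :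
          Finset (Multiset ℕ))})) := by
    intro p q h
    exact Nat.Partition.ext (congrArg Subtype.val h)
  have h2 := Fintype.card_le_of_injective _ h1
  rw [Fintype.card_coe] at h2
  refine h2.trans ?_
  decide

theorem card_partition_le (n : ℕ) (hn : 5 ≤ n) : Fintype.card n.Partition ≤ 2 ^ (n - 2) := by
  induction n, hn using Nat.le_induction with
  | base => exact card_partition_five
  | succ n hn ih =>
    have h1 := card_partition_succ_le n
    have h2 : n + 1 - 2 = (n - 2) + 1 := by omega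
    rw [h2, pow_succ]
    omega

/-! ### Signs of partitions -/

/-- The sign attached to a multiset of cycle lengths. -/
def sg (m : Multiset ℕ) : ℤˣ := (m.map fun n => -(-1 : ℤˣ) ^ n).prod

theorem sg_cons (a : ℕ) (m : Multiset ℕ) : sg (a ::ₘ m) = -(-1 : ℤˣ) ^ a * sg m := by
  simp [sg]

theorem sg_of_odd {m : Multiset ℕ} (h : ∀ i ∈ m, Odd i) : sg m = 1 := by
  unfold sg
  apply Multiset.prod_eq_one
  intro x hx
  obtain ⟨i, hi, rfl⟩ := Multiset.mem_map.mp hx
  rw [(h i hi).neg_one_pow]
  simp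

/-- Distinct odd parts. -/
def DOP (m : Multiset ℕ) : Prop := (∀ i ∈ m, Odd i) ∧ m.Nodup

theorem exists_phi {n : ℕ} (hn : 2 ≤ n) (p : n.Partition) (hp : DOP p.parts) :
    ∃ q : n.Partition, sg q.parts = -1 ∧ 1 ∈ q.parts ∧
      ∃ (m : ℕ) (u : Multiset ℕ), Odd m ∧ 3 ≤ m ∧ p.parts = m ::ₘ u ∧ q.parts = (m - 1) ::ₘ 1 ::ₘ u := by
  classical
  have hex : ∃ m ∈ p.parts, m ≠ 1 := by
    by_contra hcon
    push Not at hcon
    have h1 : p.parts = Multiset.replicate (Multiset.card p.parts) 1 :=
      Multiset.eq_replicate.mpr ⟨rfl, hcon⟩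
    have h2 : Multiset.card p.parts ≤ 1 := by
      have h3 := hp.2
      rw [h1] at h3
      by_contra h4
      have := Multiset.nodup_iff_count_le_one.mp h3 1
      rw [Multiset.count_replicate_self] at this
      omega
    have h3 := p.parts_sum
    rw [h1, Multiset.sum_replicate] at h3
    simp only [smul_eq_mul, mul_one] at h3
    omega
  obtain ⟨m, hm, hm1⟩ := hex
  obtain ⟨u, hu⟩ := Multiset.exists_cons_of_mem hm
  have hodd := hp.1 m hm
  have hm3 : 3 ≤ m := by
    obtain ⟨k, hk⟩ := hodd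
    omega
  have hsum := p.parts_sum
  rw [hu, Multiset.sum_cons] at hsum
  have huodd : ∀ i ∈ u, Odd i := fun i hi => hp.1 i (hu ▸ Multiset.mem_cons_of_mem hi)
  refine ⟨⟨(m - 1) ::ₘ 1 ::ₘ u, ?_, ?_⟩, ?_, ?_, m, u, hodd, hm3, hu, rfl⟩
  · intro i hi
    rcases Multiset.mem_cons.mp hi with rfl | hi
    · omega
    rcases Multiset.mem_cons.mp hi with rfl | hi
    · omega
    · exact p.parts_pos (hu ▸ Multiset.mem_cons_of_mem hi)
  · rw [Multiset.sum_cons, Multiset.sum_cons]
    omega
  · change sg ((m - 1) ::ₘ 1 ::ₘ u) = -1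
    rw [sg_cons, sg_cons, sg_of_odd huodd]
    have : Even (m - 1) := by
      obtain ⟨k, hk⟩ := hodd
      exact ⟨k, by omega⟩
    rw [this.neg_one_pow]
    simp
  · change 1 ∈ (m - 1) ::ₘ 1 ::ₘ u
    simp

theorem phi_inj {m m' : ℕ} {u u' : Multiset ℕ} (hm : Odd m) (hm3 : 3 ≤ m) (hm' : Odd m') (hm3' : 3 ≤ m')
    (hu : ∀ i ∈ u, Odd i) (hu' : ∀ i ∈ u', Odd i)
    (h : (m - 1) ::ₘ 1 ::ₘ u = (m' - 1) ::ₘ 1 ::ₘ u') : m ::ₘ u = m' ::ₘ u' := by
  have heven : Even (m - 1) := by
    obtain ⟨k, hk⟩ := hm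
    exact ⟨k, by omega⟩
  have h1 : m - 1 ∈ (m' - 1) ::ₘ 1 ::ₘ u' := by
    rw [← h]
    exact Multiset.mem_cons_self _ _
  have hmm : m = m' := by
    rcases Multiset.mem_cons.mp h1 with h2 | h2
    · omega
    rcases Multiset.mem_cons.mp h2 with h3 | h3
    · omega
    · have := hu' _ h3
      exact absurd heven (Nat.not_even_iff_odd.mpr this)
  subst hmm
  have h4 := (Multiset.cons_inj_right _).mp h
  have h5 := (Multiset.cons_inj_right _).mp h4
  rw [h5]

theorem exists_p0 {n : ℕ} (hn : 5 ≤ n) : ∃ q : n.Partition, sg q.parts = -1 ∧ 1 ∉ q.parts := by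
  rcases Nat.even_or_odd n with h | h
  · refine ⟨⟨{n}, ?_, ?_⟩, ?_, ?_⟩
    · intro i hi
      rw [Multiset.mem_singleton] at hi
      omega
    · simp
    · change sg {n} = -1
      rw [← Multiset.cons_zero, sg_cons, h.neg_one_pow]
      simp [sg]
    · change 1 ∉ ({n} : Multiset ℕ)
      rw [Multiset.mem_singleton]
      omega
  · refine ⟨⟨{2, n - 2}, ?_, ?_⟩, ?_, ?_⟩
    · intro i hi
      simp only [Multiset.insert_eq_cons, Multiset.mem_cons, Multiset.mem_singleton] at hi
      omega
    · simp only [Multiset.insert_eq_cons, Multiset.sum_cons, Multiset.sum_singleton]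
      omega
    · change sg {2, n - 2} = -1
      have h2 : Odd (n - 2) := by
        obtain ⟨k, hk⟩ := h
        exact ⟨k - 1, by omega⟩
      rw [Multiset.insert_eq_cons, ← Multiset.cons_zero, sg_cons, sg_cons, h2.neg_one_pow]
      simp [sg]
    · change 1 ∉ ({2, n - 2} : Multiset ℕ)
      simp only [Multiset.insert_eq_cons, Multiset.mem_cons, Multiset.mem_singleton]
      omega

section Classes

variable {α : Type*} [Fintype α] [DecidableEq α]

theorem sign_eq_sg (g : Perm α) : sign g = sg g.partition.parts := by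
  rw [parts_partition, sg, Multiset.map_add, Multiset.prod_add, ← sign_of_cycleType']
  simp [Multiset.map_replicate]

theorem exists_partition_eq (p : (Fintype.card α).Partition) : ∃ g : Perm α, g.partition = p := by
  have hm : ((p.parts.filter fun n => 2 ≤ n).sum ≤ Fintype.card α ∧
      ∀ a ∈ p.parts.filter fun n => 2 ≤ n, 2 ≤ a) := by
    constructor
    · have h1 := Multiset.filter_add_not (fun n => 2 ≤ n) p.parts
      have h2 := congrArg Multiset.sum h1
      rw [Multiset.sum_add, p.parts_sum] at h2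
      omega
    · intro a ha
      exact (Multiset.mem_filter.mp ha).2
  obtain ⟨g, hg⟩ := (exists_with_cycleType_iff (α := α)).mpr hm
  refine ⟨g, ?_⟩
  apply Nat.Partition.ext
  have h1 := Multiset.filter_add_not (fun n => 2 ≤ n) p.parts
  have h2 := Multiset.filter_add_not (fun n => 2 ≤ n) g.partition.parts
  have h3 : g.partition.parts.filter (fun n => 2 ≤ n) = p.parts.filter fun n => 2 ≤ n := by
    rw [filter_parts_partition_eq_cycleType, hg]
  have hone : ∀ q : (Fintype.card α).Partition, ∀ b ∈ q.parts.filter (fun n => ¬ 2 ≤ n), b = 1 := by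
    intro q b hb
    obtain ⟨hb1, hb2⟩ := Multiset.mem_filter.mp hb
    have := q.parts_pos hb1
    omega
  have hrep : ∀ q : (Fintype.card α).Partition, q.parts.filter (fun n => ¬ 2 ≤ n) =
      Multiset.replicate (Fintype.card α - (q.parts.filter fun n => 2 ≤ n).sum) 1 := by
    intro q
    have h4 := Multiset.filter_add_not (fun n => 2 ≤ n) q.parts
    have h5 := congrArg Multiset.sum h4
    rw [Multiset.sum_add, q.parts_sum] at h5
    have h6 : q.parts.filter (fun n => ¬ 2 ≤ n) =
        Multiset.replicate (Multiset.card (q.parts.filter fun n => ¬ 2 ≤ n)) 1 :=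
      Multiset.eq_replicate.mpr ⟨rfl, hone q⟩
    have h7 : (q.parts.filter fun n => ¬ 2 ≤ n).sum = Multiset.card (q.parts.filter fun n => ¬ 2 ≤ n) := by
      conv_lhs => rw [h6, Multiset.sum_replicate]
      simp
    have h8 : Multiset.card (q.parts.filter fun n => ¬ 2 ≤ n) =
        Fintype.card α - (q.parts.filter fun n => 2 ≤ n).sum := by omega
    conv_lhs => rw [h6, h8]
  rw [← h1, ← h2, h3, hrep, hrep, h3]

theorem card_classes_perm :
    Nat.card (ConjClasses (Perm α)) = Fintype.card (Fintype.card α).Partition := by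
  let f : ConjClasses (Perm α) → (Fintype.card α).Partition :=
    Quotient.lift (fun g : Perm α => g.partition) (fun _ _ h => partition_eq_of_isConj.mp h)
  have hf : Function.Bijective f := by
    constructor
    · intro x y
      induction x using Quotient.inductionOn with | _ a => ?_
      induction y using Quotient.inductionOn with | _ b => ?_
      intro h
      exact Quotient.sound (partition_eq_of_isConj.mpr h)
    · intro p
      obtain ⟨g, hg⟩ := exists_partition_eq p
      exact ⟨Quotient.mk _ g, hg⟩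
  rw [Nat.card_eq_of_bijective f hf, Nat.card_eq_fintype_card]

theorem sign_mul_even_of_odd {c d : Perm α} (hc : c ∉ alternatingGroup α) (hd : d ∉ alternatingGroup α) :
    c * d ∈ alternatingGroup α := by
  rw [mem_alternatingGroup] at hc hd ⊢
  rw [map_mul]
  rcases Int.units_eq_one_or (sign c) with h | h
  · exact absurd h hc
  rcases Int.units_eq_one_or (sign d) with h' | h'
  · exact absurd h' hd
  rw [h, h']
  rfl

theorem conj_of_not_le {g h : alternatingGroup α} (hgh : IsConj (g : Perm α) (h : Perm α))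
    (hC : ¬ Subgroup.centralizer {(g : Perm α)} ≤ alternatingGroup α) : IsConj g h := by
  obtain ⟨c, hc⟩ := isConj_iff.mp hgh
  by_cases hcA : c ∈ alternatingGroup α
  · exact isConj_iff.mpr ⟨⟨c, hcA⟩, Subtype.ext hc⟩
  · obtain ⟨z, hz, hzA⟩ := SetLike.not_le_iff_exists.mp hC
    have hmul := sign_mul_even_of_odd hcA hzA
    refine isConj_iff.mpr ⟨⟨c * z, hmul⟩, Subtype.ext ?_⟩
    have hz' : z * (g : Perm α) = (g : Perm α) * z := (Subgroup.mem_centralizer_singleton_iff.mp hz)
    change c * z * (g : Perm α) * (c * z)⁻¹ = h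
    rw [← hc]
    calc c * z * (g : Perm α) * (c * z)⁻¹ = c * (z * (g : Perm α)) * z⁻¹ * c⁻¹ := by group
      _ = c * ((g : Perm α) * z) * z⁻¹ * c⁻¹ := by rw [hz']
      _ = _ := by group

theorem three_conj {g h k : alternatingGroup α} (hgh : IsConj (g : Perm α) (h : Perm α))
    (hgk : IsConj (g : Perm α) (k : Perm α)) : IsConj g h ∨ IsConj g k ∨ IsConj h k := by
  obtain ⟨c, hc⟩ := isConj_iff.mp hgh
  obtain ⟨d, hd⟩ := isConj_iff.mp hgk
  by_cases hcA : c ∈ alternatingGroup α
  · exact Or.inl (isConj_iff.mpr ⟨⟨c, hcA⟩, Subtype.ext hc⟩)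
  by_cases hdA : d ∈ alternatingGroup α
  · exact Or.inr (Or.inl (isConj_iff.mpr ⟨⟨d, hdA⟩, Subtype.ext hd⟩))
  right; right
  have hci : c⁻¹ ∉ alternatingGroup α := fun h => hcA (by simpa using inv_mem h)
  refine isConj_iff.mpr ⟨⟨d * c⁻¹, sign_mul_even_of_odd hdA hci⟩, Subtype.ext ?_⟩
  change d * c⁻¹ * (h : Perm α) * (d * c⁻¹)⁻¹ = k
  rw [← hc, ← hd]
  group

theorem dop_of_le (g : Perm α) (h : Subgroup.centralizer {g} ≤ alternatingGroup α) :
    DOP g.partition.parts := by
  obtain ⟨h1, h2, h3⟩ := centralizer_le_alternating_iff.mp h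
  rw [parts_partition]
  have hk : Fintype.card α - g.support.card ≤ 1 := by
    rw [← sum_cycleType]
    omega
  constructor
  · intro i hi
    rcases Multiset.mem_add.mp hi with hi | hi
    · exact h1 i hi
    · rw [Multiset.eq_of_mem_replicate hi]
      exact odd_one
  · rw [Multiset.nodup_add]
    refine ⟨Multiset.nodup_iff_count_le_one.mpr h3, ?_, ?_⟩
    · interval_cases (Fintype.card α - g.support.card) <;> simp
    · rw [Multiset.disjoint_left]
      intro a ha ha'
      have h4 := two_le_of_mem_cycleType ha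
      rw [Multiset.eq_of_mem_replicate ha'] at h4
      omega

theorem card_alt_lt (hn : 5 ≤ Fintype.card α) :
    Nat.card (ConjClasses (alternatingGroup α)) < Nat.card (ConjClasses (Perm α)) := by
  classical
  rw [card_classes_perm]
  haveI : Nonempty (ConjClasses (alternatingGroup α)) := ⟨ConjClasses.mk 1⟩
  let out : ConjClasses (alternatingGroup α) → alternatingGroup α := Quotient.out
  have hout : ∀ c, ConjClasses.mk (out c) = c := fun c => Quotient.out_eq c
  let Ψ : ConjClasses (alternatingGroup α) → (Fintype.card α).Partition :=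
    fun c => ((out c : alternatingGroup α) : Perm α).partition
  have hsgΨ : ∀ c, sg (Ψ c).parts = 1 := by
    intro c
    rw [← sign_eq_sg]
    exact (out c).2
  have hneq : ∀ c c', c ≠ c' → ¬ IsConj (out c) (out c') := by
    intro c c' hne hconj
    apply hne
    rw [← hout c, ← hout c']
    exact ConjClasses.mk_eq_mk_iff_isConj.mpr hconj
  have hfib : ∀ c c', Ψ c = Ψ c' → IsConj ((out c : alternatingGroup α) : Perm α) ((out c' : alternatingGroup α) : Perm α) :=
    fun c c' h => partition_eq_of_isConj.mpr h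
  have hdop : ∀ c c', c ≠ c' → Ψ c = Ψ c' → DOP (Ψ c).parts := by
    intro c c' hne h
    apply dop_of_le
    by_contra hcon
    exact hneq c c' hne (conj_of_not_le (hfib c c' h) hcon)
  have h2n : 2 ≤ Fintype.card α := by omega
  obtain ⟨p₀, hp₀1, hp₀2⟩ := exists_p0 hn
  let r : (Fintype.card α).Partition → ConjClasses (alternatingGroup α) := Function.invFun Ψ
  have hr : ∀ c, Ψ (r (Ψ c)) = Ψ c := fun c => Function.invFun_eq ⟨c, rfl⟩
  let φ : (Fintype.card α).Partition → (Fintype.card α).Partition := fun p =>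
    if h : DOP p.parts then (exists_phi h2n p h).choose else p₀
  have hφ : ∀ p, DOP p.parts → sg (φ p).parts = -1 ∧ 1 ∈ (φ p).parts ∧
      ∃ (m : ℕ) (u : Multiset ℕ), Odd m ∧ 3 ≤ m ∧ p.parts = m ::ₘ u ∧
        (φ p).parts = (m - 1) ::ₘ 1 ::ₘ u := by
    intro p hp
    have : φ p = (exists_phi h2n p hp).choose := dif_pos hp
    rw [this]
    exact (exists_phi h2n p hp).choose_spec
  let J : ConjClasses (alternatingGroup α) → (Fintype.card α).Partition := fun c =>
    if c = r (Ψ c) then Ψ c else φ (Ψ c)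
  have hJ1 : ∀ c, c = r (Ψ c) → J c = Ψ c := fun c h => if_pos h
  have hJ2 : ∀ c, c ≠ r (Ψ c) → J c = φ (Ψ c) := fun c h => if_neg h
  have hne_sg : (1 : ℤˣ) ≠ -1 := by decide
  have hJinj : Function.Injective J := by
    intro c c' h
    by_cases hc : c = r (Ψ c) <;> by_cases hc' : c' = r (Ψ c')
    · rw [hJ1 c hc, hJ1 c' hc'] at h
      rw [hc, hc', h]
    · exfalso
      rw [hJ1 c hc, hJ2 c' hc'] at h
      have h1 := hdop _ _ hc' (hr c').symm
      have h2 := (hφ _ h1).1
      rw [← h, hsgΨ] at h2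
      exact hne_sg h2
    · exfalso
      rw [hJ2 c hc, hJ1 c' hc'] at h
      have h1 := hdop _ _ hc (hr c).symm
      have h2 := (hφ _ h1).1
      rw [h, hsgΨ] at h2
      exact hne_sg h2
    · rw [hJ2 c hc, hJ2 c' hc'] at h
      have h1 := hdop _ _ hc (hr c).symm
      have h1' := hdop _ _ hc' (hr c').symm
      obtain ⟨-, -, m, u, hm, hm3, hu, hq⟩ := hφ _ h1
      obtain ⟨-, -, m', u', hm', hm3', hu', hq'⟩ := hφ _ h1'
      rw [h, hq'] at hq
      have huo : ∀ i ∈ u, Odd i := fun i hi => h1.1 i (hu ▸ Multiset.mem_cons_of_mem hi)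
      have huo' : ∀ i ∈ u', Odd i := fun i hi => h1'.1 i (hu' ▸ Multiset.mem_cons_of_mem hi)
      have h3 := phi_inj hm hm3 hm' hm3' huo huo' hq.symm
      have hΨ : Ψ c = Ψ c' := by
        apply Nat.Partition.ext
        rw [hu, hu', h3]
      -- three classes in the same fibre
      by_contra hcc
      have hcr : Ψ c = Ψ (r (Ψ c)) := (hr c).symm
      have hcr' : Ψ c' = Ψ (r (Ψ c)) := by rw [← hΨ]; exact (hr c).symm
      rcases three_conj (hfib c c' hΨ) (hfib c _ hcr) with h4 | h4 | h4
      · exact hneq _ _ hcc h4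
      · exact hneq _ _ hc h4
      · apply hneq c' (r (Ψ c)) _ h4
        rw [hΨ]
        exact hc'
  have hnot : p₀ ∉ Set.range J := by
    rintro ⟨c, hc⟩
    by_cases h : c = r (Ψ c)
    · rw [hJ1 c h] at hc
      have := hsgΨ c
      rw [hc, hp₀1] at this
      exact hne_sg this.symm
    · rw [hJ2 c h] at hc
      have h1 := hdop _ _ h (hr c).symm
      have := (hφ _ h1).2.1
      rw [hc] at this
      exact hp₀2 this
  haveI : Fintype (ConjClasses (alternatingGroup α)) := Fintype.ofFinite _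
  rw [Nat.card_eq_fintype_card]
  exact Fintype.card_lt_of_injective_of_notMem J hJinj hnot

end Classes

end Cfsg.Agent.Lib.FG7.SymClasses
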