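import Cfsg.Agent.Lib.Transfer.Tate
import Cfsg.Agent.Lib.Transfer.Cor4
import Cfsg.Agent.Lib.Components.CyclicSylow
import Cfsg.Agent.Lib.Components.Central
import Cfsg.Agent.Lib.Components.Layer
import Cfsg.Agent.Lib.Coprime.Abelian
import Cfsg.Agent.Lib.PGroups.Basic
import Cfsg.Agent.Lib.Core.SylowFacts
import Cfsg.Agent.Lib.Solvable.Hall
import Cfsg.Agent.Lib.PGroups.LowerCentral

/-!
# Two-generated non-abelian Sylow subgroups and Tate's theorem

If `P` is a non-abelian Sylow `p`-subgroup with `|P : Φ(P)| = p²`, `O_{p'}(G) = 1` and `Φ(P)`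
contains no nontrivial normal subgroup of `G`, then `F*(G)` is the unique minimal normal subgroup
of `G`, `P F*(G) / F*(G)` is cyclic, and `P` is transitive on the components of `G`.
-/

set_option autoImplicit false

namespace Cfsg.Agent.Lib.FG7.Tate2Gen

open Cfsg Subgroup Cfsg.Agent.Lib.Transfer.Basic Cfsg.Agent.Lib.Transfer.Tate
  Cfsg.Agent.Lib.Transfer.Cor4 Cfsg.Agent.Lib.Core.Basic Cfsg.Agent.Lib.Components.Basic
open scoped commutatorElement IsMulCommutative

universe u

variable {G : Type u} [Group G] [Finite G] {p : ℕ} [hp : Fact p.Prime]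

/-- The Frattini subgroup of the Sylow subgroup, in the ambient group. -/
abbrev frat (P : Sylow p G) : Subgroup G := (frattini ↥(P : Subgroup G)).map (P : Subgroup G).subtype

/-- The commutator subgroup of the Sylow subgroup, in the ambient group. -/
abbrev der (P : Sylow p G) : Subgroup G := (commutator ↥(P : Subgroup G)).map (P : Subgroup G).subtype

theorem frat_le (P : Sylow p G) : frat P ≤ P := map_subtype_le _

theorem der_le_frat (P : Sylow p G) : der P ≤ frat P :=
  map_mono (Cfsg.Agent.Lib.PGroups.Basic.commutator_le_frattini P.isPGroup')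

/-- Tate's theorem for a subgroup normalized by the Sylow subgroup. -/
theorem tate_of_le_normalizer (P : Sylow p G) (N : Subgroup G)
    (hPN : (P : Subgroup G) ≤ normalizer (N : Set G)) (h : N ⊓ P ≤ frat P) :
    HasNormalPComplement p N := by
  let K : Subgroup G := N ⊔ P
  have hPK : (P : Subgroup G) ≤ K := le_sup_right
  have hNK : N ≤ K := le_sup_left
  have hKN : K ≤ normalizer (N : Set G) := sup_le le_normalizer hPN
  have hN' : (N.subgroupOf K).Normal := (normal_subgroupOf_iff_le_normalizer hNK).mpr hKN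
  let P₀ : Sylow p K := P.subtype hPK
  have hP₀ : (P₀ : Subgroup K) = (P : Subgroup G).subgroupOf K := rfl
  have hmap : ((P₀ : Subgroup K)).map K.subtype = P := by
    rw [hP₀, subgroupOf_map_subtype]
    exact inf_eq_left.mpr hPK
  have hfr := map_frattini_map K.subtype K.subtype_injective (P₀ : Subgroup K) (P : Subgroup G) hmap
  have key : N.subgroupOf K ⊓ P₀ ≤ (frattini ↥(P₀ : Subgroup K)).map (P₀ : Subgroup K).subtype := by
    rintro x ⟨hx1, hx2⟩
    have hxG : (x : G) ∈ N ⊓ (P : Subgroup G) := ⟨hx1, hx2⟩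
    have := h hxG
    rw [frat, hfr] at this
    obtain ⟨y, hy, hyx⟩ := this
    have : y = x := Subtype.ext hyx
    rwa [← this]
  have h1 := hasNormalPComplement_of_inf_le_frattini P₀ (N.subgroupOf K) key
  exact hasNormalPComplement_of_injective (subgroupOfEquivOfLe hNK).symm.toMonoidHom
    (subgroupOfEquivOfLe hNK).symm.injective h1

/-- A subnormal subgroup normalized by the Sylow subgroup meeting it in a subgroup of the Frattini
subgroup is a `p`-group (when `O_{p'}(G) = 1`). -/
theorem isPGroup_of_inf_le_frat (P : Sylow p G) (hcore : pPrimeCore p G = ⊥) (N : Subgroup G)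
    (hNs : N.IsSubnormal) (hPN : (P : Subgroup G) ≤ normalizer (N : Set G)) (h : N ⊓ P ≤ frat P) :
    IsPGroup p N := by
  obtain ⟨R, hR, h1, h2⟩ := hasNormalPComplement_iff_exists.mp (tate_of_le_normalizer P N hPN h)
  have hR1 : R ≤ pPrimeCore p N := le_pPrimeCore hR h1
  have hR2 : (pPrimeCore p N).map N.subtype ≤ pPrimeCore p G := map_pPrimeCore_le_of_isSubnormal hNs
  have hR3 : R = ⊥ := by
    rw [eq_bot_iff]
    intro x hx
    have : (x : G) ∈ pPrimeCore p G := hR2 ⟨x, hR1 hx, rfl⟩
    rw [hcore, mem_bot] at this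
    exact mem_bot.mpr (Subtype.ext this)
  subst hR3
  exact h2.of_injective (QuotientGroup.mk' (⊥ : Subgroup N))
    ((MonoidHom.ker_eq_bot_iff _).mp (QuotientGroup.ker_mk' _))

/-- **Lemma A**: nontrivial normal subgroups are not inside the Frattini subgroup of `P`. -/
theorem not_inf_le_frat (P : Sylow p G) (hcore : pPrimeCore p G = ⊥)
    (hfrat : (frat P).normalCore = ⊥) (N : Subgroup G) [hN : N.Normal] (hne : N ≠ ⊥) :
    ¬ N ⊓ P ≤ frat P := by
  intro h
  have h1 : IsPGroup p N := isPGroup_of_inf_le_frat P hcore N hN.isSubnormal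
    (by rw [normalizer_eq_top_iff.mpr hN]; exact le_top) h
  have h2 : N ≤ pCore p G := le_pCore hN h1
  have h3 : N ≤ P := h2.trans (pCore_le_sylow P)
  have h4 : N ≤ frat P := le_trans (le_inf le_rfl h3) h
  have h5 : N ≤ (frat P).normalCore := normal_le_normalCore.mpr h4
  rw [hfrat] at h5
  exact hne (le_bot_iff.mp h5)

/-- **Lemma B**: a subgroup of a two-generated `p`-group not in the Frattini subgroup is
complemented by a cyclic subgroup. -/
theorem exists_zpowers_sup {X : Type*} [Group X] [Finite X] (hX : IsPGroup p X)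
    (hgen : (frattini X).index = p ^ 2) (A : Subgroup X) (hA : ¬ A ≤ frattini X) :
    ∃ z : X, zpowers z ⊔ A = ⊤ := by
  have hp' : p.Prime := hp.out
  set Φ := frattini X with hΦ
  set B := A ⊔ Φ with hB
  have hΦB : Φ ≤ B := le_sup_right
  have hne : Φ ≠ B := fun h => hA (by rw [h]; exact le_sup_left)
  have hrel : Φ.relIndex B * B.index = p ^ 2 := by
    rw [relIndex_mul_index hΦB, hgen]
  have hrel1 : Φ.relIndex B ≠ 1 := by
    intro h
    rw [relIndex_eq_one] at h
    exact hne (le_antisymm hΦB h)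
  have hBdvd : B.index ∣ p ^ 2 := ⟨_, by rw [← hrel, mul_comm]⟩
  obtain ⟨k, hk, hkB⟩ := (Nat.dvd_prime_pow hp').mp hBdvd
  have hk2 : k ≠ 2 := by
    rintro rfl
    rw [hkB] at hrel
    have : Φ.relIndex B = 1 := by
      have hpos : 0 < p ^ 2 := pow_pos hp'.pos _
      nlinarith
    exact hrel1 this
  have hBp : B = ⊤ ∨ B.index = p := by
    interval_cases k
    · left
      rw [pow_zero] at hkB
      exact index_eq_one.mp hkB
    · right
      rw [pow_one] at hkB
      exact hkB
    · exact absurd rfl hk2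
  rcases hBp with hBt | hBi
  · refine ⟨1, ?_⟩
    have : A = ⊤ := frattini_nongenerating hBt
    rw [this, sup_top_eq]
  · have hc : IsCoatom B := Cfsg.Agent.Lib.PGroups.Basic.isCoatom_of_index_prime (by rw [hBi]; exact hp')
    have hBne : B ≠ ⊤ := hc.1
    obtain ⟨z, hz⟩ : ∃ z : X, z ∉ B := by
      by_contra hcon
      push Not at hcon
      exact hBne (eq_top_iff.mpr fun x _ => hcon x)
    refine ⟨z, ?_⟩
    have h1 : zpowers z ⊔ B = ⊤ := by
      apply hc.2
      refine lt_of_le_of_ne le_sup_right ?_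
      intro h
      exact hz (by rw [h]; exact (le_sup_left : zpowers z ≤ zpowers z ⊔ B) (mem_zpowers z))
    have h2 : (zpowers z ⊔ A) ⊔ Φ = ⊤ := by
      rw [sup_assoc]
      exact h1
    exact frattini_nongenerating h2

/-- Elementwise form of Lemma B. -/
theorem exists_gen {X : Type*} [Group X] [Finite X] (hX : IsPGroup p X)
    (hgen : (frattini X).index = p ^ 2) (A : Subgroup X) [hn : A.Normal] (hA : ¬ A ≤ frattini X) :
    ∃ z : X, ∀ x : X, ∃ k : ℤ, ∃ a ∈ A, x = z ^ k * a := by
  obtain ⟨z, hz⟩ := exists_zpowers_sup hX hgen A hA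
  refine ⟨z, fun x => ?_⟩
  have hx : x ∈ zpowers z ⊔ A := hz ▸ mem_top x
  obtain ⟨u, hu, a, ha, rfl⟩ := mem_sup_of_normal_right.mp hx
  obtain ⟨k, rfl⟩ := mem_zpowers_iff.mp hu
  exact ⟨k, a, ha, rfl⟩

theorem commutator_le_of_gen {X : Type*} [Group X] [Finite X] (hX : IsPGroup p X)
    (hgen : (frattini X).index = p ^ 2) (A : Subgroup X) [hn : A.Normal] (hA : ¬ A ≤ frattini X) :
    commutator X ≤ A := by
  obtain ⟨z, hz⟩ := exists_gen hX hgen A hA
  apply Subgroup.Normal.quotient_commutative_iff_commutator_le.mp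
  refine ⟨⟨?_⟩⟩
  intro a b
  obtain ⟨x, rfl⟩ := QuotientGroup.mk'_surjective A a
  obtain ⟨y, rfl⟩ := QuotientGroup.mk'_surjective A b
  obtain ⟨k, c, hc, rfl⟩ := hz x
  obtain ⟨l, d, hd, rfl⟩ := hz y
  have h1 : QuotientGroup.mk' A c = 1 := (QuotientGroup.eq_one_iff c).mpr hc
  have h2 : QuotientGroup.mk' A d = 1 := (QuotientGroup.eq_one_iff d).mpr hd
  simp only [map_mul, map_zpow, h1, h2, mul_one]
  exact (Commute.refl _).zpow_zpow k l

/-- Commutators of `P` lie in subgroups normalized by `P` not in the Frattini subgroup. -/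
theorem der_le_of_not_le_frat (P : Sylow p G) (hgen : (frattini ↥(P : Subgroup G)).index = p ^ 2)
    (N : Subgroup G) (hPN : (P : Subgroup G) ≤ normalizer (N : Set G)) (h : ¬ N ⊓ P ≤ frat P) :
    der P ≤ N := by
  have hn : (N.subgroupOf (P : Subgroup G)).Normal := by
    constructor
    intro a ha g
    have := (mem_normalizer_iff.mp (hPN g.2) (a : G)).mp ha
    simpa [mem_subgroupOf] using this
  have hnle : ¬ N.subgroupOf (P : Subgroup G) ≤ frattini ↥(P : Subgroup G) := by
    intro hle
    apply h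
    rintro x ⟨hx1, hx2⟩
    exact ⟨⟨x, hx2⟩, hle (by simpa [mem_subgroupOf] using hx1), rfl⟩
  have := commutator_le_of_gen P.isPGroup' hgen (N.subgroupOf (P : Subgroup G)) hnle
  rintro _ ⟨x, hx, rfl⟩
  exact this hx

theorem der_ne_bot (P : Sylow p G) (hna : ¬ IsMulCommutative (P : Subgroup G)) : der P ≠ ⊥ := by
  intro h
  apply hna
  have h1 : commutator ↥(P : Subgroup G) = ⊥ := by
    rw [map_eq_bot_iff_of_injective _ (subtype_injective _)] at h
    exact h
  refine ⟨⟨fun a b => ?_⟩⟩
  have h2 : ⁅a, b⁆ ∈ commutator ↥(P : Subgroup G) := commutator_mem_commutator (mem_top a) (mem_top b)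
  rw [h1, mem_bot, commutatorElement_eq_one_iff_mul_comm] at h2
  exact h2

/-- The image of `P` modulo a normal subgroup not in the Frattini subgroup is cyclic. -/
theorem isCyclic_map (P : Sylow p G) (hgen : (frattini ↥(P : Subgroup G)).index = p ^ 2)
    (N : Subgroup G) [hN : N.Normal] (h : ¬ N ⊓ P ≤ frat P) :
    IsCyclic ↥((P : Subgroup G).map (QuotientGroup.mk' N)) := by
  have hnle : ¬ N.subgroupOf (P : Subgroup G) ≤ frattini ↥(P : Subgroup G) := by
    intro hle
    apply h
    rintro x ⟨hx1, hx2⟩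
    exact ⟨⟨x, hx2⟩, hle (by simpa [mem_subgroupOf] using hx1), rfl⟩
  obtain ⟨z, hz⟩ := exists_gen P.isPGroup' hgen (N.subgroupOf (P : Subgroup G)) hnle
  refine ⟨⟨⟨QuotientGroup.mk' N z, ⟨z, z.2, rfl⟩⟩, ?_⟩⟩
  rintro ⟨_, x, hx, rfl⟩
  obtain ⟨k, a, ha, hxe⟩ := hz ⟨x, hx⟩
  refine ⟨k, Subtype.ext ?_⟩
  have h1 : QuotientGroup.mk' N ((a : ↥(P : Subgroup G)) : G) = 1 :=
    (QuotientGroup.eq_one_iff _).mpr (by simpa [mem_subgroupOf] using ha)
  have h2 : x = (z : G) ^ k * (a : G) := by
    have := congrArg Subtype.val hxe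
    simpa using this
  simp only [SubgroupClass.coe_zpow]
  rw [h2, map_mul, h1, mul_one, map_zpow]

/-- A central `p`-element of a perfect normal subgroup lies in the Frattini subgroup of `P`:
transfer. -/
theorem mem_frat_of_central (P : Sylow p G) (E : Subgroup G) [hE : E.Normal] (hperf : ⁅E, E⁆ = E)
    {z : G} (hzP : z ∈ (P : Subgroup G)) (hzE : z ∈ E) (hc : ∀ e ∈ E, e * z = z * e) :
    z ∈ frat P := by
  classical
  let H : Subgroup E := (P : Subgroup G).subgroupOf E
  let ϕ : H →* Abelianization H := Abelianization.of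
  let z' : E := ⟨z, hzE⟩
  have key : ∀ (k : ℕ) (g₀ : E), g₀⁻¹ * z' ^ k * g₀ ∈ H → g₀⁻¹ * z' ^ k * g₀ = z' ^ k := by
    intro k g₀ _
    have h1 : Commute z' g₀ := Subtype.ext (hc g₀ g₀.2).symm
    have h2 : (z' ^ k) * g₀ = g₀ * z' ^ k := (h1.pow_left k).eq
    rw [mul_assoc, h2]
    group
  have h1 := MonoidHom.transfer_eq_pow ϕ z' key
  have hT : ϕ.transfer z' = 1 := by
    have htop : commutator E = ⊤ := by
      apply map_injective E.subtype_injective
      rw [map_subtype_commutator, ← MonoidHom.range_eq_map, range_subtype, hperf]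
    have : z' ∈ commutator E := htop ▸ mem_top _
    exact Abelianization.commutator_subset_ker _ this
  rw [hT] at h1
  have h2 : (⟨z' ^ H.index, MonoidHom.transfer_eq_pow_aux z' key⟩ : H) ∈ commutator H := by
    rw [← Abelianization.ker_of]
    exact h1.symm
  -- map to `G`
  let ι : H →* G := E.subtype.comp H.subtype
  have h3 : ι ⟨z' ^ H.index, MonoidHom.transfer_eq_pow_aux z' key⟩ ∈ der P := by
    have h4 : (commutator H).map ι ≤ der P := by
      rw [_root_.commutator_def, map_commutator, der, map_subtype_commutator]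
      have : (⊤ : Subgroup H).map ι ≤ (P : Subgroup G) := by
        rintro _ ⟨x, -, rfl⟩
        exact x.2
      exact commutator_mono this this
    exact h4 ⟨_, h2, rfl⟩
  have h4 : z ^ H.index ∈ frat P := by
    have := der_le_frat P h3
    simpa [ι, z'] using this
  -- invert the exponent
  have hidx : H.index.Coprime p := by
    have h5 : (P : Subgroup G).relIndex E ∣ (P : Subgroup G).index :=
      Cfsg.Agent.Lib.Core.SylowFacts.relIndex_dvd_index_of_normal_right _ _
    have h6 : ¬ p ∣ (P : Subgroup G).index := P.not_dvd_index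
    refine ((Nat.Prime.coprime_iff_not_dvd hp.out).mpr (fun h7 => h6 (h7.trans h5))).symm
  have hor : (H.index).Coprime (orderOf z) := by
    have h5 : IsPGroup p (P : Subgroup G) := P.isPGroup'
    obtain ⟨n, hn⟩ := h5.exists_card_eq
    have h6 : orderOf z ∣ p ^ n := by
      rw [← hn]
      exact Subgroup.orderOf_dvd_natCard _ hzP
    obtain ⟨k, -, hk⟩ := (Nat.dvd_prime_pow hp.out).mp h6
    rw [hk]
    exact hidx.pow_right k
  obtain ⟨m, hm⟩ := exists_pow_eq_self_of_coprime hor
  rw [← hm]
  exact pow_mem h4 m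

open Cfsg.Agent.Lib.Components.CyclicSylow in
/-- The key step in the abelian case: the minimal normal subgroup is all of `O_p(G)`. -/
theorem pCore_eq_of_abelian (P : Sylow p G) (hna : ¬ IsMulCommutative (P : Subgroup G))
    (hgen : (frattini ↥(P : Subgroup G)).index = p ^ 2) (hcore : pPrimeCore p G = ⊥)
    (hfrat : (frat P).normalCore = ⊥) (M : Subgroup G) [hMn : M.Normal] (hMne : M ≠ ⊥)
    (hMmin : ∀ N : Subgroup G, N.Normal → N ≠ ⊥ → M ≤ N) (hMF : M ≤ pCore p G)
    (hFab : IsMulCommutative (pCore p G)) : pCore p G = M := by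
  classical
  by_contra hne
  have hp' : p.Prime := hp.out
  set F := pCore p G with hF
  have hFn : F.Normal := pCore_normal p G
  have hFp : IsPGroup p F := pCore_isPGroup
  have hMp : IsPGroup p M := hFp.to_le hMF
  have hMP : M ≤ P := hMF.trans (pCore_le_sylow P)
  let π := QuotientGroup.mk' M
  have hπ : Function.Surjective π := QuotientGroup.mk'_surjective M
  let Pb : Sylow p (G ⧸ M) := P.mapSurjective hπ
  have hPb : (Pb : Subgroup (G ⧸ M)) = (P : Subgroup G).map π := rfl
  have hcyc : IsCyclic (Pb : Subgroup (G ⧸ M)) := by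
    rw [hPb]
    exact isCyclic_map P hgen M (not_inf_le_frat P hcore hfrat M hMne)
  -- the key claim
  have hO : pPrimeCore p (G ⧸ M) = ⊥ := by
    set O := pPrimeCore p (G ⧸ M) with hOdef
    have hOn : O.Normal := pPrimeCore_normal p _
    have hOc : (Nat.card O).Coprime p := pPrimeCore_coprime
    set Y := O.comap π with hYdef
    have hYn : Y.Normal := hOn.comap _
    have hMY : M ≤ Y := by
      intro m hm
      have h1 : π m = 1 := (QuotientGroup.eq_one_iff m).mpr hm
      change π m ∈ O
      rw [h1]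
      exact O.one_mem
    have hcardY : Nat.card Y = Nat.card O * Nat.card M :=
      Cfsg.Agent.Lib.Solvable.Hall.card_comap_mk' M O
    let M' : Subgroup Y := M.subgroupOf Y
    have hM'n : M'.Normal := inferInstance
    have hcardM' : Nat.card M' = Nat.card M :=
      Nat.card_congr (subgroupOfEquivOfLe hMY).toEquiv
    have hidx : M'.index = Nat.card O := by
      have h1 := M'.card_mul_index
      rw [hcardM', hcardY, mul_comm] at h1
      exact Nat.eq_of_mul_eq_mul_right Nat.card_pos h1
    obtain ⟨n, hn⟩ := hMp.exists_card_eq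
    have hcop : Nat.Coprime (Nat.card M') M'.index := by
      rw [hcardM', hidx, hn]
      exact (hOc.symm.pow_left n)
    obtain ⟨H, hH⟩ := exists_right_complement'_of_coprime hcop
    have hcardH : Nat.card H = Nat.card O := by
      have h1 := hH.card_mul
      have h2 := M'.card_mul_index
      rw [← h2] at h1
      rw [← hidx]
      exact Nat.eq_of_mul_eq_mul_left Nat.card_pos h1
    let Y₀ : Subgroup G := H.map Y.subtype
    have hcardY₀ : Nat.card Y₀ = Nat.card O :=
      (Subgroup.card_map_of_injective Y.subtype_injective).trans hcardH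
    have hdec : ∀ y : Y, ∃ m ∈ M', ∃ u ∈ H, m * u = y := by
      intro y
      have hy : y ∈ M' ⊔ H := hH.sup_eq_top ▸ mem_top y
      exact mem_sup_of_normal_left.mp hy
    -- `[F, Y] ≤ M`
    have hFY : ∀ f ∈ F, ∀ y ∈ Y, ⁅f, y⁆ ∈ M := by
      intro f hf y hy
      have h1 : π f ∈ pCore p (G ⧸ M) := map_pCore_le_of_surjective π hπ ⟨f, hf, rfl⟩
      have h2 : Commute (π f) (π y) := commute_of_mem_pCore_of_mem_pPrimeCore h1 hy
      rw [← QuotientGroup.eq_one_iff]
      change π ⁅f, y⁆ = 1
      rw [map_commutatorElement, commutatorElement_eq_one_iff_commute]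
      exact h2
    have hY₀Y : Y₀ ≤ Y := map_subtype_le _
    -- coprime action
    have hcF : (Nat.card Y₀).Coprime (Nat.card F) := by
      obtain ⟨m, hm⟩ := hFp.exists_card_eq
      rw [hcardY₀, hm]
      exact hOc.pow_right m
    have hfix := Cfsg.Agent.Lib.Coprime.Abelian.fixed_sup_commutator (A := Y₀) (V := F)
      (by rw [normalizer_eq_top_iff.mpr hFn]; exact le_top) hcF
    have hnot : ¬ F ⊓ centralizer (Y₀ : Set G) ≤ M := by
      intro hle
      have hcomm : ⁅F, Y₀⁆ ≤ M := by
        rw [commutator_le]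
        intro f hf y hy
        exact hFY f hf y (hY₀Y hy)
      have : F ≤ M := by
        rw [← hfix]
        exact sup_le hle hcomm
      exact hne (le_antisymm this hMF)
    obtain ⟨c, ⟨hcF', hcC⟩, hcM⟩ := SetLike.not_le_iff_exists.mp hnot
    -- `c` centralizes `Y`
    have hcY : c ∈ F ⊓ centralizer (Y : Set G) := by
      refine mem_inf.mpr ⟨hcF', mem_centralizer_iff.mpr ?_⟩
      intro y hy
      obtain ⟨m, hm, u, hu, hmu⟩ := hdec ⟨y, hy⟩
      have hy' : y = (m : G) * (u : G) := by
        have := congrArg Subtype.val hmu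
        simpa using this.symm
      have h1 : Commute (m : G) c := by
        have hm1 : (m : G) ∈ F := hMF hm
        have := hFab.is_comm.comm (⟨m, hm1⟩ : F) ⟨c, hcF'⟩
        exact congrArg Subtype.val this
      have h2 : Commute (u : G) c := by
        have hu' : (u : G) ∈ Y₀ := ⟨u, hu, rfl⟩
        exact (mem_centralizer_iff.mp hcC) _ hu'
      rw [hy']
      exact (h1.mul_left h2).eq
    have hCn : (F ⊓ centralizer (Y : Set G)).Normal := inferInstance
    have hCne : F ⊓ centralizer (Y : Set G) ≠ ⊥ := by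
      intro h
      rw [h, mem_bot] at hcY
      exact hcM (hcY ▸ M.one_mem)
    have hMC : M ≤ centralizer (Y : Set G) := (hMmin _ hCn hCne).trans inf_le_right
    -- `H` is normal in `Y`
    have hHn : H.Normal := by
      constructor
      intro u hu g
      obtain ⟨m, hm, v, hv, rfl⟩ := hdec g
      have hcomm : m * (v * u * v⁻¹) * m⁻¹ = v * u * v⁻¹ := by
        have h1 : Commute (m : Y) (v * u * v⁻¹) := by
          apply Subtype.ext
          have := (mem_centralizer_iff.mp (hMC hm)) _ (v * u * v⁻¹ : Y).2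
          exact this.symm
        rw [h1.eq]
        group
      have : m * v * u * (m * v)⁻¹ = m * (v * u * v⁻¹) * m⁻¹ := by group
      rw [this, hcomm]
      exact H.mul_mem (H.mul_mem hv hu) (H.inv_mem hv)
    have hHc : (Nat.card H).Coprime p := by rw [hcardH]; exact hOc
    have hH1 : H ≤ pPrimeCore p Y := le_pPrimeCore hHn hHc
    have hH2 : (pPrimeCore p Y).map Y.subtype ≤ pPrimeCore p G :=
      map_pPrimeCore_le_of_isSubnormal hYn.isSubnormal
    have hH3 : H = ⊥ := by
      rw [eq_bot_iff]
      intro x hx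
      have : (x : G) ∈ pPrimeCore p G := hH2 ⟨x, hH1 hx, rfl⟩
      rw [hcore, mem_bot] at this
      exact mem_bot.mpr (Subtype.ext this)
    have h1 : Nat.card O = 1 := by
      rw [← hcardH, hH3]
      exact Subgroup.card_bot
    exact Subgroup.card_eq_one.mp h1
  -- no components in the quotient
  have hFb : F.map π ≠ ⊥ := by
    intro h
    have : F ≤ M := by
      intro f hf
      have h1 : π f ∈ F.map π := ⟨f, hf, rfl⟩
      rw [h, mem_bot] at h1
      exact (QuotientGroup.eq_one_iff f).mp h1
    exact hne (le_antisymm this hMF)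
  have hFbO : F.map π ≤ pCore p (G ⧸ M) := map_pCore_le_of_surjective π hπ
  have hl : layer (G ⧸ M) = ⊥ := by
    by_contra hl
    obtain ⟨K, hK, -⟩ : ∃ K ∈ {K : Subgroup (G ⧸ M) | IsComponent K}, K ≠ ⊥ := by
      by_contra hcon
      push Not at hcon
      exact hl (sSup_eq_bot.mpr hcon)
    have := pCore_eq_bot_of_isComponent hO (isCyclic_sylow Pb hcyc) hK
    rw [this, le_bot_iff] at hFbO
    exact hFb hFbO
  have hPbn : (Pb : Subgroup (G ⧸ M)).Normal := normal_of_layer_eq_bot hO hl Pb hcyc
  have hPn : (P : Subgroup G).Normal := by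
    have h1 : ((P : Subgroup G).map π).comap π = P := by
      rw [comap_map_eq, QuotientGroup.ker_mk']
      exact sup_eq_left.mpr hMP
    rw [← h1]
    exact Subgroup.Normal.comap hPbn π
  have hPF : (P : Subgroup G) ≤ F := le_pCore hPn P.isPGroup'
  apply hna
  refine ⟨⟨fun a b => Subtype.ext ?_⟩⟩
  have := hFab.is_comm.comm (⟨a, hPF a.2⟩ : F) ⟨b, hPF b.2⟩
  have h2 := congrArg Subtype.val this
  simpa using h2

/-- The intersection of all nontrivial normal subgroups. -/
def minNormal (G : Type u) [Group G] : Subgroup G := sInf {N : Subgroup G | N.Normal ∧ N ≠ ⊥}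

omit [Finite G] hp in
theorem minNormal_normal : (minNormal G).Normal := by
  constructor
  intro x hx g
  rw [minNormal, mem_sInf] at hx ⊢
  rintro N ⟨hN, hne⟩
  exact hN.conj_mem _ (hx N ⟨hN, hne⟩) g

omit [Finite G] hp in
theorem minNormal_le {N : Subgroup G} (hN : N.Normal) (hne : N ≠ ⊥) : minNormal G ≤ N :=
  sInf_le ⟨hN, hne⟩

theorem der_le_minNormal (P : Sylow p G) (hgen : (frattini ↥(P : Subgroup G)).index = p ^ 2)
    (hcore : pPrimeCore p G = ⊥) (hfrat : (frat P).normalCore = ⊥) : der P ≤ minNormal G := by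
  refine le_sInf ?_
  rintro N ⟨hN, hne⟩
  exact der_le_of_not_le_frat P hgen N (by rw [normalizer_eq_top_iff.mpr hN]; exact le_top)
    (not_inf_le_frat P hcore hfrat N hne)

open Cfsg.Agent.Lib.Components.CyclicSylow Cfsg.Agent.Lib.Components.Layer in
/-- The abelian case. -/
theorem genFit_eq_of_abelian (P : Sylow p G) (hna : ¬ IsMulCommutative (P : Subgroup G))
    (hgen : (frattini ↥(P : Subgroup G)).index = p ^ 2) (hcore : pPrimeCore p G = ⊥)
    (hfrat : (frat P).normalCore = ⊥) (M : Subgroup G) [hMn : M.Normal] (hMne : M ≠ ⊥)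
    (hMmin : ∀ N : Subgroup G, N.Normal → N ≠ ⊥ → M ≤ N) (hab : ⁅M, M⁆ = ⊥) :
    generalizedFittingSubgroup G = M := by
  have hMc : IsMulCommutative M := by
    refine ⟨⟨fun a b => Subtype.ext ?_⟩⟩
    have h2 : ⁅(a : G), (b : G)⁆ ∈ ⁅M, M⁆ := commutator_mem_commutator a.2 b.2
    rw [hab, mem_bot, commutatorElement_eq_one_iff_mul_comm] at h2
    simpa using h2
  have hMnil : Group.IsNilpotent M := by
    let _ : CommGroup M := { (inferInstance : Group M) with mul_comm := hMc.is_comm.comm }
    exact CommGroup.isNilpotent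
  have hMfit : M ≤ fittingSubgroup G := le_fittingSubgroup hMn hMnil
  have hfit : fittingSubgroup G = pCore p G := fitting_eq_pCore hcore
  have hMF : M ≤ pCore p G := hfit ▸ hMfit
  have hMP : M ≤ P := hMF.trans (pCore_le_sylow P)
  have hl : layer G = ⊥ := by
    by_contra hl
    have hML : M ≤ layer G := hMmin _ layer_normal hl
    have hfr : M ≤ frat P := by
      intro z hz
      apply mem_frat_of_central P (layer G) layer_perfect (hMP hz) (hML hz)
      intro e he
      have h1 : ⁅e, z⁆ ∈ ⁅layer G, fittingSubgroup G⁆ := commutator_mem_commutator he (hMfit hz)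
      rw [commutator_layer_fitting, mem_bot, commutatorElement_eq_one_iff_mul_comm] at h1
      exact h1
    exact not_inf_le_frat P hcore hfrat M hMne (inf_le_left.trans hfr)
  have hFab : IsMulCommutative (pCore p G) := by
    have h1 : ⁅pCore p G, pCore p G⁆ ≤ frat P := by
      refine le_trans ?_ (der_le_frat P)
      rw [der, map_subtype_commutator]
      exact commutator_mono (pCore_le_sylow P) (pCore_le_sylow P)
    have hFn : (pCore p G).Normal := pCore_normal p G
    have h2 : ⁅pCore p G, pCore p G⁆ ≤ (frat P).normalCore := normal_le_normalCore.mpr h1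
    rw [hfrat, le_bot_iff] at h2
    refine ⟨⟨fun a b => Subtype.ext ?_⟩⟩
    have h3 : ⁅(a : G), (b : G)⁆ ∈ ⁅pCore p G, pCore p G⁆ := commutator_mem_commutator a.2 b.2
    rw [h2, mem_bot, commutatorElement_eq_one_iff_mul_comm] at h3
    simpa using h3
  have := pCore_eq_of_abelian P hna hgen hcore hfrat M hMne hMmin hMF hFab
  rw [generalizedFittingSubgroup, hl, bot_sup_eq, hfit, this]

open Cfsg.Agent.Lib.Components.CyclicSylow Cfsg.Agent.Lib.Components.Central in
/-- The perfect case. -/
theorem genFit_eq_of_perfect (hcore : pPrimeCore p G = ⊥) (M : Subgroup G) [hMn : M.Normal]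
    (hMne : M ≠ ⊥) (hMmin : ∀ N : Subgroup G, N.Normal → N ≠ ⊥ → M ≤ N) (hperf : ⁅M, M⁆ = M) :
    fittingSubgroup G = ⊥ ∧ generalizedFittingSubgroup G = M := by
  have hfit : fittingSubgroup G = ⊥ := by
    by_contra hne
    have hle : M ≤ fittingSubgroup G := hMmin _ inferInstance hne
    have hnil : Group.IsNilpotent M := nilpotent_of_subgroup_le hle fittingSubgroup_isNilpotent
    have htop : commutator M = ⊤ := by
      apply map_injective M.subtype_injective
      rw [map_subtype_commutator, ← MonoidHom.range_eq_map, range_subtype, hperf]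
    have hnt : (⊤ : Subgroup M) ≠ ⊥ := by
      intro h
      apply hMne
      rw [eq_bot_iff]
      intro x hx
      have : (⟨x, hx⟩ : M) ∈ (⊤ : Subgroup M) := mem_top _
      rw [h, mem_bot] at this
      exact mem_bot.mpr (congrArg Subtype.val this)
    have := Cfsg.Agent.Lib.PGroups.LowerCentral.commutator_top_lt (⊤ : Subgroup M) hnt
    rw [← _root_.commutator_def, htop] at this
    exact lt_irrefl _ this
  refine ⟨hfit, ?_⟩
  have hmin : ∀ N' : Subgroup G, N'.Normal → N' ≤ M → N' = ⊥ ∨ N' = M := by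
    intro N' hN' hle
    by_cases h : N' = ⊥
    · exact Or.inl h
    · exact Or.inr (le_antisymm hle (hMmin N' hN' h))
  have h1 : M ≤ layer G := minimal_normal_le_layer hfit hMne hMn hmin
  have h2 : layer G ≤ M := by
    apply sSup_le
    intro K hK
    have hZ := center_component_eq_bot_of_fitting hfit hK
    obtain ⟨hne, hmin'⟩ := normalClosure_minimal hK hZ
    have h3 : M ≤ normalClosure (K : Set G) := hMmin _ normalClosure_normal hne
    rcases hmin' M hMn h3 with h4 | h4
    · exact absurd h4 hMne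
    · rw [h4]
      exact subset_normalClosure
  rw [generalizedFittingSubgroup, hfit, sup_bot_eq]
  exact le_antisymm h2 h1

/-! ### Transitivity on components -/

theorem sSup_conj_mem_normalizer (S : Set (Subgroup G)) {x : G}
    (hx : ∀ C ∈ S, C.map (MulAut.conj x).toMonoidHom ∈ S) : x ∈ normalizer ((sSup S : Subgroup G) : Set G) := by
  apply mem_normalizer_of_conj_mem
  have h1 : sSup S ≤ (sSup S).comap (MulAut.conj x).toMonoidHom := by
    apply sSup_le
    intro C hC
    rw [← map_le_iff_le_comap]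
    exact le_sSup (hx C hC)
  intro t ht
  exact h1 ht

/-- Commuting with all the members. -/
theorem sSup_le_centralizer_of_ne (S : Set (Subgroup G)) {C : Subgroup G} (hC : IsComponent C)
    (hS : ∀ D ∈ S, IsComponent D) (hne : C ∉ S) :
    sSup S ≤ centralizer (C : Set G) := by
  apply sSup_le
  intro D hD
  have hDC : D ≠ C := fun h => hne (h ▸ hD)
  rcases component_eq_or_commutator_eq_bot (hS D hD) hC with h | h
  · exact absurd h hDC
  · exact (commutator_eq_bot_iff_le_centralizer).mp h

theorem sSup_components_subnormal (S : Set (Subgroup G)) (hS : ∀ D ∈ S, IsComponent D) :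
    (sSup S : Subgroup G).IsSubnormal := by
  have hle : sSup S ≤ layer G := sSup_le fun D hD => le_layer_of_isComponent (hS D hD)
  refine IsSubnormal.step _ (layer G) hle layer_normal.isSubnormal ?_
  rw [normal_subgroupOf_iff_le_normalizer hle]
  apply sSup_le
  intro C hC
  by_cases hCS : C ∈ S
  · exact (le_sSup hCS).trans le_normalizer
  · have h1 := sSup_le_centralizer_of_ne S hC hS hCS
    have h2 : ⁅sSup S, C⁆ = ⊥ := commutator_eq_bot_iff_le_centralizer.mpr h1
    have h3 : ⁅C, sSup S⁆ = ⊥ := by rw [commutator_comm, h2]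
    exact le_normalizer_of_commutator_eq_bot h3

theorem der_le_sSup_components (P : Sylow p G) (hgen : (frattini ↥(P : Subgroup G)).index = p ^ 2)
    (hcore : pPrimeCore p G = ⊥) (S : Set (Subgroup G)) (hS : ∀ D ∈ S, IsComponent D)
    (hinv : ∀ x ∈ (P : Subgroup G), ∀ C ∈ S, C.map (MulAut.conj x).toMonoidHom ∈ S)
    {C : Subgroup G} (hC : C ∈ S) : der P ≤ sSup S := by
  have hPN : (P : Subgroup G) ≤ normalizer ((sSup S : Subgroup G) : Set G) :=
    fun x hx => sSup_conj_mem_normalizer S (hinv x hx)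
  apply der_le_of_not_le_frat P hgen _ hPN
  intro h
  have hp1 : IsPGroup p (sSup S : Subgroup G) :=
    isPGroup_of_inf_le_frat P hcore _ (sSup_components_subnormal S hS) hPN h
  have hCle : C ≤ sSup S := le_sSup hC
  have hp2 : IsPGroup p C := hp1.to_le hCle
  exact quasisimple_not_nilpotent (hS C hC).2 (isPGroup_isNilpotent hp2)

/-- **Transitivity on components**. -/
theorem components_transitive (P : Sylow p G) (hna : ¬ IsMulCommutative (P : Subgroup G))
    (hgen : (frattini ↥(P : Subgroup G)).index = p ^ 2) (hcore : pPrimeCore p G = ⊥)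
    (hfit : fittingSubgroup G = ⊥) (K L : Subgroup G) (hK : IsComponent K) (hL : IsComponent L) :
    ∃ x ∈ (P : Subgroup G), L = K.map (MulAut.conj x).toMonoidHom := by
  by_contra hcon
  let orb : Set (Subgroup G) := {C | ∃ x ∈ (P : Subgroup G), C = K.map (MulAut.conj x).toMonoidHom}
  let S₂ : Set (Subgroup G) := {C | IsComponent C ∧ C ∉ orb}
  have horb : ∀ D ∈ orb, IsComponent D := by
    rintro D ⟨x, -, rfl⟩
    exact isComponent_conj x hK
  have hS₂ : ∀ D ∈ S₂, IsComponent D := fun D hD => hD.1
  have hconj : ∀ (C : Subgroup G) (x y : G), (C.map (MulAut.conj y).toMonoidHom).map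
      (MulAut.conj x).toMonoidHom = C.map (MulAut.conj (x * y)).toMonoidHom := by
    intro C x y
    rw [map_map]
    congr 1
    ext t
    simp [mul_assoc]
  have hone : ∀ (C : Subgroup G), C.map (MulAut.conj (1 : G)).toMonoidHom = C := by
    intro C
    ext t
    simp
  have hinv₁ : ∀ x ∈ (P : Subgroup G), ∀ C ∈ orb, C.map (MulAut.conj x).toMonoidHom ∈ orb := by
    rintro x hx _ ⟨y, hy, rfl⟩
    exact ⟨x * y, mul_mem hx hy, hconj K x y⟩
  have hinv₂ : ∀ x ∈ (P : Subgroup G), ∀ C ∈ S₂, C.map (MulAut.conj x).toMonoidHom ∈ S₂ := by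
    rintro x hx C ⟨hC, hCo⟩
    refine ⟨isComponent_conj x hC, ?_⟩
    intro hmem
    apply hCo
    have := hinv₁ x⁻¹ (inv_mem hx) _ hmem
    rwa [hconj, inv_mul_cancel, hone] at this
  have hKorb : K ∈ orb := ⟨1, one_mem _, (hone K).symm⟩
  have hLS : L ∈ S₂ := ⟨hL, hcon⟩
  have h1 := der_le_sSup_components P hgen hcore orb horb hinv₁ hKorb
  have h2 := der_le_sSup_components P hgen hcore S₂ hS₂ hinv₂ hLS
  apply der_ne_bot P hna
  rw [eq_bot_iff]
  intro x hx
  have hx1 := h1 hx
  have hx2 := h2 hx
  have hxL : x ∈ layer G := (sSup_le fun D hD => le_layer_of_isComponent (horb D hD) :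
    sSup orb ≤ layer G) hx1
  have hxc : x ∈ centralizer (layer G : Set G) := by
    apply Cfsg.Agent.Lib.Components.Layer.mem_centralizer_layer_of_forall_component
    intro C hC
    by_cases hCo : C ∈ orb
    · exact sSup_le_centralizer_of_ne S₂ hC hS₂ (fun h => h.2 hCo) hx2
    · exact sSup_le_centralizer_of_ne orb hC horb hCo hx1
  have := Cfsg.Agent.Lib.Components.Layer.mem_fitting_of_mem_layer_of_mem_centralizer hxL hxc
  rwa [hfit] at this

end Cfsg.Agent.Lib.FG7.Tate2Gen
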